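import Cfsg.Agent.Components.BGNP.Final
import Cfsg.Agent.Components.Control.TransferNormal
import Cfsg.Agent.PLocal.FFSLTwo.Setup
import Cfsg.Agent.Transfer.Basic
import Cfsg.Agent.BlockPair.Small
import Cfsg.Agent.Presentations.BinaryIcosahedral

/-!
The subgroup generated by the elements of order prime to `p`: commutators with normal `p`-subgroups, transfer, and the
case of `SL₂`.
-/

set_option autoImplicit false
set_option linter.unusedSectionVars false
set_option linter.style.haveILetI false

namespace Cfsg.Lib.PushBlocks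

open Subgroup Matrix Cfsg.Lib.BGN Cfsg.Lib.BGN.P Cfsg.Lib.Known.AutPSL2
open scoped commutatorElement

universe u v

variable {p : ℕ} [hp : Fact p.Prime] {G : Type u} [Group G] [Finite G]

/-- shorthand -/
abbrev res (p : ℕ) (G : Type u) [Group G] : Subgroup G := Cfsg.pResidual p G

theorem res_normal : (res p G).Normal := inferInstanceAs (Cfsg.pResidual p G).Normal

theorem res_le_iff {K : Subgroup G} : res p G ≤ K ↔ ∀ g : G, (orderOf g).Coprime p → g ∈ K :=
  ⟨fun h _ hg => h (Cfsg.Lib.Transfer.mem_pResidual_of_coprime hg), fun h => (closure_le _).2 h⟩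

theorem triv_iff {N M : Subgroup G} [N.Normal] : Triv p N M ↔ ⁅M, res p G⁆ ≤ N := by
  constructor
  · intro h
    have hle : res p G ≤ fixN M N := res_le_iff.2 h
    exact commutator_le.2 fun x hx g hg => hle hg x hx
  · exact fun h g hg x hx => h (commutator_mem_commutator hx (Cfsg.Lib.Transfer.mem_pResidual_of_coprime hg))

/-- commutators with the residual are absorbed -/
theorem res_comm_absorb {M : Subgroup G} [M.Normal] (hM : IsPGroup p M) :
    ⁅⁅M, res p G⁆, res p G⁆ = ⁅M, res p G⁆ := by
  haveI := res_normal (p := p) (G := G)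
  set N₂ := ⁅M, res p G⁆
  set N₁ := ⁅N₂, res p G⁆
  have h21 : N₁ ≤ N₂ := commutator_mono (commutator_le_left M (res p G)) le_rfl
  refine le_antisymm h21 ?_
  exact triv_iff.1 (Triv.trans (hM.to_le (commutator_le_left M (res p G))) (triv_iff.2 le_rfl) (triv_iff.2 le_rfl))

/-- elements of `p`-power order of the residual lie in its commutator subgroup -/
theorem mem_res_commutator {x : G} (hx : x ∈ res p G) {k : ℕ} (hk : x ^ p ^ k = 1) :
    x ∈ ⁅res p G, res p G⁆ := by
  set E := res p G
  let q : ↥E →* Abelianization ↥E := Abelianization.of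
  let K : Subgroup (Abelianization ↥E) :=
    { carrier := {a | (orderOf a).Coprime p}
      one_mem' := by simp
      mul_mem' := fun {a b} ha hb =>
        Nat.Coprime.coprime_dvd_left (Commute.all a b).orderOf_mul_dvd_mul_orderOf (Nat.Coprime.mul_left ha hb)
      inv_mem' := fun {a} ha => by simpa using ha }
  have hle : (⊤ : Subgroup ↥E) ≤ K.comap q := by
    intro e _
    have key : E ≤ (K.comap q).map E.subtype := by
      refine res_le_iff.2 fun g hg => ⟨⟨g, Cfsg.Lib.Transfer.mem_pResidual_of_coprime hg⟩, ?_, rfl⟩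
      exact Nat.Coprime.coprime_dvd_left (orderOf_map_dvd q _) (by rwa [Subgroup.orderOf_mk])
    obtain ⟨e', he', hee⟩ := key e.2
    exact (Subtype.ext hee : e' = e) ▸ he'
  have h1 : (orderOf (q ⟨x, hx⟩)).Coprime p := hle (mem_top _)
  have h2 : orderOf (q ⟨x, hx⟩) ∣ p ^ k :=
    orderOf_dvd_of_pow_eq_one (by rw [← map_pow, show (⟨x, hx⟩ : ↥E) ^ p ^ k = 1 from Subtype.ext hk, map_one])
  have h3 : q ⟨x, hx⟩ = 1 :=
    orderOf_eq_one_iff.1 (Nat.eq_one_of_dvd_coprimes (h1.pow_right k) dvd_rfl h2)
  have h4 : (⟨x, hx⟩ : ↥E) ∈ commutator ↥E := (QuotientGroup.eq_one_iff _).1 h3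
  have h5 := mem_map_of_mem E.subtype h4
  rwa [map_subtype_commutator] at h5

/-- transfer inside the residual: a normal `p`-subgroup central modulo `D` lies in `D` -/
theorem le_of_central (S : Sylow p G) {D U : Subgroup G} [U.Normal]
    (hD : ⁅res p G ⊓ (S : Subgroup G), res p G ⊓ (S : Subgroup G)⁆ ≤ D) (hUS : U ≤ (S : Subgroup G))
    (hUE : U ≤ res p G) (hfix : ∀ u ∈ U, ∀ e ∈ res p G, ⁅u, e⁆ ∈ D) : U ≤ D := by
  haveI := res_normal (p := p) (G := G)
  set E := res p G
  obtain ⟨P, hP⟩ := Cfsg.Lib.FFSLTwo.card_sylow_inf S E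
  haveI : (U.subgroupOf E).Normal := inferInstance
  intro u hu
  obtain ⟨k, hk⟩ := S.2.to_le hUS ⟨u, hu⟩
  have hx := mem_res_commutator (hUE hu) (k := k) (by simpa using congrArg Subtype.val hk)
  refine (Cfsg.Lib.Control.inf_commutator_le_of_central P (D := D.subgroupOf E) (U := U.subgroupOf E) ?_ ?_ ?_
    (x := ⟨u, hUE hu⟩) ⟨hu, ?_⟩ : (⟨u, hUE hu⟩ : ↥E) ∈ D.subgroupOf E)
  · rw [subgroupOf, ← map_le_iff_le_comap, map_commutator, hP]
    rwa [inf_comm (S : Subgroup G) E]
  · intro a ha
    have h1 : (a : G) ∈ (S : Subgroup G) ⊓ E := ⟨hUS (mem_subgroupOf.1 ha), a.2⟩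
    rw [← hP] at h1
    obtain ⟨b, hb, hba⟩ := h1
    exact (Subtype.ext hba : b = a) ▸ hb
  · exact fun a ha g => mem_subgroupOf.2 (hfix a (mem_subgroupOf.1 ha) g g.2)
  · rw [← map_subtype_commutator] at hx
    obtain ⟨y, hy, hyu⟩ := hx
    exact (Subtype.ext hyu : y = ⟨u, hUE hu⟩) ▸ hy

theorem map_res {H : Type v} [Group H] [Finite H] (f : G →* H) (hf : Function.Surjective f) :
    (res p G).map f = res p H := by
  refine le_antisymm (Cfsg.Lib.Transfer.pResidual_map_le f) (res_le_iff.2 fun h hh => ?_)
  obtain ⟨g, rfl⟩ := hf h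
  obtain ⟨k, m, hm, hkm⟩ := Nat.exists_eq_pow_mul_and_not_dvd (orderOf_pos g).ne' p hp.out.ne_one
  have hg : g ^ p ^ k ∈ res p G := Cfsg.Lib.Transfer.mem_pResidual_of_coprime (by
    rw [orderOf_pow_of_dvd (pow_ne_zero _ hp.out.ne_zero) ⟨m, hkm⟩, hkm,
      Nat.mul_div_cancel_left _ (pow_pos hp.out.pos _)]
    exact ((hp.out.coprime_iff_not_dvd).2 hm).symm)
  obtain ⟨j, hj⟩ := exists_pow_eq_self_of_coprime (x := f g) (n := p ^ k) (Nat.Coprime.pow_left k hh.symm)
  rw [← hj, ← map_pow, ← map_pow]
  exact mem_map_of_mem f (pow_mem hg j)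

section SpecialLin

variable {F : Type} [Field F] [Fintype F]

local notation "SL" => Matrix.SpecialLinearGroup (Fin 2) F

omit [Fintype F] in
theorem sl_closure_eq_top (H : Subgroup SL) (hu : ∀ x : F, uS x ∈ H) (hv : ∀ x : F, vS x ∈ H) : H = ⊤ := by
  refine Cfsg.Lib.Classical.eq_top_of_transvection_mem _ fun i j hij c => ?_
  fin_cases i <;> fin_cases j
  · exact absurd rfl hij
  · convert hu c using 2
    refine sl_ext ?_
    rw [Matrix.SpecialLinearGroup.transvection_coe, coe_uS]
    ext r s; fin_cases r <;> fin_cases s <;> simp [Matrix.single, Matrix.transvection]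
  · convert hv c using 2
    refine sl_ext ?_
    rw [Matrix.SpecialLinearGroup.transvection_coe, coe_vS]
    ext r s; fin_cases r <;> fin_cases s <;> simp [Matrix.single, Matrix.transvection]
  · exact absurd rfl hij

theorem uS_pow_char [CharP F p] (x : F) : (uS x : SL) ^ p = 1 := by
  have h : ∀ m : ℕ, (uS x : SL) ^ m = uS ((m : F) * x) := by
    intro m
    induction m with
    | zero => exact sl_ext (by rw [pow_zero, cone, coe_uS]; simp [one_fin_two])
    | succ m ih => rw [pow_succ, ih, ← uS_add]; push_cast; ring_nf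
  rw [h, CharP.cast_eq_zero, zero_mul]
  exact sl_ext (by rw [cone, coe_uS]; simp [one_fin_two])

theorem vS_pow_char [CharP F p] (x : F) : (vS x : SL) ^ p = 1 := by
  have h : ∀ m : ℕ, (vS x : SL) ^ m = vS ((m : F) * x) := by
    intro m
    induction m with
    | zero => exact sl_ext (by rw [pow_zero, cone, coe_vS]; simp [one_fin_two])
    | succ m ih => rw [pow_succ, ih, ← vS_add]; push_cast; ring_nf
  rw [h, CharP.cast_eq_zero, zero_mul]
  exact sl_ext (by rw [cone, coe_vS]; simp [one_fin_two])

theorem res_le_commutator_SL [CharP F p] : res p SL ≤ commutator SL := by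
  refine Cfsg.Lib.Transfer.pResidual_le ?_
  intro a
  obtain ⟨g, rfl⟩ := QuotientGroup.mk'_surjective (commutator SL) a
  refine ⟨1, ?_⟩
  let q : SL →* Abelianization SL := Abelianization.of
  let K : Subgroup SL :=
    { carrier := {g | (q g) ^ p = 1}
      one_mem' := by simp
      mul_mem' := fun {a b} ha hb => by
        show (q (a * b)) ^ p = 1
        rw [map_mul, mul_pow, show (q a) ^ p = 1 from ha, show (q b) ^ p = 1 from hb, one_mul]
      inv_mem' := fun {a} ha => by
        show (q a⁻¹) ^ p = 1
        rw [map_inv, inv_pow, show (q a) ^ p = 1 from ha, inv_one] }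
  have hK : K = ⊤ := sl_closure_eq_top K (fun x => by show (q _) ^ p = 1; rw [← map_pow, uS_pow_char, map_one])
    fun x => by show (q _) ^ p = 1; rw [← map_pow, vS_pow_char, map_one]
  have h1 : (q g) ^ p = 1 := (hK.ge (mem_top g) : g ∈ K)
  rw [pow_one, ← map_pow]
  rw [← map_pow] at h1
  exact (QuotientGroup.eq_one_iff _).2 ((QuotientGroup.eq_one_iff _).1 h1)

/-- the residual of `SL₂` in its characteristic -/
theorem res_SL {n : ℕ} (hn : 1 ≤ n) (hF : Fintype.card F = p ^ n) : res p SL = commutator SL := by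
  haveI : CharP F p := charP_of_card_eq_prime_pow hF
  refine le_antisymm res_le_commutator_SL ?_
  haveI := res_normal (p := p) (G := SL)
  set R := res p SL
  set Cm := commutator SL
  rcases le_or_gt 4 (Fintype.card F) with h4 | h4
  · have htop : Cm = ⊤ := Cfsg.Lib.Known.sl2_commutator_eq_top F h4
    rw [htop]
    haveI hQp : IsPGroup p (SL ⧸ R) := Cfsg.Lib.Transfer.isPGroup_quotient_pResidual
    haveI := hQp.isNilpotent
    by_contra hne
    haveI : Nontrivial (SL ⧸ R) :=
      QuotientGroup.nontrivial_iff.2 fun h => hne h.ge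
    have hperf : commutator (SL ⧸ R) = ⊤ := by
      rw [_root_.commutator_def, ← map_top_of_surjective (QuotientGroup.mk' R) (QuotientGroup.mk'_surjective R),
        ← map_commutator, ← _root_.commutator_def, show _root_.commutator SL = ⊤ from htop]
    haveI : Group.IsSolvable (SL ⧸ R) := inferInstance
    exact absurd hperf (Group.IsSolvable.commutator_lt_top_of_nontrivial (SL ⧸ R)).ne
  · have hcard := Cfsg.Lib.Classical.SLTwoTori.card_SL2 (F := F)
    have h2 := Fintype.one_lt_card (α := F)
    obtain hq | hq : Fintype.card F = 2 ∨ Fintype.card F = 3 := by omega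
    · have hp2 : p = 2 := ((Nat.prime_dvd_prime_iff_eq hp.out Nat.prime_two).1
        (by rw [← hq, hF]; exact dvd_pow_self p (by omega)))
      subst hp2
      set x : SL := uS (1 : F) * vS (1 : F)
      have e1 : (1 : F) + 1 = 0 := CharTwo.add_self_eq_zero 1
      have hne : x ≠ 1 := by
        intro h
        have h' := congrArg (fun M : SL => (M : Matrix (Fin 2) (Fin 2) F) 0 1) h
        simp [x, cmul, cone, coe_uS, coe_vS, Matrix.mul_apply, Fin.sum_univ_two] at h'
      have h3 : x ^ 3 = 1 := by
        refine sl_ext ?_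
        rw [show x ^ 3 = x * x * x by rw [pow_succ, pow_two]]
        simp only [x, cmul, coe_uS, coe_vS, cone]
        ext i j
        fin_cases i <;> fin_cases j <;> simp [Matrix.mul_apply, Fin.sum_univ_two, e1]
      have hxR : x ∈ R := Cfsg.Lib.Transfer.mem_pResidual_of_coprime
        (Nat.Coprime.coprime_dvd_left (orderOf_dvd_of_pow_eq_one h3) (by norm_num))
      have hord : orderOf x = 3 := by
        haveI := Fact.mk Nat.prime_three
        exact orderOf_eq_prime h3 hne
      have hR3 : 3 ∣ Nat.card R := by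
        rw [← hord, ← Subgroup.orderOf_mk x hxR]; exact orderOf_dvd_natCard _
      have hidx : R.index ∣ 2 := by
        have h6 : Nat.card SL = 6 := by rw [hcard, hq]; norm_num
        have h7 := R.card_mul_index
        obtain ⟨c, hc⟩ := hR3
        rw [h6, hc] at h7
        have h8 : c * R.index = 2 := by
          apply Nat.eq_of_mul_eq_mul_left (show 0 < 3 by norm_num)
          rw [← mul_assoc]; exact h7
        exact ⟨c, by rw [mul_comm]; exact h8.symm⟩
      show commutator SL ≤ R
      rw [_root_.commutator_def, commutator_le]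
      intro a _ b _
      rw [← QuotientGroup.eq_one_iff, ← QuotientGroup.mk'_apply, map_commutatorElement,
        commutatorElement_eq_one_iff_mul_comm]
      rcases (Nat.dvd_prime Nat.prime_two).1 hidx with h | h
      · haveI : Subsingleton (SL ⧸ R) := (Nat.card_eq_one_iff_unique.1 (by rw [← index_eq_card]; exact h)).1
        exact Subsingleton.elim _ _
      · haveI := Fact.mk Nat.prime_two
        haveI : IsCyclic (SL ⧸ R) := isCyclic_of_prime_card (p := 2) (by rw [← index_eq_card]; exact h)
        exact (IsCyclic.commGroup (α := SL ⧸ R)).mul_comm _ _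
    · have hp3 : p = 3 := ((Nat.prime_dvd_prime_iff_eq hp.out Nat.prime_three).1
        (by rw [← hq, hF]; exact dvd_pow_self p (by omega)))
      subst hp3
      have hs := (Cfsg.Lib.BlockPair.small_sl2 (p := 3) hF).2 (by norm_num)
      intro x hx
      refine Cfsg.Lib.Transfer.mem_pResidual_of_coprime ?_
      have h8 : Nat.card Cm = 8 := by
        rcases hs.2.2 with ⟨hperf, -⟩ | ⟨-, h8⟩
        · exfalso
          have h1' := hs.1
          have h24 : Nat.card SL = 24 := by rw [hcard, hq]; norm_num
          have hd : Nat.card Cm ∣ 24 := h24 ▸ card_subgroup_dvd_card Cm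
          haveI : Nontrivial Cm := Finite.one_lt_card_iff_nontrivial.1 (by change 8 ≤ Nat.card Cm at h1'; omega)
          have hle := Nat.le_of_dvd (by norm_num) hd
          haveI : Group.IsSolvable Cm := Cfsg.Lib.Presentations.isSolvable_of_card_lt_sixty _ _ rfl (by omega)
          exact absurd hperf (Group.IsSolvable.commutator_lt_top_of_nontrivial Cm).ne
        · exact h8
      have hd : orderOf x ∣ 8 := by
        rw [← h8, ← Subgroup.orderOf_mk x hx]; exact orderOf_dvd_natCard _
      exact Nat.Coprime.coprime_dvd_left hd (by norm_num)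

end SpecialLin

end Cfsg.Lib.PushBlocks
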