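import Cfsg.Agent.PushUpBlocks.Residual
import Cfsg.Agent.Components.Misc.BaumannBlockBasic
import Cfsg.Agent.PLocal.FFModule.Section

/-!
Pushing up for a rank-one quotient: what both cases need for the block structure of the residual.
-/

set_option autoImplicit false
set_option linter.unusedSectionVars false
set_option linter.style.haveILetI false

namespace Cfsg.Lib.PushBlocks

open Subgroup Matrix Cfsg.Lib.BGN Cfsg.Lib.BGN.P Cfsg.Lib.Known.AutPSL2
open scoped commutatorElement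

universe u v

variable {p : ℕ} [hp : Fact p.Prime] {G : Type u} [Group G] [Finite G]

/-- `E` has the shape of a block relative to the subgroup `B` -/
def LinShape (p : ℕ) (B E : Subgroup G) : Prop :=
  Cfsg.pResidualOf p E = E ∧ ⁅E, B⁆ = E ∧ ⁅Cfsg.pCoreOf p E, E⁆ = Cfsg.pCoreOf p E ∧
    ∃ (F : Type) (_ : Field F) (_ : Fintype F) (n : ℕ), Fintype.card F = p ^ n ∧
      Nonempty (↥E ⧸ Cfsg.pCore p ↥E ≃* ↥(commutator (Matrix.SpecialLinearGroup (Fin 2) F))) ∧
      Cfsg.ActsAsSL2OnSection F (commutator (Matrix.SpecialLinearGroup (Fin 2) F)) E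
        (Cfsg.omegaOneCenter p (Cfsg.pCoreOf p E))
        (Cfsg.omegaOneCenter p (Cfsg.pCoreOf p E) ⊓ centralizer (E : Set G)) ∧
      (Cfsg.pCoreOf p E = Cfsg.omegaOneCenter p (Cfsg.pCoreOf p E) ∨
        (p = 3 ∧
          Cfsg.ActsAsSL2OnSection F (commutator (Matrix.SpecialLinearGroup (Fin 2) F)) E
            (Cfsg.pCoreOf p E) (Cfsg.omegaOneCenter p (Cfsg.pCoreOf p E)) ∧
          ⁅Cfsg.pCoreOf p E, Cfsg.pCoreOf p E⁆ =
            Cfsg.omegaOneCenter p (Cfsg.pCoreOf p E) ⊓ centralizer (E : Set G) ∧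
          (frattini ↥(Cfsg.pCoreOf p E)).map (Cfsg.pCoreOf p E).subtype =
            Cfsg.omegaOneCenter p (Cfsg.pCoreOf p E) ⊓ centralizer (E : Set G) ∧
          E ⊓ centralizer (E : Set G) =
            Cfsg.omegaOneCenter p (Cfsg.pCoreOf p E) ⊓ centralizer (E : Set G) ∧
          Nat.card ↥(E ⊓ centralizer (E : Set G)) = 3 ^ n ∧
          ∀ b : G, b ∈ B → b ∉ centralizer (Cfsg.omegaOneCenter p (Cfsg.pCoreOf p E) : Set G) →
            ¬ ⁅⁅Cfsg.pCoreOf p E, zpowers b⁆, zpowers b⁆ ≤ E ⊓ centralizer (E : Set G)))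

theorem exists_coprime_pow (g : G) :
    ∃ k, (orderOf (g ^ p ^ k)).Coprime p := Cfsg.Lib.FFModule.exists_pow_coprime g

variable {F : Type} [Field F] [Fintype F]

/-- the standard homomorphism onto `SL₂` -/
structure Std (d : Sit p G F) (ρ : G →* Matrix.SpecialLinearGroup (Fin 2) F) : Prop where
  surj : Function.Surjective ρ
  nat : Nat' ρ d.W d.C
  ker : ρ.ker = Cfsg.pCore p G
  up : ∀ s ∈ d.S, ∃ x, ρ s = uS x
  up_surj : ∀ x, ∃ s ∈ d.S, ρ s = uS x

theorem Std.of_follows {d : Sit p G F} {fr : d.Frame} {ρ : G →* Matrix.SpecialLinearGroup (Fin 2) F}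
    (hρ : Function.Surjective ρ) (hn : Nat' ρ d.W d.C) (hk : ρ.ker = Cfsg.pCore p G) (hfol : d.Follows fr ρ) :
    Std d ρ where
  surj := hρ
  nat := hn
  ker := hk
  up := fun s hs => by
    obtain ⟨x, hx⟩ := fr.hS.le (mem_map_of_mem fr.f hs)
    exact ⟨x.toAdd, hfol.1 x.toAdd s hs hx.symm⟩
  up_surj := fun x => by
    obtain ⟨s, hs, he⟩ := fr.hS.ge (⟨Multiplicative.ofAdd x, rfl⟩ : π (uS x) ∈ (u (F := F)).range)
    exact ⟨s, hs, hfol.1 x s hs he⟩

omit hp [Finite G] [Group G] [Fintype F] in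
theorem uS_zero : (uS (0 : F) : Matrix.SpecialLinearGroup (Fin 2) F) = 1 :=
  sl_ext (by rw [coe_uS, cone]; simp [one_fin_two])

omit hp [Finite G] [Group G] [Fintype F] in
theorem uS_inj {x y : F} (h : (uS x : Matrix.SpecialLinearGroup (Fin 2) F) = uS y) : x = y := by
  simpa [coe_uS] using congrArg (fun M : Matrix.SpecialLinearGroup (Fin 2) F => (M : Matrix (Fin 2) (Fin 2) F) 0 1) h

namespace Std

variable {d : Sit p G F} {ρ : G →* Matrix.SpecialLinearGroup (Fin 2) F} (hs : Std d ρ)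
include hs

theorem mem_core {g : G} (h : ρ g = 1) : g ∈ Cfsg.pCore p G := hs.ker.le (MonoidHom.mem_ker.2 h)

theorem core_one {g : G} (h : g ∈ Cfsg.pCore p G) : ρ g = 1 := MonoidHom.mem_ker.1 (hs.ker.ge h)

theorem mem_S {g : G} {x : F} (h : ρ g = uS x) : g ∈ d.S := by
  obtain ⟨s, hsS, hsx⟩ := hs.up_surj x
  have h1 : s⁻¹ * g ∈ Cfsg.pCore p G := hs.mem_core (by rw [map_mul, map_inv, h, hsx, inv_mul_cancel])
  simpa using d.S.mul_mem hsS (d.c.core_le h1)

theorem res_map : (res p G).map ρ = commutator (Matrix.SpecialLinearGroup (Fin 2) F) := by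
  rw [map_res ρ hs.surj, res_SL d.c.hn d.c.hF]

theorem comm_ne_bot : commutator (Matrix.SpecialLinearGroup (Fin 2) F) ≠ ⊥ := by
  intro h
  have hsm := Cfsg.Lib.BlockPair.small_sl2 (p := p) d.c.hF
  haveI : Subsingleton ↥(commutator (Matrix.SpecialLinearGroup (Fin 2) F)) := by
    rw [h]; infer_instance
  by_cases h2 : p = 2
  · haveI := hsm.1 h2
    exact not_nontrivial ↥(commutator (Matrix.SpecialLinearGroup (Fin 2) F)) IsSimpleGroup.toNontrivial
  · have := (hsm.2 h2).1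
    rw [Nat.card_of_subsingleton (1 : ↥(commutator (Matrix.SpecialLinearGroup (Fin 2) F)))] at this
    omega

theorem fixed_zero {v : Fin 2 → F} (h : ∀ m ∈ commutator (Matrix.SpecialLinearGroup (Fin 2) F),
    (m : Matrix (Fin 2) (Fin 2) F).mulVec v = v) : v = 0 := by
  by_contra hv
  let M : AddSubgroup (Fin 2 → F) :=
    { carrier := {v | ∀ m ∈ commutator (Matrix.SpecialLinearGroup (Fin 2) F),
        (m : Matrix (Fin 2) (Fin 2) F).mulVec v = v}
      zero_mem' := fun m _ => Matrix.mulVec_zero _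
      add_mem' := fun {a b} ha hb m hm => by rw [Matrix.mulVec_add, ha m hm, hb m hm]
      neg_mem' := fun {a} ha m hm => by rw [Matrix.mulVec_neg, ha m hm] }
  have hall := Cfsg.Lib.BlockBasic.sl2_invariant M (fun g hg w hw => by rw [hw g hg]; exact hw) h hv
  refine hs.comm_ne_bot ((eq_bot_iff_forall _).2 fun m hm => sl_ext ?_)
  rw [cone]
  exact Matrix.ext_of_mulVec_single fun i => by rw [hall _ m hm, Matrix.one_mulVec]

/-- the commutator with the residual spans the module -/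
theorem comm_sup {M N : Subgroup G} [M.Normal] [N.Normal] (hn : Nat' ρ M N)
    (hirr : ∀ K : Subgroup G, K.Normal → K ≤ M → ¬ K ≤ N → K ⊔ N = M) : ⁅M, res p G⁆ ⊔ N = M := by
  haveI := res_normal (p := p) (G := G)
  refine hirr _ inferInstance (commutator_le_left M (res p G)) fun hle => ?_
  obtain ⟨l, hadd, hsurj, hker, hequi⟩ := hn
  refine hs.comm_ne_bot ((eq_bot_iff_forall _).2 fun m hm => sl_ext ?_)
  obtain ⟨e, he, rfl⟩ := hs.res_map.ge hm
  rw [cone]
  refine Matrix.ext_of_mulVec_single fun i => ?_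
  rw [Matrix.one_mulVec]
  obtain ⟨a, ha, hla⟩ := hsurj (Pi.single i 1)
  rw [← hla, ← hequi e a ha]
  have h1 : e * a * e⁻¹ * a⁻¹ ∈ N := by
    have h0 := inv_mem (hle (commutator_mem_commutator ha he))
    rwa [commutatorElement_inv, commutatorElement_def] at h0
  have h2 : e * a * e⁻¹ ∈ M := Normal.conj_mem inferInstance a ha e
  have h3 := hadd _ (M.mul_mem h2 (inv_mem ha)) a ha
  rw [inv_mul_cancel_right, (hker _ (M.mul_mem h2 (inv_mem ha))).2 h1, zero_add] at h3
  exact h3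

theorem U0_sup : ⁅d.W, res p G⁆ ⊔ d.C = d.W := by
  haveI := d.W_normal
  haveI := d.C_normal
  exact hs.comm_sup hs.nat fun K hK hKW hKC => by
    haveI := hK
    exact d.irred hKW fun h => hKC fun x hx => ⟨hKW hx, h hx⟩

/-- fixed points of the residual on the module -/
theorem fixed_mem_C {x : G} (hx : x ∈ d.W) (h : x ∈ centralizer (res p G : Set G)) : x ∈ d.C := by
  obtain ⟨l, hadd, hsurj, hker, hequi⟩ := hs.nat
  refine (hker x hx).1 (hs.fixed_zero fun m hm => ?_)
  obtain ⟨e, he, rfl⟩ := hs.res_map.ge hm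
  rw [← hequi e x hx, mem_centralizer_iff.1 h e he, mul_inv_cancel_right]

theorem inf_centralizer {U : Subgroup G} (hU : U ≤ d.W) : U ⊓ centralizer (res p G : Set G) = U ⊓ d.C := by
  refine le_antisymm (fun x hx => ⟨hx.1, hs.fixed_mem_C (hU hx.1) hx.2⟩) fun x hx => ⟨hx.1, ?_⟩
  exact mem_centralizer_iff.2 fun e _ => mem_center_iff.1 (mem_inf.1 hx.2).2 e

theorem pCoreOf_res : Cfsg.pCoreOf p (res p G) = res p G ⊓ Cfsg.pCore p G := by
  haveI := res_normal (p := p) (G := G)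
  haveI := d.c.core_normal
  refine le_antisymm (le_inf (map_subtype_le _) ?_) ?_
  · haveI : (Cfsg.pCore p ↥(res p G)).Characteristic := inferInstanceAs (Cfsg.pCore p ↥(res p G)).Characteristic
    exact le_sSup ⟨ConjAct.normal_of_characteristic_of_normal, (Cfsg.Lib.Components.isPGroup_pCore p).map _⟩
  · intro x hx
    refine ⟨⟨x, hx.1⟩, ?_, rfl⟩
    exact (le_sSup (a := (Cfsg.pCore p G).subgroupOf (res p G))
      ⟨inferInstance, (Cfsg.Lib.Components.isPGroup_pCore p).comap_subtype⟩ :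
      (Cfsg.pCore p G).subgroupOf (res p G) ≤ Cfsg.pCore p ↥(res p G)) hx.2

theorem quotient_equiv : Nonempty (↥(res p G) ⧸ Cfsg.pCore p ↥(res p G) ≃*
    ↥(commutator (Matrix.SpecialLinearGroup (Fin 2) F))) := by
  let f : ↥(res p G) →* Matrix.SpecialLinearGroup (Fin 2) F := ρ.comp (res p G).subtype
  have hr : f.range = commutator (Matrix.SpecialLinearGroup (Fin 2) F) := by
    rw [MonoidHom.range_comp, range_subtype, hs.res_map]
  have hk : f.ker = Cfsg.pCore p ↥(res p G) := by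
    ext x
    have h1 : x ∈ Cfsg.pCore p ↥(res p G) ↔ (x : G) ∈ Cfsg.pCoreOf p (res p G) :=
      (mem_map_iff_mem (res p G).subtype_injective).symm
    rw [h1, hs.pCoreOf_res, MonoidHom.mem_ker]
    exact ⟨fun h => ⟨x.2, hs.mem_core h⟩, fun h => hs.core_one h.2⟩
  exact ⟨(QuotientGroup.quotientMulEquivOfEq hk.symm).trans
    ((QuotientGroup.quotientKerEquivRange f).trans (MulEquiv.subgroupCongr hr))⟩

theorem residual : Cfsg.pResidualOf p (res p G) = res p G := by
  refine le_antisymm (map_subtype_le _) (res_le_iff.2 fun g hg => ?_)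
  exact ⟨⟨g, Cfsg.Lib.Transfer.mem_pResidual_of_coprime hg⟩,
    Cfsg.Lib.Transfer.mem_pResidual_of_coprime (by rwa [Subgroup.orderOf_mk]), rfl⟩

theorem comm_S : ⁅res p G, d.S⁆ = res p G := by
  haveI := res_normal (p := p) (G := G)
  set E := res p G
  have hsup : E ⊔ d.S = ⊤ := Cfsg.Lib.Transfer.pResidual_sup_sylow d.c.S
  set N := ⁅E, d.S⁆ with hN
  haveI hNn : N.Normal := by
    rw [← normalizer_eq_top_iff, eq_top_iff, ← hsup]
    exact _root_.sup_le (normalizer_commutator_ge_left E d.S) (normalizer_commutator_ge_right E d.S)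
  refine le_antisymm (commutator_le_left E d.S) ?_
  obtain ⟨y, hy⟩ := d.exists_far
  have hle : cj y d.S ≤ d.S ⊔ N := by
    rintro _ ⟨s, hsS, rfl⟩
    have hy' : y ∈ E ⊔ d.S := hsup ▸ mem_top y
    obtain ⟨e, he, t, ht, rfl⟩ := mem_sup_of_normal_left.1 hy'
    show e * t * s * (e * t)⁻¹ ∈ d.S ⊔ N
    have h1 : t * s * t⁻¹ ∈ d.S := d.S.mul_mem (d.S.mul_mem ht hsS) (d.S.inv_mem ht)
    rw [show e * t * s * (e * t)⁻¹ = ⁅e, t * s * t⁻¹⁆ * (t * s * t⁻¹) by simp only [commutatorElement_def]; group]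
    exact mul_mem (mem_sup_right (commutator_mem_commutator he h1)) (mem_sup_left h1)
  have htop : d.S ⊔ N = ⊤ := top_le_iff.1 (hy ▸ _root_.sup_le le_sup_left hle)
  refine Cfsg.Lib.Transfer.pResidual_le ?_
  have hsur : (d.S.map (QuotientGroup.mk' N)) = ⊤ := by
    rw [← top_le_iff, ← map_top_of_surjective (QuotientGroup.mk' N) (QuotientGroup.mk'_surjective N), ← htop,
      Subgroup.map_sup, QuotientGroup.map_mk'_self, sup_bot_eq]
  have h : IsPGroup p ↥(⊤ : Subgroup (G ⧸ N)) := hsur ▸ d.c.S.2.map _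
  exact h.of_equiv Subgroup.topEquiv

/-- a section of the residual is natural -/
theorem acts {M N U : Subgroup G} [U.Normal] (hn : Nat' ρ M N) (hUM : U ≤ M) (hUN : M ≤ U ⊔ N)
    (hNM : N ≤ M) [N.Normal] : Cfsg.ActsAsSL2OnSection F (commutator (Matrix.SpecialLinearGroup (Fin 2) F))
      (res p G) U (U ⊓ N) := by
  obtain ⟨l, hadd, hsurj, hker, hequi⟩ := hn
  refine ⟨le_top.trans (normalizer_eq_top (H := U)).ge, inf_le_left, ρ.comp (res p G).subtype,
    MonoidHom.mk' (fun u => Multiplicative.ofAdd (l (u : G))) (fun a b => by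
      rw [← ofAdd_add, Subgroup.coe_mul, hadd _ (hUM a.2) _ (hUM b.2)]), ?_, ?_, fun u => ?_, fun e u => ?_⟩
  · rw [MonoidHom.range_comp, range_subtype, hs.res_map]
  · intro w
    obtain ⟨a, ha, hla⟩ := hsurj w.toAdd
    obtain ⟨x, hx, y, hy, rfl⟩ := mem_sup_of_normal_right.1 (hUN ha)
    refine ⟨⟨x, hx⟩, Multiplicative.toAdd.injective ?_⟩
    show l x = w.toAdd
    rw [← hla, hadd x (hUM hx) y (hNM hy), (hker y (hNM hy)).2 hy, add_zero]
  · show Multiplicative.ofAdd (l (u : G)) = 1 ↔ _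
    rw [← ofAdd_zero, Multiplicative.ofAdd.injective.eq_iff, hker _ (hUM u.2)]
    exact ⟨fun h => ⟨u.2, h⟩, fun h => h.2⟩
  · exact ⟨⟨(e : G) * u * (e : G)⁻¹, Normal.conj_mem inferInstance _ u.2 _⟩, rfl, hequi e u (hUM u.2)⟩

end Std

end Cfsg.Lib.PushBlocks
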