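import Cfsg.Agent.PLocal.FFModule.Blocks
import Cfsg.Agent.PLocal.FFModule.Perm

/-!
The classes of outer members.
-/

set_option autoImplicit false
set_option linter.unusedSectionVars false
set_option linter.style.haveILetI false

namespace Cfsg.Lib.FFModule

open Subgroup Cfsg.Lib.FFSLTwo

variable {P : Type*} [Group P] [Finite P] {V : Type*} [AddCommGroup V] [Finite V]
variable {p : ℕ} [Fact p.Prime] {φ : P →* AddMonoid.End V} {q : ℕ}

namespace Glob

variable {T : Sylow p P} {M : Subgroup P} (g : Glob p φ q T M)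
include g

/-- the outer members not commuting with `x`, and `x` -/
def cls (_ : Glob p φ q T M) (x : Subgroup P) : Set (Subgroup P) :=
  {y | (Mem p φ q y ∧ ¬ y ≤ M) ∧ (y = x ∨ ¬ Comm x y)}

theorem mem_cls_self {x : Subgroup P} (hx : x ∈ g.outer) : x ∈ g.cls x := ⟨hx, Or.inl rfl⟩

theorem cls_outer {x y : Subgroup P} (h : y ∈ g.cls x) : y ∈ g.outer := h.1

theorem cls_trans {x y z : Subgroup P} (hx : x ∈ g.outer) (hy : y ∈ g.cls x) (hz : z ∈ g.cls y) :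
    z ∈ g.cls x := by
  refine ⟨hz.1, ?_⟩
  rcases hy.2 with rfl | h
  · exact hz.2
  rcases hz.2 with rfl | h'
  · exact Or.inr h
  · exact (eq_or_ne z x).imp id fun hne => g.nc_trans hx hy.1 hz.1 h h' hne.symm

theorem cls_symm {x y : Subgroup P} (hx : x ∈ g.outer) (hy : y ∈ g.cls x) : x ∈ g.cls y :=
  ⟨hx, hy.2.imp Eq.symm fun h h' => h h'.symm⟩

theorem cls_eq {x y : Subgroup P} (hx : x ∈ g.outer) (hy : y ∈ g.cls x) : g.cls y = g.cls x :=
  Set.Subset.antisymm (fun _ hz => g.cls_trans hx hy hz) fun _ hz => g.cls_trans hy.1 (g.cls_symm hx hy) hz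

theorem cls_nc {x y z : Subgroup P} (hx : x ∈ g.outer) (hy : y ∈ g.cls x) (hz : z ∈ g.cls x) (hne : y ≠ z) :
    ¬ Comm y z := by
  rw [← g.cls_eq hx hy] at hz
  exact hz.2.resolve_left hne.symm

theorem cls_comm {x x' y : Subgroup P} (hx : x ∈ g.outer) (hx' : x' ∈ g.cls x) (hy : y ∈ g.outer)
    (hne : g.cls y ≠ g.cls x) : Comm x' y := by
  by_contra h
  exact hne (g.cls_eq hx (g.cls_trans hx hx' ⟨hy, Or.inr h⟩))

theorem cj_cls {t : P} (ht : t ∈ M) {x y : Subgroup P} (hy : y ∈ g.cls x) :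
    FFSLTwo.cj t y ∈ g.cls (FFSLTwo.cj t x) :=
  ⟨g.cj_outer ht hy.1, hy.2.imp (congrArg (FFSLTwo.cj t)) fun h h' => h ((comm_cj_iff t).1 h')⟩

theorem cj_sSup_cls {t : P} (ht : t ∈ M) (x : Subgroup P) :
    FFSLTwo.cj t (sSup (g.cls x)) = sSup (g.cls (FFSLTwo.cj t x)) := by
  refine le_antisymm (cj_sSup_le fun y hy => g.cj_cls ht hy) ?_
  rw [← cj_cj_inv t (sSup (g.cls (FFSLTwo.cj t x)))]
  refine cj_le_cj.2 (cj_sSup_le fun y hy => ?_)
  have := g.cj_cls (M.inv_mem ht) hy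
  rwa [cj_inv_cj] at this

/-- the conjugate of an outer member by its inner member -/
theorem inner_conj {A x : Subgroup P} (hA : A ∈ g.inSyl) (hx : x ∈ g.outer) (hAx : ¬ Comm A x) {a : P}
    (ha : a ∈ A) (ha1 : a ≠ 1) :
    FFSLTwo.cj a x ∈ g.cls x ∧ x ≠ FFSLTwo.cj a x ∧ ¬ Comm A (FFSLTwo.cj a x) ∧ x ⊔ FFSLTwo.cj a x = A ⊔ x := by
  have ff := g.ff
  have h1 := (ff.cj_ne hA.1 hx.1 hAx ha ha1).symm
  have h2 : IsLine φ (Mem p φ q) A x (FFSLTwo.cj a x) := ff.line_cj_right hx.1 (mem_sup_left ha)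
  refine ⟨⟨g.cj_outer (g.inSyl_le hA ha) hx, Or.inr (ff.line_nc hA.1 hx.1 hAx (isLine_right hx.1) h2 h1)⟩, h1, ?_,
    ff.line_sup hA.1 hx.1 hAx (isLine_right hx.1) h2 h1⟩
  intro hc
  refine hAx ((comm_cj_iff a).1 ?_)
  rwa [cj_le_self ha]

theorem inner_le_cls {A x : Subgroup P} (hA : A ∈ g.inSyl) (hx : x ∈ g.outer) (hAx : ¬ Comm A x) :
    A ≤ sSup (g.cls x) := by
  obtain ⟨a, ha, ha1⟩ := g.ff.exists_ne_one hA.1
  obtain ⟨h1, -, -, h2⟩ := g.inner_conj hA hx hAx ha ha1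
  exact le_sup_left.trans (h2.ge.trans (_root_.sup_le (le_sSup (g.mem_cls_self hx)) (le_sSup h1)))

theorem card_cls (hq : q = 2) {x : Subgroup P} (hx : x ∈ g.outer) :
    ∃ n, 1 ≤ n ∧ Nat.card (g.cls x) = 2 ^ n := by
  have ff := g.ff
  obtain ⟨A, hA, hAx⟩ := g.exists_nc hx
  obtain ⟨a, ha, ha1⟩ := ff.exists_ne_one hA.1
  obtain ⟨hy, hxy, -, -⟩ := g.inner_conj hA hx hAx ha ha1
  have hp2 : p = 2 := ff.char_two hA.1 hq
  let S : Subgroup P :=
    { carrier := {t | t ∈ (T : Subgroup P) ∧ FFSLTwo.cj t x ∈ g.cls x}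
      one_mem' := ⟨one_mem _, by rw [cj_one]; exact g.mem_cls_self hx⟩
      mul_mem' := fun {s t} hs ht => ⟨(T : Subgroup P).mul_mem hs.1 ht.1, by
        rw [← cj_mul]
        exact g.cls_trans hx hs.2 (g.cj_cls (g.hTM hs.1) ht.2)⟩
      inv_mem' := fun {t} ht => ⟨(T : Subgroup P).inv_mem ht.1, by
        have h := g.cj_cls (M.inv_mem (g.hTM ht.1)) ht.2
        have h' := g.cls_symm (g.cj_outer (M.inv_mem (g.hTM ht.1)) hx) h
        rwa [cj_inv_cj] at h'⟩ }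
  letI : MulAction S (Subgroup P) :=
    { smul := fun t X => FFSLTwo.cj (t : P) X
      one_smul := fun X => cj_one X
      mul_smul := fun s t X => (cj_mul (s : P) t X).symm }
  have horb : MulAction.orbit S x = g.cls x := by
    ext y
    constructor
    · rintro ⟨t, rfl⟩
      exact t.2.2
    · intro hy'
      obtain ⟨t, ht, hty⟩ := g.outer_transitive hx hy'.1
      exact ⟨⟨t, ht, hty.symm ▸ hy'⟩, hty⟩
  have hS : IsPGroup p S := T.2.to_le fun t ht => ht.1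
  obtain ⟨n, hn⟩ := hS.card_orbit x
  rw [horb] at hn
  refine ⟨n, Nat.pos_of_ne_zero fun h0 => ?_, hn.trans (congrArg (· ^ n) hp2)⟩
  rw [h0, pow_zero] at hn
  haveI := (Nat.card_eq_one_iff_unique.1 hn).1
  exact hxy (congrArg Subtype.val (Subsingleton.elim (⟨x, g.mem_cls_self hx⟩ : g.cls x) ⟨_, hy⟩))

/-- with two inner members, a class has at least four members -/
theorem two_le_exp (hq : q = 2) {x y A A' : Subgroup P} (hx : x ∈ g.outer) (hy : y ∈ g.cls x)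
    (hA : A ∈ g.inSyl) (hA' : A' ∈ g.inSyl) (hAx : ¬ Comm A x) (hA'y : ¬ Comm A' y) (hne : A ≠ A')
    {n : ℕ} (hn : Nat.card (g.cls x) = 2 ^ n) : 2 ≤ n := by
  obtain ⟨a, ha, ha1⟩ := g.ff.exists_ne_one hA.1
  obtain ⟨h1, h2, h3, -⟩ := g.inner_conj hA hx hAx ha ha1
  have hyx : y ≠ x := fun h => hne (g.single hA hA' hy.1 (by rw [h]; exact hAx) hA'y)
  have hyx' : y ≠ FFSLTwo.cj a x := fun h => hne (g.single hA hA' hy.1 (by rw [h]; exact h3) hA'y)
  have h4 : ({x, FFSLTwo.cj a x, y} : Set (Subgroup P)) ⊆ g.cls x := by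
    rintro z (rfl | rfl | rfl)
    exacts [g.mem_cls_self hx, h1, hy]
  have h5 := Set.ncard_le_ncard h4 (Set.toFinite _)
  rw [Set.ncard_insert_of_notMem (by simp [h2, hyx.symm]), Set.ncard_pair hyx'.symm, ← Nat.card_coe_set_eq,
    hn] at h5
  by_contra hlt
  have := Nat.pow_le_pow_right (two_pos) (show n ≤ 1 by omega)
  omega

end Glob

end Cfsg.Lib.FFModule
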