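import Cfsg.Agent.PushUpBlocks.Linear
import Cfsg.Agent.PushUpBlocks.Classes

/-!
Pushing up in a minimal parabolic group: the subgroup attached to a class of outer members, for two elements.
-/

set_option autoImplicit false
set_option linter.unusedSectionVars false
set_option linter.style.haveILetI false

namespace Cfsg.Lib.PushMin

open Subgroup Cfsg.Lib.FFSLTwo Cfsg.Lib.FFModule
open scoped commutatorElement

universe u

theorem normalizer_sSup {G : Type u} [Group G] {K : Subgroup G} {s : Set (Subgroup G)} [Finite G]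
    (h : ∀ F ∈ s, K ≤ normalizer (F : Set G)) : K ≤ normalizer ((sSup s : Subgroup G) : Set G) := by
  intro k hk
  rw [mem_normalizer_iff_map_conj_eq]
  refine eq_of_le_of_card_ge (map_le_iff_le_comap.2 (_root_.sSup_le fun F hF => ?_))
    (card_map_of_injective (MulAut.conj k).injective).ge
  exact map_le_iff_le_comap.1 ((mem_normalizer_iff_map_conj_eq.1 (h F hF hk)).le.trans (le_sSup hF))

theorem normalizer_commutator {G : Type u} [Group G] [Finite G] {K X Y : Subgroup G}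
    (hX : K ≤ normalizer (X : Set G)) (hY : K ≤ normalizer (Y : Set G)) : K ≤ normalizer ((⁅X, Y⁆ : Subgroup G) : Set G) := by
  intro k hk
  rw [mem_normalizer_iff_map_conj_eq]
  refine eq_of_le_of_card_ge ?_ (card_map_of_injective (MulAut.conj k).injective).ge
  show (⁅X, Y⁆ : Subgroup G).map (MulAut.conj k).toMonoidHom ≤ ⁅X, Y⁆
  rw [map_commutator]
  exact commutator_mono (mem_normalizer_iff_map_conj_eq.1 (hX hk)).le (mem_normalizer_iff_map_conj_eq.1 (hY hk)).le

theorem isPGroup_of_coprime_trivial {G : Type u} [Group G] [Finite G] {p : ℕ} [hp : Fact p.Prime] {K : Subgroup G}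
    (h : ∀ x ∈ K, (orderOf x).Coprime p → x = 1) : IsPGroup p K := by
  rintro ⟨x, hx⟩
  obtain ⟨k, hk⟩ := exists_pow_coprime (p := p) x
  exact ⟨k, Subtype.ext (h _ (pow_mem hx _) hk)⟩

variable {G : Type u} [Group G] {p : ℕ} [Finite G] [hp : Fact p.Prime]

namespace Env

variable {T : Sylow p G} {W : Type u} [AddCommGroup W] [Finite W] {d : Env T W}
variable {A₀ X₀ : Subgroup (G ⧸ cS p G)}

/-- the span of a class -/
abbrev symOf (d : Env T W) (X : Subgroup (G ⧸ cS p G)) : Subgroup (G ⧸ cS p G) := sSup (d.glob.cls X)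

/-- the conjugates of the piece over the class -/
def Piece.blk (pc : d.Piece A₀ X₀) : Subgroup G :=
  sSup {F | F ∈ pc.conjs ∧ F.map (prj p G) ≤ d.symOf X₀}

/-- the module part of it -/
abbrev Piece.rad (pc : d.Piece A₀ X₀) : Subgroup G := ⁅vS p G, pc.blk⁆

/-- a vector of `V` in `W` -/
abbrev vec (d : Env T W) (x : vS p G) : W := d.e (Additive.ofMul x)

/-- the elements of `V` over the images of a subgroup -/
def imgG (d : Env T W) (S : Subgroup (G ⧸ cS p G)) : Subgroup G where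
  carrier := {g | ∃ hg : g ∈ vS p G, d.vec ⟨g, hg⟩ ∈ img d.φ S}
  one_mem' := ⟨one_mem _, by
    show d.e (Additive.ofMul (1 : vS p G)) ∈ _
    rw [ofMul_one, map_zero]; exact zero_mem _⟩
  mul_mem' := fun {a b} ha hb => by
    obtain ⟨h1, h2⟩ := ha
    obtain ⟨h3, h4⟩ := hb
    refine ⟨mul_mem h1 h3, ?_⟩
    show d.e (Additive.ofMul (⟨a, h1⟩ * ⟨b, h3⟩ : vS p G)) ∈ _
    rw [ofMul_mul, map_add]; exact add_mem h2 h4
  inv_mem' := fun {a} ha => by
    obtain ⟨h1, h2⟩ := ha
    refine ⟨inv_mem h1, ?_⟩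
    show d.e (Additive.ofMul (⟨a, h1⟩⁻¹ : vS p G)) ∈ _
    rw [ofMul_inv, map_neg]; exact neg_mem h2

theorem commutator_le_imgG (d : Env T W) {K : Subgroup G} {S : Subgroup (G ⧸ cS p G)}
    (hK : K.map (prj p G) ≤ S) : ⁅vS p G, K⁆ ≤ d.imgG S := by
  refine commutator_le.2 fun v hv g hg => ?_
  rw [← commutatorElement_inv]
  refine inv_mem ?_
  obtain ⟨h1, h2⟩ := d.dd_eq g ⟨v, hv⟩
  refine ⟨h1, ?_⟩
  show d.e _ ∈ _
  rw [← h2]
  exact dd_mem_img (hK (mem_map_of_mem _ hg)) _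

theorem vS_le_cS : vS p G ≤ cS p G := fun _ hv => pCore_le_cS (vS_mem hv).1

theorem vS_le_baumann (d : Env T W) (h : Hyps T) : vS p G ≤ Cfsg.baumannSubgroupOf p (T : Subgroup G) :=
  fun v hv => ⟨Cfsg.Lib.Coprime.pCore_le_sylow p T (vS_mem hv).1, mem_centralizer_iff.2 fun y hy =>
    mem_centralizer_iff.1 (vS_mem hv).2 y (d.yS_le_core h.min hy)⟩

variable (h : Hyps T) (hA : A₀ ∈ d.glob.inSyl) (hX : X₀ ∈ d.glob.outer) (hnc : ¬ Comm A₀ X₀)
variable (pc : d.Piece A₀ X₀) (hp2 : p = 2)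
include h hA hX hnc pc hp2

theorem base_mem : pc.E ∈ {F | F ∈ pc.conjs ∧ F.map (prj p G) ≤ d.symOf X₀} :=
  ⟨⟨1, one_mem _, by ext x; simp⟩, by
    rw [E_image h hA hX hnc pc]
    refine (resOf_le_pair h hA hX hnc pc hA).trans ?_
    rw [d.glob.pair_eq hA hX hnc]
    exact _root_.sup_le (d.glob.inner_le_cls hA hX hnc) (le_sSup (d.glob.mem_cls_self hX))⟩

theorem base_le : pc.E ≤ pc.blk := le_sSup (base_mem h hA hX hnc pc hp2)

theorem blk_image_le : pc.blk.map (prj p G) ≤ d.symOf X₀ := by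
  rw [Piece.blk, map_le_iff_le_comap]
  exact _root_.sSup_le fun F hF => map_le_iff_le_comap.1 hF.2

theorem baumann_normalizes : Cfsg.baumannSubgroupOf p (T : Subgroup G) ≤ normalizer (pc.blk : Set G) :=
  normalizer_sSup fun _ hF => Cfsg.Lib.BlockBasic.baumann_le_normalizer (isBlock_conj h hA hX hnc pc hF.1).2.1

theorem cS_normalizes_blk : cS p G ≤ normalizer (pc.blk : Set G) :=
  normalizer_sSup fun _ hF => cS_normalizes h hA hX hnc pc hF.1

theorem blk_residual : Cfsg.pResidualOf p pc.blk = pc.blk := by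
  refine le_antisymm (map_subtype_le _) (_root_.sSup_le fun F hF => ?_)
  rw [← Cfsg.Lib.BlockBasic.closure_coprime_elements (isBlock_conj h hA hX hnc pc hF.1).1, closure_le]
  intro x hx
  have hxE : x ∈ pc.blk := le_sSup (show F ∈ {F | F ∈ pc.conjs ∧ F.map (prj p G) ≤ d.symOf X₀} from hF) hx.1
  refine ⟨⟨x, hxE⟩, subset_closure ?_, rfl⟩
  show (orderOf _).Coprime p
  rw [Subgroup.orderOf_mk]
  exact hx.2

theorem rad_le_vS : pc.rad ≤ vS p G := by
  haveI := vS_normal (p := p) (G := G)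
  exact commutator_le_left _ _

theorem rad_le_blk : pc.rad ≤ pc.blk :=
  le_normalizer_iff_commutator_le_right.1 (vS_le_cS.trans (cS_normalizes_blk h hA hX hnc pc hp2))

theorem blk_normalizes_rad : pc.blk ≤ normalizer (pc.rad : Set G) :=
  normalizer_commutator (fun x _ => normalizer_eq_top_iff.2 (vS_normal (p := p) (G := G)) ▸ mem_top x)
    Subgroup.le_normalizer

theorem baumann_normalizes_rad : Cfsg.baumannSubgroupOf p (T : Subgroup G) ≤ normalizer (pc.rad : Set G) :=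
  normalizer_commutator (fun x _ => normalizer_eq_top_iff.2 (vS_normal (p := p) (G := G)) ▸ mem_top x)
    (baumann_normalizes h hA hX hnc pc hp2)

/-- the core of one conjugate is the commutator with `V` -/
theorem conj_core {F : Subgroup G} (hF : F ∈ pc.conjs) :
    F ⊓ cS p G = Cfsg.pCoreOf p F ∧ Cfsg.pCoreOf p F ≤ vS p G ∧ Cfsg.pCoreOf p F ≤ ⁅vS p G, F⁆ := by
  obtain ⟨A, X, hA1, hX1, hnc1, pc', rfl⟩ := conjs_cases h hA hX hnc pc hF
  obtain ⟨-, -, h3, _, _, _, _, -, -, -, hlin⟩ := pc'.shape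
  have hQW := hlin.resolve_right (fun he => absurd (hp2.symm.trans he.1) (by norm_num))
  have hb := isBlock_conj h hA hX hnc pc hF
  obtain ⟨-, hWV, -⟩ := Cfsg.Lib.BlockBasic.block_props h.cp T hb
  rw [← hQW, h3] at hWV
  refine ⟨pc'.core.symm, hWV, ?_⟩
  exact h3.ge.trans (commutator_mono hWV le_rfl)

theorem cS_comm {c e : G} (hc : c ∈ cS p G) (he : e ∈ pc.blk) : ⁅c, e⁆ ∈ pc.rad := by
  let S : Subgroup G :=
    { carrier := {e | e ∈ pc.blk ∧ ∀ c ∈ cS p G, ⁅c, e⁆ ∈ pc.rad}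
      one_mem' := ⟨one_mem _, fun c _ => by simp [one_mem]⟩
      mul_mem' := fun {a b} ha hb => ⟨mul_mem ha.1 hb.1, fun c hc => by
        rw [show ⁅c, a * b⁆ = ⁅c, a⁆ * (a * ⁅c, b⁆ * a⁻¹) by simp only [commutatorElement_def]; group]
        exact mul_mem (ha.2 c hc) ((mem_normalizer_iff.1 (blk_normalizes_rad h hA hX hnc pc hp2 ha.1) _).1 (hb.2 c hc))⟩
      inv_mem' := fun {a} ha => ⟨inv_mem ha.1, fun c hc => by
        rw [show ⁅c, a⁻¹⁆ = a⁻¹ * ⁅c, a⁆⁻¹ * a⁻¹⁻¹ by simp only [commutatorElement_def]; group]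
        exact (mem_normalizer_iff.1 (blk_normalizes_rad h hA hX hnc pc hp2 (inv_mem ha.1)) _).1
          (inv_mem (ha.2 c hc))⟩ }
  have hle : pc.blk ≤ S := by
    rw [Piece.blk]
    refine _root_.sSup_le fun F hF f hf => ?_
    have hFle : F ≤ pc.blk := le_sSup hF
    refine ⟨hFle hf, fun c hc => ?_⟩
    obtain ⟨h1, -, h3⟩ := conj_core h hA hX hnc pc hp2 hF.1
    refine commutator_mono le_rfl hFle (h3 (h1.le ⟨?_, ?_⟩))
    · rw [commutatorElement_def]
      exact F.mul_mem ((mem_normalizer_iff.1 (cS_normalizes h hA hX hnc pc hF.1 hc) f).1 hf) (F.inv_mem hf)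
    · rw [commutatorElement_def, mul_assoc, mul_assoc, ← mul_assoc f]
      exact mul_mem hc ((cS_normal (p := p) (G := G)).conj_mem _ ((cS p G).inv_mem hc) f)
  exact (hle he).2 c hc

/-- the part in the centralizer of `V` lies in the core -/
theorem blk_baumann_inf_cS :
    (pc.blk ⊔ Cfsg.baumannSubgroupOf p (T : Subgroup G)) ⊓ cS p G ≤ Cfsg.pCore p G := by
  have hQn := pCore_normal (p := p) (G := G)
  have hP : IsPGroup p ↥((pc.blk ⊔ Cfsg.baumannSubgroupOf p (T : Subgroup G)) ⊓ cS p G) := by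
    refine isPGroup_of_coprime_trivial fun x hx hco => ?_
    have hxb := coprime_mem_of_sup (T.2.to_le (baumann_le T)) (baumann_normalizes h hA hX hnc pc hp2) hx.1 hco
    have hxQ : x ∈ Cfsg.pCore p G := by
      refine h.cp (mem_centralizer_iff.2 fun r hr => ?_)
      set s := x * r * x⁻¹ * r⁻¹ with hs
      have hsU : s ∈ pc.rad := by
        have h1 := inv_mem (cS_comm h hA hX hnc pc hp2 (pCore_le_cS hr) hxb)
        rwa [commutatorElement_inv, commutatorElement_def] at h1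
      have hsV := rad_le_vS h hA hX hnc pc hp2 hsU
      have hsp : s ^ p ^ 1 = 1 := by
        rw [pow_one]; exact (omegaOneCenter_elementary (p := p) (Cfsg.pCore p G)).2 s hsV
      exact (Cfsg.Lib.BlockPair.coprime_fix (f := x) (g := r) (s := s) (by rw [hs, inv_mul_cancel_right])
        (mem_centralizer_iff.1 hx.2 s hsV).symm hco hsp).eq.symm
    obtain ⟨k, hk⟩ := Cfsg.Lib.Components.isPGroup_pCore (G := G) p ⟨x, hxQ⟩
    exact orderOf_eq_one_iff.1 (Nat.eq_one_of_dvd_coprimes (hco.pow_right k) dvd_rfl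
      (orderOf_dvd_of_pow_eq_one (congrArg Subtype.val hk)))
  obtain ⟨S, hS⟩ := hP.exists_le_sylow
  exact (le_inf hS inf_le_right).trans (d.sylow_inf_cS h.min S).le

theorem symOf_le : d.symOf X₀ ≤ normalizer ((pc.blk.map (prj p G) : Subgroup _) : Set (G ⧸ cS p G)) := by
  set R := pc.blk.map (prj p G) with hR
  have hW : sSup d.glob.inSyl ≤ normalizer (R : Set (G ⧸ cS p G)) := by
    rw [← d.baumann_image, hR]
    exact (map_mono (baumann_normalizes h hA hX hnc pc hp2)).trans (le_normalizer_map _)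
  refine _root_.sSup_le fun x hx => ?_
  obtain ⟨A, hA1, hAx⟩ := d.glob.exists_nc hx.1
  obtain ⟨F, hF, t, ht, -, -, hFimg⟩ := exists_conj h hA hX hnc pc hA1
  have hcls := d.glob.cls_eq hX hx
  have hFR : d.resOf A ≤ R := by
    rw [← hFimg]
    refine map_mono (le_sSup ⟨hF, ?_⟩)
    rw [hFimg]
    refine (resOf_le_pair h hA hX hnc pc hA1).trans ?_
    rw [d.glob.pair_eq hA1 hx.1 hAx]
    exact _root_.sup_le ((d.glob.inner_le_cls hA1 hx.1 hAx).trans (le_of_eq (congrArg sSup hcls))) (le_sSup hx)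
  refine (le_sup_right.trans ((d.glob.pair_eq hA1 hx.1 hAx).ge.trans (pair_le h hA hX hnc pc hA1))).trans
    (_root_.sup_le (hFR.trans Subgroup.le_normalizer) ((le_sSup hA1).trans hW))

theorem blk_image_ne_bot : pc.blk.map (prj p G) ≠ ⊥ := fun hb => by
  have h1 : d.resOf A₀ = ⊥ := le_bot_iff.1 (hb ▸ (E_image h hA hX hnc pc).ge.trans
    (map_mono (base_le h hA hX hnc pc hp2)))
  have h2 : X₀ ≤ d.resOf A₀ ⊔ A₀ :=
    (le_sup_right.trans (d.glob.pair_eq hA hX hnc).ge).trans (pair_le h hA hX hnc pc hA)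
  rw [h1, bot_sup_eq] at h2
  exact hX.2 (h2.trans (d.glob.inSyl_le hA))

end Env

end Cfsg.Lib.PushMin
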