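import Cfsg.Agent.PushUpBlocks.ModInner
import Cfsg.Agent.PLocal.FFModule.Local
import Cfsg.Agent.Components.Misc.BaumannBlockBasic
import Cfsg.Agent.PushUp.Main

/-!
Pushing up in a minimal parabolic group: the action on `Ω₁(Z(O_p))`.
-/

set_option autoImplicit false
set_option linter.unusedSectionVars false
set_option linter.style.haveILetI false

namespace Cfsg.Lib.PushMin

open Subgroup Cfsg.Lib.FFSLTwo Cfsg.Lib.FFModule
open scoped commutatorElement

universe u

variable {G : Type u} [Group G] {p : ℕ}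

/-- `Ω₁(Z(O_p(G)))` -/
abbrev vS (p : ℕ) (G : Type u) [Group G] : Subgroup G := Cfsg.omegaOneCenter p (Cfsg.pCore p G)

/-- its centralizer -/
abbrev cS (p : ℕ) (G : Type u) [Group G] : Subgroup G := centralizer (vS p G : Set G)

theorem pCore_normal : (Cfsg.pCore p G).Normal := inferInstanceAs (Cfsg.pCore p G).Normal

theorem vS_normal : (vS p G).Normal := omegaOneCenter_normal pCore_normal

instance cS_normal : (cS p G).Normal := centralizer_normal vS_normal

/-- the projection -/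
abbrev prj (p : ℕ) (G : Type u) [Group G] : G →* G ⧸ cS p G := QuotientGroup.mk' (cS p G)

theorem vS_mem {v : G} (h : v ∈ vS p G) : v ∈ Cfsg.pCore p G ∧ v ∈ centralizer (Cfsg.pCore p G : Set G) :=
  omegaOneCenter_mem h

theorem pCore_le_cS : Cfsg.pCore p G ≤ cS p G := fun x hx => mem_centralizer_iff.2 fun v hv =>
  (mem_centralizer_iff.1 (vS_mem hv).2 x hx).symm

variable [Finite G] [hp : Fact p.Prime]

/-- the hypotheses of pushing up -/
structure Hyps (T : Sylow p G) : Prop where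
  min : Cfsg.IsPMinimal p G
  cp : centralizer (Cfsg.pCore p G : Set G) ≤ Cfsg.pCore p G
  nochar : ∀ C : Subgroup G, C ≤ Cfsg.baumannSubgroupOf p (T : Subgroup G) → C ≠ ⊥ →
    (C.subgroupOf (Cfsg.baumannSubgroupOf p (T : Subgroup G))).Characteristic → ¬ C.Normal
  nz : ¬ (Cfsg.omegaOneCenter p (T : Subgroup G)).Normal

/-- the module and the members on its section -/
structure Env (T : Sylow p G) (W : Type u) [AddCommGroup W] [Finite W] where
  M : Subgroup G
  coatom : IsCoatom M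
  hTM : (T : Subgroup G) ≤ M
  hCM : cS p G ≤ M
  hNJ : normalizer (Cfsg.thompsonSubgroupOf p (T : Subgroup G) : Set G) ≤ M
  φ : G ⧸ cS p G →* AddMonoid.End W
  e : Additive (vS p G) ≃+ W
  act_eq : ∀ (g : G) (x : vS p G) (h : g * x * g⁻¹ ∈ vS p G),
    φ (prj p G g) (e (Additive.ofMul x)) = e (Additive.ofMul ⟨g * x * g⁻¹, h⟩)
  q : ℕ
  glob : Glob p (act p φ) q (T.mapSurjective (QuotientGroup.mk'_surjective (cS p G))) (M.map (prj p G))
  ff : FF p φ q (Mem p (act p φ) q)
  off : ∀ D : Subgroup (G ⧸ cS p G), Cfsg.IsElementaryAbelian p D → (fixA φ D).index ≤ Nat.card D →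
    (fixA φ D).index = Nat.card D ∧ D ≤ sSup {m | Mem p (act p φ) q m ∧ m ≤ D} ∧
      (D ≠ ⊥ → ∃ Y, Y ≤ D ∧ Mem p (act p φ) q Y)
  offender : ∀ (S : Sylow p G) (A : Subgroup G), Cfsg.Lib.Thompson.IsMaxElem p (S : Subgroup G) A →
    Cfsg.IsElementaryAbelian p (A.map (prj p G)) ∧
      (fixA φ (A.map (prj p G))).index ≤ Nat.card (A.map (prj p G))
  moving : ∃ A, Cfsg.Lib.Thompson.IsMaxElem p (T : Subgroup G) A ∧ ¬ A ≤ cS p G

theorem omegaT_le_vS {T : Sylow p G} (hG : centralizer (Cfsg.pCore p G : Set G) ≤ Cfsg.pCore p G) :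
    Cfsg.omegaOneCenter p (T : Subgroup G) ≤ vS p G := fun z hz => by
  have h1 := omegaOneCenter_mem (X := (T : Subgroup G)) hz
  have hzc : z ∈ centralizer (Cfsg.pCore p G : Set G) :=
    centralizer_le (Cfsg.Lib.Coprime.pCore_le_sylow p T) h1.2
  exact subset_closure ⟨⟨hG hzc, hzc⟩, (omegaOneCenter_elementary (p := p) (T : Subgroup G)).2 z hz⟩

theorem baumann_le (T : Sylow p G) : Cfsg.baumannSubgroupOf p (T : Subgroup G) ≤ T := inf_le_left

theorem thompson_char (T : Sylow p G) :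
    ((Cfsg.thompsonSubgroupOf p (T : Subgroup G)).subgroupOf
      (Cfsg.baumannSubgroupOf p (T : Subgroup G))).Characteristic := by
  set B := Cfsg.baumannSubgroupOf p (T : Subgroup G)
  have hJB : Cfsg.thompsonSubgroupOf p (T : Subgroup G) ≤ B := Cfsg.Lib.BlockBasic.thompson_le_baumann _
  have he : Cfsg.thompsonSubgroupOf p B = Cfsg.thompsonSubgroupOf p (T : Subgroup G) := by
    rw [Cfsg.Lib.Thompson.thompsonSubgroupOf_eq, Cfsg.Lib.Thompson.thompsonSubgroupOf_eq] at *
    refine le_antisymm (sSup_le_sSup fun A hA => ⟨hA.1.trans (baumann_le T), hA.2.1, fun C hC hCe => ?_⟩)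
      (sSup_le_sSup fun A hA => ⟨(le_sSup (a := A) hA).trans hJB, hA.2.1, fun C hC hCe =>
        hA.2.2 C (hC.trans (baumann_le T)) hCe⟩)
    obtain ⟨A₀, hA₀⟩ := Cfsg.Lib.Thompson.exists_isMaxElem (p := p) (T : Subgroup G)
    exact (hA₀.2.2 C hC hCe).trans (hA.2.2 A₀ ((le_sSup (a := A₀) hA₀).trans hJB) hA₀.2.1)
  rw [← he, Cfsg.thompsonSubgroupOf, subgroupOf, comap_map_eq_self_of_injective B.subtype_injective]
  refine characteristic_iff_map_le.2 fun e => ?_
  rw [Cfsg.thompsonSubgroup, (gc_map_comap _).l_sSup]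
  exact iSup₂_le fun A hA => le_sSup ⟨(Cfsg.Lib.Thompson.isElementaryAbelian_map_iff e.injective.injOn).2 hA.1,
    fun C hC => by rw [card_map_of_injective e.injective]; exact hA.2 C hC⟩

theorem exists_env_of_le {T : Sylow p G} (hmin : Cfsg.IsPMinimal p G)
    (hcp : centralizer (Cfsg.pCore p G : Set G) ≤ Cfsg.pCore p G)
    (nj : ¬ (Cfsg.thompsonSubgroupOf p (T : Subgroup G)).Normal)
    (hC : cS p G ⊔ (T : Subgroup G) ≠ ⊤) :
    ∃ (W : Type u) (_ : AddCommGroup W) (_ : Finite W), Nonempty (Env T W) := by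
  classical
  obtain ⟨hTn, M, ⟨hM, hTM⟩, -⟩ := hmin T
  have hle : ∀ K : Subgroup G, (T : Subgroup G) ≤ K → K ≠ ⊤ → K ≤ M := fun K => le_coatom hmin hM hTM
  haveI : (vS p G).Normal := vS_normal
  have hVel := omegaOneCenter_elementary (p := p) (Cfsg.pCore p G)
  have hQS : ∀ S : Sylow p G, Cfsg.pCore p G ≤ (S : Subgroup G) := fun S => Cfsg.Lib.Coprime.pCore_le_sylow p S
  -- the centralizer lies in `M`
  have hCM : cS p G ≤ M := le_sup_left.trans (hle _ le_sup_right hC)
  -- so does the normalizer of the Thompson subgroup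
  set J := Cfsg.thompsonSubgroupOf p (T : Subgroup G) with hJ
  have hNJ : normalizer (J : Set G) ≤ M := by
    refine hle _ (Subgroup.le_normalizer.trans
      (Cfsg.Lib.Thompson.normalizer_le_normalizer_thompson (T : Subgroup G))) fun htop => ?_
    exact nj (normalizer_eq_top_iff.1 htop)
  obtain ⟨W, iW, iF, φ₀, e, hchar, heq⟩ := exists_module (p := p) (V := vS p G) (G₀ := (⊤ : Subgroup G))
    hVel (Subgroup.normalizer_eq_top_iff.2 (vS_normal (p := p) (G := G))).ge
  have hactC : ∀ c ∈ cS p G, φ₀ ⟨c, mem_top c⟩ = 1 := fun c hc =>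
    DFunLike.ext (F := AddMonoid.End W) _ _ fun w => by
      obtain ⟨y, rfl⟩ := e.surjective w
      show φ₀ ⟨c, mem_top c⟩ (e (Additive.ofMul (Additive.toMul y))) = e y
      have hm : c * ((Additive.toMul y : vS p G) : G) * c⁻¹ = ((Additive.toMul y : vS p G) : G) := by
        rw [← mem_centralizer_iff.1 hc _ (Additive.toMul y).2, mul_inv_cancel_right]
      rw [heq ⟨c, mem_top c⟩ (Additive.toMul y) (by
        show c * ((Additive.toMul y : vS p G) : G) * c⁻¹ ∈ vS p G
        rw [hm]; exact (Additive.toMul y).2)]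
      exact congrArg e (congrArg Additive.ofMul (Subtype.ext hm))
  let φ : G ⧸ cS p G →* AddMonoid.End W :=
    QuotientGroup.lift (cS p G)
      { toFun := fun g => φ₀ ⟨g, mem_top g⟩
        map_one' := map_one φ₀
        map_mul' := fun a b => map_mul φ₀ ⟨a, mem_top a⟩ ⟨b, mem_top b⟩ }
      fun c hc => hactC c hc
  let f : ↥(⊤ : Subgroup G) →* G ⧸ cS p G := (prj p G).comp (⊤ : Subgroup G).subtype
  have hinj : Function.Injective φ := by
    refine (injective_iff_map_eq_one φ).2 fun x => ?_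
    induction x using QuotientGroup.induction_on with
    | _ g =>
      intro hg
      refine (QuotientGroup.eq_one_iff g).2 (mem_centralizer_iff.2 fun v hv => ?_)
      have hm : g * v * g⁻¹ ∈ vS p G := vS_normal.conj_mem v hv g
      have h1 := heq ⟨g, mem_top g⟩ ⟨v, hv⟩ hm
      have hg' : φ₀ ⟨g, mem_top g⟩ = 1 := hg
      rw [hg'] at h1
      have h2 : v = g * v * g⁻¹ :=
        congrArg (fun z : Additive (vS p G) => ((Additive.toMul z : vS p G) : G)) (e.injective h1)
      conv_lhs => rw [h2]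
      simp
  have br : Bridge φ f e :=
    ⟨hinj, fun x => by
      induction x using QuotientGroup.induction_on with
      | _ g => exact ⟨⟨g, mem_top g⟩, rfl⟩,
     (Subgroup.normalizer_eq_top_iff.2 (vS_normal (p := p) (G := G))).ge, fun g x h => heq g x h⟩
  have hπ : Function.Surjective (prj p G) := QuotientGroup.mk'_surjective _
  -- trivial core
  have hcore : Cfsg.pCore p (G ⧸ cS p G) = ⊥ := by
    set K := (Cfsg.pCore p (G ⧸ cS p G)).comap (prj p G) with hK
    haveI hKn : K.Normal := Subgroup.Normal.comap inferInstance _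
    have hKT : K ≤ cS p G ⊔ (T : Subgroup G) := by
      intro x hx
      have h1 := Cfsg.Lib.Coprime.pCore_le_sylow p (T.mapSurjective hπ) hx
      rw [Sylow.coe_mapSurjective] at h1
      obtain ⟨t, ht, hte⟩ := h1
      have h2 : x * t⁻¹ ∈ cS p G := by
        rw [← QuotientGroup.eq_one_iff]
        show prj p G (x * t⁻¹) = 1
        rw [map_mul, map_inv, hte, mul_inv_cancel]
      simpa using mul_mem_sup h2 ht
    obtain ⟨R, hR⟩ := card_sylow_inf T K
    have hfr := Sylow.normalizer_sup_eq_top R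
    rw [hR] at hfr
    have hTN : (T : Subgroup G) ≤ normalizer (((T : Subgroup G) ⊓ K : Subgroup G) : Set G) := fun t ht => by
      rw [mem_normalizer_iff]
      intro y
      refine ⟨fun hy => ⟨(T : Subgroup G).mul_mem ((T : Subgroup G).mul_mem ht hy.1) ((T : Subgroup G).inv_mem ht),
        hKn.conj_mem y hy.2 t⟩, fun hy => ⟨?_, ?_⟩⟩
      · show y ∈ (T : Subgroup G)
        simpa [mul_assoc] using
          (T : Subgroup G).mul_mem ((T : Subgroup G).mul_mem ((T : Subgroup G).inv_mem ht) hy.1) ht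
      · simpa [mul_assoc] using hKn.conj_mem _ hy.2 t⁻¹
    have hTKn : ((T : Subgroup G) ⊓ K).Normal := by
      rw [← normalizer_eq_top_iff]
      by_contra hne'
      exact hM.1 (top_le_iff.1 (hfr ▸ sup_le (hle _ hTN hne') (hKT.trans (sup_le hCM hTM))))
    have hTKQ : (T : Subgroup G) ⊓ K ≤ Cfsg.pCore p G := le_sSup ⟨hTKn, T.2.to_le inf_le_left⟩
    refine (eq_bot_iff_forall _).2 fun x hx => ?_
    obtain ⟨y, rfl⟩ := hπ x
    refine (QuotientGroup.eq_one_iff y).2 ?_
    obtain ⟨c, hc, t, ht, hct⟩ := mem_sup_of_normal_left.1 (hKT (show y ∈ K from hx))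
    have htK : t ∈ K := by
      have hcK : c ∈ K := by
        show prj p G c ∈ Cfsg.pCore p (G ⧸ cS p G)
        rw [show prj p G c = 1 from (QuotientGroup.eq_one_iff c).2 hc]
        exact one_mem _
      have h3 := mul_mem (inv_mem hcK) (show y ∈ K from hx)
      rwa [← hct, inv_mul_cancel_left] at h3
    rw [← hct]
    exact mul_mem hc (pCore_le_cS (hTKQ ⟨ht, htK⟩))
  -- offenders
  have hmap : ∀ A : Subgroup G, (A.subgroupOf ⊤).map f = A.map (prj p G) := fun A => by
    ext x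
    exact ⟨fun ⟨a, ha, he⟩ => ⟨a, ha, he⟩, fun ⟨a, ha, he⟩ => ⟨⟨a, mem_top a⟩, ha, he⟩⟩
  have hoffS : ∀ (S : Sylow p G) (A : Subgroup G), Cfsg.Lib.Thompson.IsMaxElem p (S : Subgroup G) A →
      Cfsg.IsElementaryAbelian p (A.map (prj p G)) ∧
        (fixA φ (A.map (prj p G))).index ≤ Nat.card (A.map (prj p G)) := by
    intro S A hA
    obtain ⟨h1, h2, -⟩ := br.offender (p := p) le_top
      (bestOffender_of_max (fun v hv => hQS S (vS_mem hv).1) hVel hA)
    exact ⟨hmap A ▸ h1, hmap A ▸ h2⟩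
  obtain ⟨A, hA, hAC⟩ : ∃ A, Cfsg.Lib.Thompson.IsMaxElem p (T : Subgroup G) A ∧ ¬ A ≤ cS p G := by
    by_contra hcon
    push Not at hcon
    obtain ⟨R, hR⟩ := card_sylow_inf T (cS p G)
    have hfr := Sylow.normalizer_sup_eq_top R
    rw [hR] at hfr
    refine hM.1 (top_le_iff.1 (hfr ▸ sup_le (le_trans ?_ hNJ) hCM))
    intro k hk
    have hle' : FFSLTwo.cj k J ≤ J := by
      rw [hJ, Cfsg.Lib.Thompson.thompsonSubgroupOf_eq]
      refine cj_sSup_le fun B hB => ⟨?_, el_cj k hB.2.1, fun D hD hDe => (hB.2.2 D hD hDe).trans (card_cj k B).ge⟩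
      rintro _ ⟨b, hb, rfl⟩
      exact ((mem_normalizer_iff.1 hk b).1 ⟨hB.1 hb, hcon B hB hb⟩).1
    have he := eq_of_le_of_card_ge hle' (card_cj k J).ge
    rw [mem_normalizer_iff]
    intro z
    refine ⟨fun hz => conj_eq_self he hz, fun hz => ?_⟩
    rw [← he, mem_cj] at hz
    simpa [mul_assoc] using hz
  have hpm := isPMinimal_quotient hmin hM hTM hCM
  have hAne : A.map (prj p G) ≠ ⊥ := fun hb => hAC fun a ha =>
    (QuotientGroup.eq_one_iff a).1 (mem_bot.1 (hb ▸ mem_map_of_mem (prj p G) ha))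
  obtain ⟨q, N, g, ffV, hdata⟩ := exists_data hinj hchar hpm hcore (T.mapSurjective hπ)
    ⟨_, hAne, (hoffS T A hA).1, (hoffS T A hA).2⟩
  have hN : M.map (prj p G) = N := by
    obtain ⟨-, M', -, huniq⟩ := hpm (T.mapSurjective hπ)
    have h1 : IsCoatom (M.map (prj p G)) := by
      have hker : (prj p G).ker = cS p G := QuotientGroup.ker_mk' _
      refine ⟨fun ht => hM.1 ?_, fun K hK => ?_⟩
      · rw [← sup_eq_left.2 hCM, ← hker, ← comap_map_eq, ht, comap_top]
      · have h1 : M < K.comap (prj p G) := by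
          have := (comap_lt_comap_of_surjective hπ).2 hK
          rwa [comap_map_eq, hker, sup_eq_left.2 hCM] at this
        rw [← map_comap_eq_self_of_surjective hπ K, hM.2 _ h1, map_top_of_surjective _ hπ]
    rw [huniq _ ⟨h1, by rw [Sylow.coe_mapSurjective]; exact map_mono hTM⟩, huniq _ ⟨g.hM, g.hTM⟩]
  subst hN
  exact ⟨W, iW, iF, ⟨{
    M := M, coatom := hM, hTM := hTM, hCM := hCM, hNJ := hNJ, φ := φ, e := e
    act_eq := fun g' x hx => heq ⟨g', mem_top g'⟩ x hx
    q := q, glob := g, ff := ffV, off := hdata, offender := hoffS, moving := ⟨A, hA, hAC⟩ }⟩⟩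

theorem exists_env' {T : Sylow p G} (hmin : Cfsg.IsPMinimal p G)
    (hcp : centralizer (Cfsg.pCore p G : Set G) ≤ Cfsg.pCore p G)
    (nj : ¬ (Cfsg.thompsonSubgroupOf p (T : Subgroup G)).Normal)
    (nz : ¬ (Cfsg.omegaOneCenter p (T : Subgroup G)).Normal) :
    ∃ (W : Type u) (_ : AddCommGroup W) (_ : Finite W), Nonempty (Env T W) := by
  refine exists_env_of_le hmin hcp nj fun htop => nz ?_
  have hTc : (T : Subgroup G) ≤ centralizer (Cfsg.omegaOneCenter p (T : Subgroup G) : Set G) := fun t ht =>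
    mem_centralizer_iff.2 fun z hz => (mem_centralizer_iff.1 (omegaOneCenter_mem hz).2 t ht).symm
  have h : cS p G ⊔ (T : Subgroup G) ≤ centralizer (Cfsg.omegaOneCenter p (T : Subgroup G) : Set G) :=
    _root_.sup_le (centralizer_le (omegaT_le_vS (T := T) hcp)) hTc
  exact Cfsg.Lib.PushUp.normal_of_le_center fun z hz => mem_center_iff.2 fun g =>
    (mem_centralizer_iff.1 (h (htop ▸ mem_top g)) z hz).symm

theorem exists_env {T : Sylow p G} (h : Hyps T) :
    ∃ (W : Type u) (_ : AddCommGroup W) (_ : Finite W), Nonempty (Env T W) :=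
  exists_env' h.min h.cp (fun hJ => h.nochar _ (Cfsg.Lib.BlockBasic.thompson_le_baumann _)
    (Cfsg.Lib.Thompson.thompsonSubgroupOf_ne_bot T.2 fun hb => (h.min T).1 (hb ▸ inferInstance))
    (thompson_char T) hJ) h.nz

namespace Env

variable {T : Sylow p G} {W : Type u} [AddCommGroup W] [Finite W] (d : Env T W)
include d

theorem prj_eq_one {x : G} : prj p G x = 1 ↔ x ∈ cS p G := QuotientGroup.eq_one_iff x

theorem fix_iff (g : G) (x : vS p G) :
    d.φ (prj p G g) (d.e (Additive.ofMul x)) = d.e (Additive.ofMul x) ↔ g * (x : G) = x * g := by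
  rw [d.act_eq g x (vS_normal.conj_mem _ x.2 g), d.e.injective.eq_iff, Additive.ofMul.injective.eq_iff,
    ← Subtype.coe_inj, mul_inv_eq_iff_eq_mul]

theorem dd_eq (g : G) (x : vS p G) : ∃ h : ⁅g, (x : G)⁆ ∈ vS p G,
    dd d.φ (prj p G g) (d.e (Additive.ofMul x)) = d.e (Additive.ofMul ⟨⁅g, (x : G)⁆, h⟩) := by
  have h0 : g * (x : G) * g⁻¹ ∈ vS p G := vS_normal.conj_mem _ x.2 g
  have h : ⁅g, (x : G)⁆ ∈ vS p G := by
    rw [commutatorElement_def]; exact mul_mem h0 (inv_mem x.2)
  refine ⟨h, ?_⟩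
  rw [dd_apply, d.act_eq g x h0, sub_eq_iff_eq_add, ← map_add, ← ofMul_mul]
  refine congrArg d.e (congrArg Additive.ofMul (Subtype.ext ?_))
  show g * (x : G) * g⁻¹ = ⁅g, (x : G)⁆ * x
  rw [commutatorElement_def, inv_mul_cancel_right]

theorem exists_vec (w : W) : ∃ x : vS p G, d.e (Additive.ofMul x) = w :=
  ⟨Additive.toMul (d.e.symm w), by rw [ofMul_toMul, d.e.apply_symm_apply]⟩

end Env

end Cfsg.Lib.PushMin
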