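import Cfsg.Agent.PushUpBlocks.SingleCommon
import Cfsg.Agent.Components.Amalgam.Graph

/-!
An embedding carries the shape of a block to the shape of a block.
-/

set_option autoImplicit false
set_option linter.unusedSectionVars false
set_option linter.style.haveILetI false

namespace Cfsg.Lib.PushBlocks

open Subgroup Matrix
open scoped commutatorElement

universe u v

variable {H : Type u} [Group H] [Finite H] {G : Type v} [Group G] [Finite G] {p : ℕ} [hp : Fact p.Prime]
variable (f : H →* G) (hf : Function.Injective f)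
include hf

theorem map_inf_centralizer (X Y : Subgroup H) :
    (X ⊓ centralizer (Y : Set H)).map f = X.map f ⊓ centralizer ((Y.map f : Subgroup G) : Set G) := by
  ext g
  constructor
  · rintro ⟨x, ⟨hx, hxc⟩, rfl⟩
    refine ⟨mem_map_of_mem f hx, mem_centralizer_iff.2 ?_⟩
    rintro _ ⟨y, hy, rfl⟩
    rw [← map_mul, ← map_mul, mem_centralizer_iff.1 hxc y hy]
  · rintro ⟨⟨x, hx, rfl⟩, hxc⟩
    exact ⟨x, ⟨hx, mem_centralizer_iff.2 fun y hy => hf (by
      rw [map_mul, map_mul]; exact mem_centralizer_iff.1 hxc _ (mem_map_of_mem f hy))⟩, rfl⟩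

theorem map_pResidualOf_inj (E : Subgroup H) :
    (Cfsg.pResidualOf p E).map f = Cfsg.pResidualOf p (E.map f) := by
  simp only [Cfsg.pResidualOf, Cfsg.pResidual, MonoidHom.map_closure]
  congr 1
  ext x
  simp only [Set.mem_image, Set.mem_setOf_eq, Subgroup.coe_subtype]
  constructor
  · rintro ⟨_, ⟨g, hg, rfl⟩, rfl⟩
    refine ⟨⟨f (g : H), mem_map_of_mem f g.2⟩, ?_, rfl⟩
    rw [← Subgroup.orderOf_coe] at hg ⊢
    exact (orderOf_injective f hf _).symm ▸ hg
  · rintro ⟨⟨_, g, hg, rfl⟩, hx, rfl⟩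
    refine ⟨g, ⟨⟨g, hg⟩, ?_, rfl⟩, rfl⟩
    rw [← Subgroup.orderOf_coe] at hx ⊢
    rwa [orderOf_injective f hf] at hx

theorem map_pCoreOf_inj (E : Subgroup H) : (Cfsg.pCoreOf p E).map f = Cfsg.pCoreOf p (E.map f) := by
  let e : E ≃* ↥(E.map f) := E.equivMapOfInjective f hf
  have h1 : (Cfsg.pCore p ↥E).map e.toMonoidHom = Cfsg.pCore p ↥(E.map f) := by
    refine le_antisymm ?_ fun x hx => ⟨e.symm x, ?_, e.apply_symm_apply x⟩
    · exact le_sSup ⟨Subgroup.Normal.map inferInstance _ e.surjective,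
        (Cfsg.Lib.Components.isPGroup_pCore p).map _⟩
    · refine (le_sSup ⟨Subgroup.Normal.map inferInstance _ e.symm.surjective,
        (Cfsg.Lib.Components.isPGroup_pCore p).map _⟩ :
        (Cfsg.pCore p ↥(E.map f)).map e.symm.toMonoidHom ≤ Cfsg.pCore p ↥E) ?_
      exact ⟨x, hx, rfl⟩
  rw [Cfsg.pCoreOf, Cfsg.pCoreOf, ← h1, Subgroup.map_map, Subgroup.map_map]
  rfl

theorem map_omegaOneCenter_inj (X : Subgroup H) :
    (Cfsg.omegaOneCenter p X).map f = Cfsg.omegaOneCenter p (X.map f) := by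
  rw [Cfsg.omegaOneCenter, Cfsg.omegaOneCenter, ← map_inf_centralizer f hf, Cfsg.omegaOne, Cfsg.omegaOne,
    MonoidHom.map_closure]
  congr 1
  ext y
  simp only [Set.mem_image, Set.mem_setOf_eq]
  constructor
  · rintro ⟨x, ⟨hx, hxp⟩, rfl⟩
    exact ⟨mem_map_of_mem f hx, by rw [← map_pow, hxp, map_one]⟩
  · rintro ⟨⟨x, hx, rfl⟩, hxp⟩
    exact ⟨x, ⟨hx, hf (by rw [map_pow, hxp, map_one])⟩, rfl⟩

theorem map_frattini_inj (X : Subgroup H) :
    ((frattini ↥X).map X.subtype).map f = (frattini ↥(X.map f)).map (X.map f).subtype := by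
  let e : X ≃* ↥(X.map f) := X.equivMapOfInjective f hf
  have h : (frattini ↥X).map e.toMonoidHom = frattini ↥(X.map f) := OrderIso.map_radical e.mapSubgroup
  rw [← h, Subgroup.map_map, Subgroup.map_map]
  rfl

theorem actsSL2_inj {F : Type} [Field F] {R : Subgroup (Matrix.SpecialLinearGroup (Fin 2) F)}
    {E U U₀ : Subgroup H} (h : Cfsg.ActsAsSL2OnSection F R E U U₀) :
    Cfsg.ActsAsSL2OnSection F R (E.map f) (U.map f) (U₀.map f) := by
  obtain ⟨h1, h2, ρ, ψ, hρ, hψs, hψ, hact⟩ := h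
  let fE := E.equivMapOfInjective f hf
  let fU := U.equivMapOfInjective f hf
  refine ⟨(Subgroup.map_mono h1).trans (le_normalizer_map f), Subgroup.map_mono h2,
    ρ.comp fE.symm.toMonoidHom, ψ.comp fU.symm.toMonoidHom, ?_, hψs.comp fU.symm.surjective, fun u => ?_,
    fun x u => ?_⟩
  · rw [MonoidHom.range_comp, MonoidHom.range_eq_top.mpr fE.symm.surjective, ← MonoidHom.range_eq_map, hρ]
  · obtain ⟨v, rfl⟩ := fU.surjective u
    rw [show (fU v : G) = f v from rfl, Subgroup.mem_map_iff_mem hf, ← hψ v,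
      MonoidHom.comp_apply, MulEquiv.coe_toMonoidHom, MulEquiv.symm_apply_apply]
  · obtain ⟨y, rfl⟩ := fE.surjective x
    obtain ⟨v, rfl⟩ := fU.surjective u
    obtain ⟨w, hw1, hw2⟩ := hact y v
    refine ⟨fU w, ?_, ?_⟩
    · show f w = f y * f v * (f y)⁻¹
      rw [hw1, map_mul, map_mul, map_inv]
    · simp only [MonoidHom.comp_apply, MulEquiv.coe_toMonoidHom, MulEquiv.symm_apply_apply]
      exact hw2

/-- the shape of a block is carried along -/
theorem linShape_map {B E : Subgroup H} (h : LinShape p B E) : LinShape p (B.map f) (E.map f) := by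
  obtain ⟨h1, h2, h3, F, iF, iFt, n, hF, ⟨hi⟩, hact, hex⟩ := h
  have hQ := map_pCoreOf_inj (p := p) f hf E
  have hW : (Cfsg.omegaOneCenter p (Cfsg.pCoreOf p E)).map f =
      Cfsg.omegaOneCenter p (Cfsg.pCoreOf p (E.map f)) := by rw [map_omegaOneCenter_inj f hf, hQ]
  have hZ : (Cfsg.omegaOneCenter p (Cfsg.pCoreOf p E) ⊓ centralizer (E : Set H)).map f =
      Cfsg.omegaOneCenter p (Cfsg.pCoreOf p (E.map f)) ⊓ centralizer ((E.map f : Subgroup G) : Set G) := by
    rw [map_inf_centralizer f hf, hW]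
  let fE := E.equivMapOfInjective f hf
  have hcore : (Cfsg.pCore p ↥E).map fE.toMonoidHom = Cfsg.pCore p ↥(E.map f) := by
    refine map_injective (E.map f).subtype_injective ?_
    change _ = Cfsg.pCoreOf p (E.map f)
    rw [← hQ, Cfsg.pCoreOf, Subgroup.map_map, Subgroup.map_map]
    rfl
  have eqv : ↥(E.map f) ⧸ Cfsg.pCore p ↥(E.map f) ≃* ↥E ⧸ Cfsg.pCore p ↥E :=
    (QuotientGroup.congr (Cfsg.pCore p ↥E) (Cfsg.pCore p ↥(E.map f)) fE hcore).symm
  refine ⟨by rw [← map_pResidualOf_inj f hf, h1], by rw [← map_commutator, h2],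
    by rw [← hQ, ← map_commutator, h3], F, iF, iFt, n, hF, ⟨eqv.trans hi⟩, ?_, ?_⟩
  · have := actsSL2_inj f hf hact
    rwa [hW, hZ] at this
  rcases hex with hex | ⟨hp3, hact2, h5, h6, h7, h8, h9⟩
  · exact Or.inl (by rw [← hW, ← hQ, ← hex])
  refine Or.inr ⟨hp3, ?_, ?_, ?_, ?_, ?_, ?_⟩
  · have := actsSL2_inj f hf hact2
    rwa [hW, hQ] at this
  · rw [← hQ, ← map_commutator, h5, hZ, hQ]
  · rw [← hZ, ← h6, map_frattini_inj f hf, hQ]
  · rw [← hZ, ← h7, map_inf_centralizer f hf]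
  · rw [← map_inf_centralizer f hf, card_map_of_injective hf]
    exact h8
  · rintro _ ⟨b, hb, rfl⟩ hb' hle
    refine h9 b hb (fun hc => hb' (mem_centralizer_iff.2 ?_)) ?_
    · rw [← hW]
      rintro _ ⟨w, hw, rfl⟩
      rw [← map_mul, ← map_mul, mem_centralizer_iff.1 hc w hw]
    · rw [← hQ, ← map_inf_centralizer f hf, ← MonoidHom.map_zpowers, ← map_commutator, ← map_commutator,
        Subgroup.map_le_map_iff_of_injective hf] at hle
      exact hle

end Cfsg.Lib.PushBlocks
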