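import Cfsg.Agent.PushUpBlocks.Members

/-!
Pushing up in a minimal parabolic group: conjugating a piece by the Sylow subgroup.
-/

set_option autoImplicit false
set_option linter.unusedSectionVars false
set_option linter.style.haveILetI false

namespace Cfsg.Lib.PushMin

open Subgroup Cfsg.Lib.FFSLTwo Cfsg.Lib.FFModule
open scoped commutatorElement

universe u

variable {G : Type u} [Group G] {p : ℕ} [Finite G] [hp : Fact p.Prime]

namespace Env

variable {T : Sylow p G} {W : Type u} [AddCommGroup W] [Finite W] {d : Env T W}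
variable {A₀ X₀ : Subgroup (G ⧸ cS p G)}

theorem conj_baumann {t : G} (ht : t ∈ (T : Subgroup G)) :
    (Cfsg.baumannSubgroupOf p (T : Subgroup G)).map (MulAut.conj t).toMonoidHom =
      Cfsg.baumannSubgroupOf p (T : Subgroup G) := by
  rw [Cfsg.Lib.BlockBasic.map_baumannSubgroupOf, conj_T ht]

theorem conj_normal (N : Subgroup G) [hn : N.Normal] (t : G) : N.map (MulAut.conj t).toMonoidHom = N :=
  mem_normalizer_iff_map_conj_eq.1 (by rw [normalizer_eq_top_iff.2 hn]; exact mem_top t)

theorem cj_inner {t : G} (ht : t ∈ (T : Subgroup G)) :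
    FFSLTwo.cj (prj p G t) (sSup d.glob.inSyl) = sSup d.glob.inSyl := by
  rw [← d.baumann_image, ← conj_map_prj, conj_baumann ht]

/-- the piece conjugated by an element of the Sylow subgroup -/
noncomputable def Piece.conj (pc : d.Piece A₀ X₀) (t : G) (ht : t ∈ (T : Subgroup G)) :
    d.Piece (FFSLTwo.cj (prj p G t) A₀) (FFSLTwo.cj (prj p G t) X₀) where
  H := pc.H.map (MulAut.conj t).toMonoidHom
  E := pc.E.map (MulAut.conj t).toMonoidHom
  hB := by
    conv_lhs => rw [← conj_baumann ht]
    exact map_mono pc.hB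
  up := by
    rw [conj_map_prj, ← cj_inner ht, ← cj_sup, ← cj_sup]
    exact cj_le_cj.2 pc.up
  down := by
    rw [conj_map_prj, ← cj_sup]
    exact cj_le_cj.2 pc.down
  sylow := by
    conv_lhs => arg 1; rw [← conj_T ht]
    rw [← Subgroup.map_inf _ _ _ (MulAut.conj t).injective, pc.sylow, conj_baumann ht]
  res := by
    rw [show (Cfsg.pResidual p ↥(pc.H.map (MulAut.conj t).toMonoidHom)).map _ =
      Cfsg.pResidualOf p (pc.H.map (MulAut.conj t).toMonoidHom) from rfl, ← Cfsg.Lib.BlockPair.map_pResidualOf, pc.res]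
    rfl
  gen := by
    conv_rhs => arg 2; rw [← conj_baumann ht]
    rw [← Subgroup.map_sup]
    exact map_mono pc.gen
  shape := by
    have h1 := Cfsg.Lib.PushBlocks.linShape_map (MulAut.conj t).toMonoidHom (MulAut.conj t).injective pc.shape
    rwa [conj_baumann ht] at h1
  good := fun hp2 => by
    obtain ⟨x, hx, hxc, hxs⟩ := pc.good hp2
    refine ⟨MulAut.conj t x, ?_, fun hc => hxc ?_, fun s hs => ?_⟩
    · rw [← conj_baumann ht]; exact mem_map_of_mem _ hx
    · simpa [mul_assoc] using (cS_normal (p := p) (G := G)).conj_mem _ hc t⁻¹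
    · rw [← conj_baumann ht] at hs
      obtain ⟨r, hr, rfl⟩ := hs
      rw [← Cfsg.Lib.BlockPair.map_pCoreOf, show MulAut.conj t x = (MulAut.conj t).toMonoidHom x from rfl,
        ← map_commutatorElement]
      exact mem_map_of_mem _ (hxs r hr)
  cs := by
    haveI := pCore_normal (p := p) (G := G)
    rw [← conj_normal (cS p G) t, ← conj_normal (Cfsg.pCore p G) t, ← conj_baumann ht,
      ← Subgroup.map_inf _ _ _ (MulAut.conj t).injective, ← Subgroup.map_inf _ _ _ (MulAut.conj t).injective]
    exact map_mono pc.cs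
  core := by
    rw [← Cfsg.Lib.BlockPair.map_pCoreOf, pc.core, Subgroup.map_inf _ _ _ (MulAut.conj t).injective,
      conj_normal (cS p G) t]

end Env

end Cfsg.Lib.PushMin
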