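import Cfsg.Agent.PushUpBlocks.Kind
import Cfsg.Agent.BlockPair.Main

/-!
Pushing up in a minimal parabolic group: from a spanning set of subnormal blocks to the block structure.
-/

set_option autoImplicit false
set_option linter.unusedSectionVars false
set_option linter.style.haveILetI false

namespace Cfsg.Lib.PushMin

open Subgroup Cfsg.Lib.FFSLTwo Cfsg.Lib.FFModule
open scoped commutatorElement

universe u

variable {G : Type u} [Group G] {p : ℕ} [Finite G] [hp : Fact p.Prime]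

/-- the conclusion of pushing up -/
def Result (T : Sylow p G) (𝓑 : Set (Subgroup G)) : Prop :=
  Cfsg.HasBaumannBlockStructure p (T : Subgroup G) 𝓑 ∧
    (∀ E ∈ 𝓑, ∀ m : ℕ, Nonempty (↥E ⧸ Cfsg.pCore p ↥E ≃* ↥(alternatingGroup (Fin (2 * m + 1)))) →
      ∃ n : ℕ, 2 * m + 1 = 2 ^ n + 1) ∧
    Cfsg.cStarOf p (T : Subgroup G) = (Cfsg.cStarOf p (T : Subgroup G) ⊓ sSup 𝓑) ⊔ (T : Subgroup G)

/-- the shape required of a member inside `C*` -/
def MemberKind (T : Sylow p G) (E : Subgroup G) : Prop :=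
  (∃ (F : Type) (_ : Field F) (_ : Fintype F) (m : ℕ), 3 < p ^ m ∧ Fintype.card F = p ^ m ∧
      Nonempty (↥E ⧸ Cfsg.pCore p ↥E ≃* Matrix.SpecialLinearGroup (Fin 2) F) ∧
      Cfsg.cStarOf p (T : Subgroup G) ⊓ E = E ⊓ normalizer ((T ⊓ E : Subgroup G) : Set G)) ∨
    (p = 2 ∧ ∃ m : ℕ, Nonempty (↥E ⧸ Cfsg.pCore p ↥E ≃* ↥(alternatingGroup (Fin (2 * m + 1)))) ∧
      Nonempty (↥(((Cfsg.cStarOf p (T : Subgroup G) ⊓ E).subgroupOf E).map
        (QuotientGroup.mk' (Cfsg.pCore p ↥E))) ≃* ↥(alternatingGroup (Fin (2 * m))))) ∨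
    (p = 3 ∧ Nonempty (↥E ⧸ Cfsg.pCore p ↥E ≃* ↥(commutator (Matrix.SpecialLinearGroup (Fin 2) (ZMod 3)))) ∧
      ((Cfsg.cStarOf p (T : Subgroup G) ⊓ E).subgroupOf E).map (QuotientGroup.mk' (Cfsg.pCore p ↥E)) =
        Subgroup.center (↥E ⧸ Cfsg.pCore p ↥E))

/-- products of commuting subgroups meet a subgroup in the product of the intersections -/
theorem inf_sSup_eq {C : Subgroup G} {𝓑 : Set (Subgroup G)}
    (hcomm : ∀ E ∈ 𝓑, ∀ E' ∈ 𝓑, E ≠ E' → ⁅E, E'⁆ = ⊥)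
    (hsep : ∀ E ∈ 𝓑, ∀ f ∈ E, ∀ y ∈ sSup {E' | E' ∈ 𝓑 ∧ E' ≠ E}, f * y ∈ C → f ∈ C) :
    C ⊓ sSup 𝓑 = ⨆ E ∈ 𝓑, (C ⊓ E) := by
  classical
  refine le_antisymm ?_ (iSup₂_le fun E hE => inf_le_inf_left _ (le_sSup hE))
  have key : ∀ s : Finset (Subgroup G), (∀ E ∈ s, E ∈ 𝓑) → C ⊓ s.sup id ≤ ⨆ E ∈ 𝓑, (C ⊓ E) := by
    intro s
    induction s using Finset.induction_on with
    | empty => simp
    | @insert E s hEs ih =>
      intro hs
      intro x hxx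
      obtain ⟨hxC, hx⟩ := mem_inf.1 hxx
      have hE := hs E (Finset.mem_insert_self _ _)
      have hs' : ∀ E' ∈ s, E' ∈ 𝓑 := fun E' hE' => hs E' (Finset.mem_insert_of_mem hE')
      have hn : s.sup id ≤ normalizer (E : Set G) := Finset.sup_le fun E' hE' =>
        ((commutator_eq_bot_iff_le_centralizer.1 (hcomm E' (hs' E' hE') E hE fun e => hEs (e ▸ hE'))).trans
          (centralizer_le_normalizer _))
      rw [Finset.sup_insert, id_eq, ← SetLike.mem_coe,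
        coe_mul_of_right_le_normalizer_left _ _ hn] at hx
      obtain ⟨f, hf, y, hy, rfl⟩ := hx
      have hy' : y ∈ sSup {E' | E' ∈ 𝓑 ∧ E' ≠ E} :=
        (Finset.sup_le fun E' hE' => le_sSup (show E' ∈ {E' | E' ∈ 𝓑 ∧ E' ≠ E} from
          ⟨hs' E' hE', fun e => hEs (e ▸ hE')⟩) : s.sup id ≤ _) hy
      have hfC := hsep E hE f hf y hy' hxC
      refine mul_mem ((le_iSup₂ (f := fun E (_ : E ∈ 𝓑) => C ⊓ E) E hE) ⟨hfC, hf⟩) (ih hs' ⟨?_, hy⟩)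
      simpa using C.mul_mem (C.inv_mem hfC) hxC
  haveI : Fintype 𝓑 := Fintype.ofFinite _
  refine le_trans (inf_le_inf_left _ (_root_.sSup_le fun E hE => ?_)) (key 𝓑.toFinset fun E hE => Set.mem_toFinset.1 hE)
  exact Finset.le_sup (f := id) (Set.mem_toFinset.2 hE)

namespace Env

variable {T : Sylow p G} {W : Type u} [AddCommGroup W] [Finite W] {d : Env T W}
variable {A₀ X₀ : Subgroup (G ⧸ cS p G)}
variable (h : Hyps T) (hA : A₀ ∈ d.glob.inSyl) (hX : X₀ ∈ d.glob.outer) (hnc : ¬ Comm A₀ X₀)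
variable (pc : d.Piece A₀ X₀)
include h hA hX hnc pc

/-- the block structure from a spanning set of subnormal blocks -/
theorem assemble {𝓑 : Set (Subgroup G)} (hblk : ∀ E ∈ 𝓑, Cfsg.IsBaumannBlock p (T : Subgroup G) E)
    (hsub : ∀ E ∈ 𝓑, E.IsSubnormal) (hspan : sSup 𝓑 = pc.gens)
    (hT : ∀ E ∈ 𝓑, ∀ t ∈ (T : Subgroup G), E.map (MulAut.conj t).toMonoidHom ∈ 𝓑)
    (hsep : ∀ E ∈ 𝓑, ∀ f ∈ E, ∀ y ∈ sSup {E' | E' ∈ 𝓑 ∧ E' ≠ E},
      f * y ∈ Cfsg.cStarOf p (T : Subgroup G) → f ∈ Cfsg.cStarOf p (T : Subgroup G))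
    (hkind : ∀ E ∈ 𝓑, MemberKind T E)
    (hdeg : ∀ E ∈ 𝓑, ∀ m : ℕ, Nonempty (↥E ⧸ Cfsg.pCore p ↥E ≃* ↥(alternatingGroup (Fin (2 * m + 1)))) →
      ∃ n : ℕ, 2 * m + 1 = 2 ^ n + 1) :
    Result T 𝓑 := by
  have hgn := gens_normal h hA hX hnc pc
  have hgT := gens_sup h hA hX hnc pc
  have hpair : ∀ E ∈ 𝓑, ∀ E' ∈ 𝓑, E ≠ E' → ⁅E, E'⁆ = ⊥ := fun E hE E' hE' hne =>
    (Cfsg.Lib.BlockPair.pair h.cp ⟨T, hblk E hE⟩ (hsub E hE) ⟨T, hblk E' hE'⟩ (hsub E' hE')).resolve_left hne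
  have hnorm : ∀ E ∈ 𝓑, pc.gens ≤ normalizer (E : Set G) := fun E hE => hspan ▸ _root_.sSup_le fun E' hE' => by
    by_cases he : E' = E
    · exact he ▸ Subgroup.le_normalizer
    · exact (commutator_eq_bot_iff_le_centralizer.1 (hpair E' hE' E hE he)).trans (centralizer_le_normalizer _)
  have hmem : ∀ g : G, ∃ r ∈ pc.gens, ∃ t ∈ (T : Subgroup G), r * t = g := fun g =>
    mem_sup_of_normal_left.1 (hgT.ge (mem_top g))
  refine ⟨⟨hblk, fun E hE g => ?_, hpair, ?_, fun E hE hnot => ?_, inf_sSup_eq hpair hsep, hkind⟩, hdeg, ?_⟩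
  · obtain ⟨r, hr, t, ht, rfl⟩ := hmem g
    have h1 := hT E hE t ht
    rw [← mem_normalizer_iff_map_conj_eq.1 (hnorm _ h1 hr), Subgroup.map_map] at h1
    convert h1 using 2
    ext x; simp [mul_assoc]
  · rw [← top_le_iff, ← hgT, ← hspan]
    exact _root_.sup_le le_sup_right (T_le_cStar.trans le_sup_left)
  · exact absorb h hA hX hnc pc hblk hsub hspan.ge hE hnot
  · refine le_antisymm (fun x hx => ?_) (_root_.sup_le inf_le_left T_le_cStar)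
    obtain ⟨r, hr, t, ht, rfl⟩ := hmem x
    refine mul_mem (mem_sup_left ⟨?_, hspan.ge hr⟩) (mem_sup_right ht)
    simpa using mul_mem hx (inv_mem (T_le_cStar ht : t ∈ Cfsg.cStarOf p (T : Subgroup G)))

end Env

end Cfsg.Lib.PushMin
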