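import Cfsg.Agent.BlockPair.Small
import Cfsg.Agent.Classical.Misc.SLTwoTori

/-!
`SL₂`: commuting involutions, the degree of an isomorphic alternating group, and the two smallest fields.
-/

set_option autoImplicit false
set_option linter.unusedSectionVars false
set_option linter.style.haveILetI false

namespace Cfsg.Lib.PushMin

open Subgroup Matrix
open scoped MatrixGroups

/-- involutions centralised by an involution commute -/
theorem sl2_involutions_commute {F : Type} [Field F] {t x y : SL(2, F)} (ht : t ≠ 1) (ht2 : t * t = 1)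
    (hx2 : x * x = 1) (hy2 : y * y = 1) (hx : t * x = x * t) (hy : t * y = y * t) : x * y = y * x := by
  have hd : ∀ {z : SL(2, F)}, z * z = 1 → (z : Matrix (Fin 2) (Fin 2) F) 0 0 = (z : Matrix (Fin 2) (Fin 2) F) 1 1 := by
    intro z hz
    have h1 : z = z⁻¹ := eq_inv_of_mul_eq_one_left hz
    have h2 := congrArg (fun M : SL(2, F) => (M : Matrix (Fin 2) (Fin 2) F) 0 0) h1
    simp only [Matrix.SpecialLinearGroup.coe_inv, Matrix.adjugate_fin_two] at h2
    simpa using h2
  have hcomm : ∀ {z w : SL(2, F)}, (z : Matrix (Fin 2) (Fin 2) F) 0 0 = (z : Matrix (Fin 2) (Fin 2) F) 1 1 →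
      (w : Matrix (Fin 2) (Fin 2) F) 0 0 = (w : Matrix (Fin 2) (Fin 2) F) 1 1 →
      (z * w = w * z ↔ (z : Matrix (Fin 2) (Fin 2) F) 0 1 * (w : Matrix (Fin 2) (Fin 2) F) 1 0 =
        (w : Matrix (Fin 2) (Fin 2) F) 0 1 * (z : Matrix (Fin 2) (Fin 2) F) 1 0) := by
    intro z w hz hw
    rw [show z * w = w * z ↔ ((z * w : SL(2, F)) : Matrix (Fin 2) (Fin 2) F) = ((w * z : SL(2, F)) : Matrix (Fin 2) (Fin 2) F)
      from Subtype.coe_inj.symm, Matrix.SpecialLinearGroup.coe_mul, Matrix.SpecialLinearGroup.coe_mul]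
    constructor
    · intro h
      have h00 := congrFun (congrFun h 0) 0
      simp only [Matrix.mul_apply, Fin.sum_univ_two] at h00
      linear_combination h00
    · intro h
      ext i j
      fin_cases i <;> fin_cases j <;> simp [Matrix.mul_apply, Fin.sum_univ_two, hz, hw] <;>
        first
          | linear_combination h
          | linear_combination -h
          | ring
  set a := (t : Matrix (Fin 2) (Fin 2) F)
  have e1 := (hcomm (hd ht2) (hd hx2)).1 hx
  have e2 := (hcomm (hd ht2) (hd hy2)).1 hy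
  refine (hcomm (hd hx2) (hd hy2)).2 ?_
  by_cases hb : a 0 1 = 0
  · by_cases hc : a 1 0 = 0
    · have hdet : a 0 0 * a 1 1 - a 0 1 * a 1 0 = 1 := by
        rw [← Matrix.det_fin_two]; exact t.2
      have hsq : a 0 0 * a 0 0 = 1 := by rw [hb, hc] at hdet; linear_combination hdet + a 0 0 * hd ht2
      have h11 : a 1 1 = a 0 0 := (hd ht2).symm
      -- a scalar involution other than `1`
      rcases mul_self_eq_one_iff.1 hsq with h1 | h1
      · refine absurd (Subtype.ext ?_) ht
        ext i j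
        fin_cases i <;> fin_cases j <;> simp [a] at * <;> simp [hb, hc, h11, h1]
      have h2 : (2 : F) ≠ 0 := fun h2 => by
        have h1' : a 0 0 = 1 := by linear_combination h1 - h2
        refine absurd (Subtype.ext ?_) ht
        ext i j
        fin_cases i <;> fin_cases j <;> simp [a] at * <;> simp [hb, hc, h11, h1']
      have hz : ∀ {z : SL(2, F)}, z * z = 1 → (z : Matrix (Fin 2) (Fin 2) F) 0 1 = 0 := by
        intro z hz
        have hm : ((z * z : SL(2, F)) : Matrix (Fin 2) (Fin 2) F) = 1 := by rw [hz, Matrix.SpecialLinearGroup.coe_one]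
        rw [Matrix.SpecialLinearGroup.coe_mul] at hm
        have h00 := congrFun (congrFun hm 0) 0
        have h01 := congrFun (congrFun hm 0) 1
        simp [Matrix.mul_apply, Fin.sum_univ_two] at h00 h01
        have hdz : (z : Matrix (Fin 2) (Fin 2) F) 0 0 * (z : Matrix (Fin 2) (Fin 2) F) 1 1 -
            (z : Matrix (Fin 2) (Fin 2) F) 0 1 * (z : Matrix (Fin 2) (Fin 2) F) 1 0 = 1 := by
          rw [← Matrix.det_fin_two]; exact z.2
        rw [← hd hz] at h01 hdz
        have hzz : (z : Matrix (Fin 2) (Fin 2) F) 0 0 * (z : Matrix (Fin 2) (Fin 2) F) 0 0 = 1 := by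
          refine mul_left_cancel₀ h2 ?_
          linear_combination h00 + hdz
        refine mul_left_cancel₀ h2 ?_
        linear_combination ((z : Matrix (Fin 2) (Fin 2) F) 0 0) * h01 - 2 * (z : Matrix (Fin 2) (Fin 2) F) 0 1 * hzz
      rw [hz hx2, hz hy2, zero_mul, zero_mul]
    · have hxb : (x : Matrix (Fin 2) (Fin 2) F) 0 1 = 0 := by
        rw [show (t : Matrix (Fin 2) (Fin 2) F) 0 1 = 0 from hb, zero_mul] at e1
        exact (mul_eq_zero.1 e1.symm).resolve_right hc
      have hyb : (y : Matrix (Fin 2) (Fin 2) F) 0 1 = 0 := by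
        rw [show (t : Matrix (Fin 2) (Fin 2) F) 0 1 = 0 from hb, zero_mul] at e2
        exact (mul_eq_zero.1 e2.symm).resolve_right hc
      rw [hxb, hyb, zero_mul, zero_mul]
  · refine mul_left_cancel₀ hb ?_
    linear_combination (x : Matrix (Fin 2) (Fin 2) F) 0 1 * e2 - (y : Matrix (Fin 2) (Fin 2) F) 0 1 * e1

theorem nontrivial_commutator {F : Type} [Field F] [Fintype F] {p n : ℕ} [Fact p.Prime]
    (hF : Fintype.card F = p ^ n) : Nontrivial ↥(commutator SL(2, F)) := by
  have hsm := Cfsg.Lib.BlockPair.small_sl2 (p := p) hF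
  by_cases h2 : p = 2
  · haveI := hsm.1 h2
    exact IsSimpleGroup.toNontrivial
  · exact Finite.one_lt_card_iff_nontrivial.1 (by have := (hsm.2 h2).1; omega)

/-- an alternating group isomorphic to the derived group of some `SL₂` has degree three or five -/
theorem alt_degree {F : Type} [Field F] [Fintype F] {p n m : ℕ} [Fact p.Prime] (hF : Fintype.card F = p ^ n)
    (e : ↥(commutator SL(2, F)) ≃* ↥(alternatingGroup (Fin (2 * m + 1)))) : m = 1 ∨ m = 2 := by
  classical
  haveI := nontrivial_commutator hF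
  by_contra hm
  push Not at hm
  rcases Nat.eq_zero_or_pos m with rfl | hpos
  · haveI : Subsingleton (Fin (2 * 0 + 1)) := inferInstanceAs (Subsingleton (Fin 1))
    haveI : Subsingleton (Equiv.Perm (Fin (2 * 0 + 1))) := ⟨fun a b => Equiv.ext fun x => Subsingleton.elim _ _⟩
    exact not_nontrivial ↥(alternatingGroup (Fin (2 * 0 + 1))) e.symm.toEquiv.nontrivial
  have h7 : 7 ≤ 2 * m + 1 := by omega
  let ι : Fin 7 → Fin (2 * m + 1) := Fin.castLE h7
  have hι : Function.Injective ι := Fin.castLE_injective h7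
  let sw : Fin 7 → Fin 7 → Fin 7 → Fin 7 → ↥(alternatingGroup (Fin (2 * m + 1))) := fun i j k l =>
    if h : i ≠ j ∧ k ≠ l then ⟨Equiv.swap (ι i) (ι j) * Equiv.swap (ι k) (ι l), by
      rw [Equiv.Perm.mem_alternatingGroup, map_mul, Equiv.Perm.sign_swap (hι.ne h.1),
        Equiv.Perm.sign_swap (hι.ne h.2)]
      rfl⟩ else 1
  let emb : Equiv.Perm (Fin 7) →* Equiv.Perm (Fin (2 * m + 1)) := Equiv.Perm.viaEmbeddingHom ⟨ι, hι⟩
  have hsw : ∀ i j k l, i ≠ j → k ≠ l →
      ((sw i j k l : ↥(alternatingGroup (Fin (2 * m + 1)))) : Equiv.Perm (Fin (2 * m + 1))) =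
        emb (Equiv.swap i j * Equiv.swap k l) := by
    intro i j k l hij hkl
    have hs : ∀ a b, emb (Equiv.swap a b) = Equiv.swap (ι a) (ι b) := fun a b => by
      ext x
      simp only [emb, Equiv.Perm.viaEmbeddingHom_apply]
      by_cases hx : x ∈ Set.range ι
      · obtain ⟨y, rfl⟩ := hx
        rw [show ι y = (⟨ι, hι⟩ : Fin 7 ↪ Fin (2 * m + 1)) y from rfl, Equiv.Perm.viaEmbedding_apply]
        exact congrArg Fin.val (hι.swap_apply a b y).symm
      · rw [Equiv.Perm.viaEmbedding_apply_of_notMem _ _ _ hx, Equiv.swap_apply_of_ne_of_ne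
          (fun h => hx ⟨a, h.symm⟩) (fun h => hx ⟨b, h.symm⟩)]
    rw [map_mul, hs, hs]
    simp only [sw, dif_pos (And.intro hij hkl)]
  have hne : ∀ {z : ↥(alternatingGroup (Fin (2 * m + 1)))} {σ : Equiv.Perm (Fin 7)},
      (z : Equiv.Perm _) = emb σ → σ ≠ 1 → z ≠ 1 := fun {z σ} hz hσ h => hσ
    (Equiv.Perm.viaEmbeddingHom_injective _ (by rw [map_one]; exact hz.symm.trans (congrArg Subtype.val h)))
  have ht := hsw 0 1 2 3 (by decide) (by decide)
  have hx := hsw 0 2 1 3 (by decide) (by decide)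
  have hy := hsw 0 1 4 5 (by decide) (by decide)
  have hcomm : ∀ {a b : ↥(alternatingGroup (Fin (2 * m + 1)))} {σ τ : Equiv.Perm (Fin 7)},
      (a : Equiv.Perm _) = emb σ → (b : Equiv.Perm _) = emb τ → (a * b = b * a ↔ σ * τ = τ * σ) := by
    intro a b σ τ ha hb
    rw [← Subtype.coe_inj, Subgroup.coe_mul, Subgroup.coe_mul, ha, hb, ← map_mul, ← map_mul,
      (Equiv.Perm.viaEmbeddingHom_injective _).eq_iff]
  have hsq : ∀ {a : ↥(alternatingGroup (Fin (2 * m + 1)))} {σ : Equiv.Perm (Fin 7)},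
      (a : Equiv.Perm _) = emb σ → σ * σ = 1 → a * a = 1 := fun {a σ} ha hσ => Subtype.ext (by
    rw [Subgroup.coe_mul, ha, ← map_mul, hσ, map_one]; rfl)
  set t := sw 0 1 2 3
  set x := sw 0 2 1 3
  set y := sw 0 1 4 5
  have h1 := (hcomm ht hx).2 (by decide)
  have h2 := (hcomm ht hy).2 (by decide)
  have h3 : ¬ x * y = y * x := fun h => absurd ((hcomm hx hy).1 h) (by decide)
  refine h3 (e.symm.injective ?_)
  rw [map_mul, map_mul]
  refine Subtype.ext (sl2_involutions_commute (t := (e.symm t : SL(2, F))) ?_ ?_ ?_ ?_ ?_ ?_)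
  · exact fun h => hne ht (by decide) (e.symm.injective (by rw [map_one]; exact Subtype.ext h))
  · rw [← Subgroup.coe_mul, ← map_mul, hsq ht (by decide), map_one]; rfl
  · rw [← Subgroup.coe_mul, ← map_mul, hsq hx (by decide), map_one]; rfl
  · rw [← Subgroup.coe_mul, ← map_mul, hsq hy (by decide), map_one]; rfl
  · rw [← Subgroup.coe_mul, ← map_mul, h1, map_mul]; rfl
  · rw [← Subgroup.coe_mul, ← map_mul, h2, map_mul]; rfl

/-- a change of field -/
noncomputable def slEquiv {F K : Type} [Field F] [Field K] (e : F ≃+* K) : SL(2, F) ≃* SL(2, K) :=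
  MonoidHom.toMulEquiv (SpecialLinearGroup.map e.toRingHom) (SpecialLinearGroup.map e.symm.toRingHom)
    (by ext x i j; simp) (by ext x i j; simp)

theorem sl_two_fixed : ∀ a m : SL(2, ZMod 2), a * a = 1 → a ≠ 1 → m * m * m = 1 → m * a * m⁻¹ = a → m = 1 := by
  decide +kernel

theorem sl_three_normalizing : ∀ a m : SL(2, ZMod 3), a * a * a = 1 → a ≠ 1 → m * m * (m * m) = 1 →
    (m * a * m⁻¹ = a ∨ m * a * m⁻¹ = a * a) → m = 1 ∨ m = -1 := by
  decide +kernel

theorem sl_three_central : ∀ m : SL(2, ZMod 3), m * m * (m * m) = 1 →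
    (∀ x : SL(2, ZMod 3), x * x * (x * x) = 1 → m * x = x * m) → m = 1 ∨ m = -1 := by
  decide +kernel

end Cfsg.Lib.PushMin
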