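import Cfsg.Agent.PushUpBlocks.Piece
import Cfsg.Agent.BlockPair.Conj
import Cfsg.Agent.BlockPair.Final
import Cfsg.Agent.BlockNormal.Final

/-!
Pushing up in a minimal parabolic group: the conjugates of the piece and the subgroup they generate.
-/

set_option autoImplicit false
set_option linter.unusedSectionVars false
set_option linter.style.haveILetI false

namespace Cfsg.Lib.FFModule

open Subgroup Cfsg.Lib.FFSLTwo

variable {P : Type*} [Group P] [Finite P] {V : Type*} [AddCommGroup V] [Finite V]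
variable {p : ℕ} [Fact p.Prime] {φ : P →* AddMonoid.End V} {q : ℕ}

namespace Glob

variable {T : Sylow p P} {M : Subgroup P} (g : Glob p φ q T M)
include g

/-- the span of an inner member and the outer members not commuting with it -/
def pair (_ : Glob p φ q T M) (A : Subgroup P) : Subgroup P :=
  sSup {L | ∃ X, (Mem p φ q X ∧ ¬ X ≤ M) ∧ ¬ Comm A X ∧ L = A ⊔ X}

theorem pair_eq {A X : Subgroup P} (hA : A ∈ g.inSyl) (hX : X ∈ g.outer) (hnc : ¬ Comm A X) :
    g.pair A = A ⊔ X := by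
  refine le_antisymm (_root_.sSup_le ?_) (le_sSup ⟨X, hX, hnc, rfl⟩)
  rintro _ ⟨Y, hY, hnc', rfl⟩
  exact _root_.sup_le le_sup_left (g.ff.line_le hA.1 hX.1 hnc (g.class_line hA hX hY hnc hnc'))

theorem cj_pair {t : P} (ht : t ∈ (T : Subgroup P)) {A : Subgroup P} (hA : A ∈ g.inSyl) :
    FFSLTwo.cj t (g.pair A) = g.pair (FFSLTwo.cj t A) := by
  obtain ⟨X, hX, hnc⟩ := g.exists_outer_nc hA.1
  rw [g.pair_eq hA hX hnc, cj_sup, g.pair_eq (g.cj_inSyl ht hA) (g.cj_outer (g.hTM ht) hX)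
    (fun h => hnc ((comm_cj_iff t).1 h))]

end Glob

end Cfsg.Lib.FFModule

namespace Cfsg.Lib.PushMin

open Subgroup Cfsg.Lib.FFSLTwo Cfsg.Lib.FFModule
open scoped commutatorElement

universe u v

theorem map_pResidual_self {G : Type u} [Group G] [Finite G] {P : Type v} [Group P] [Finite P] {p : ℕ}
    [hp : Fact p.Prime] (f : G →* P) (H : Subgroup G) :
    ((Cfsg.pResidual p ↥H).map H.subtype).map f = Cfsg.pResidualOf p (H.map f) := by
  let f' : ↥H →* ↥(H.map f) := f.subgroupMap H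
  have h1 : (Cfsg.pResidual p ↥H).map f' = Cfsg.pResidual p ↥(H.map f) :=
    Cfsg.Lib.PushBlocks.map_res (p := p) f' (f.subgroupMap_surjective H)
  rw [Cfsg.pResidualOf, ← h1, Subgroup.map_map, Subgroup.map_map]
  rfl

/-- coprime elements of an extension by a `p`-group -/
theorem coprime_mem_of_sup {P : Type v} [Group P] [Finite P] {p : ℕ} [hp : Fact p.Prime] {L R : Subgroup P}
    (hR : IsPGroup p R) (hn : R ≤ normalizer (L : Set P)) {x : P} (hx : x ∈ L ⊔ R)
    (hco : (orderOf x).Coprime p) : x ∈ L := by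
  set K := L ⊔ R
  haveI : (L.subgroupOf K).Normal := normal_subgroupOf_of_le_normalizer (_root_.sup_le Subgroup.le_normalizer hn)
  have hq : IsPGroup p (↥K ⧸ L.subgroupOf K) := by
    intro z
    obtain ⟨⟨y, hy⟩, rfl⟩ := QuotientGroup.mk'_surjective (L.subgroupOf K) z
    have hy' := hy
    rw [← SetLike.mem_coe, coe_mul_of_right_le_normalizer_left _ _ hn] at hy'
    obtain ⟨l, hl, w, hw, rfl⟩ := hy'
    obtain ⟨i, hi⟩ := hR ⟨w, hw⟩
    have hi' : w ^ p ^ i = 1 := congrArg Subtype.val hi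
    refine ⟨i, ?_⟩
    rw [show (⟨l * w, hy⟩ : ↥K) = ⟨l, mem_sup_left hl⟩ * ⟨w, mem_sup_right hw⟩ from rfl, map_mul,
      show QuotientGroup.mk' (L.subgroupOf K) ⟨l, mem_sup_left hl⟩ = 1 from (QuotientGroup.eq_one_iff _).2 hl,
      one_mul, ← map_pow, show (⟨w, mem_sup_right hw⟩ : ↥K) ^ p ^ i = 1 from Subtype.ext hi', map_one]
  exact mem_subgroupOf.1 (Cfsg.Lib.Transfer.mem_of_isPGroup_quotient_of_coprime (L.subgroupOf K) hq
    (x := ⟨x, hx⟩) (by rwa [Subgroup.orderOf_mk]))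

variable {G : Type u} [Group G] {p : ℕ} [Finite G] [hp : Fact p.Prime]

namespace Env

variable {T : Sylow p G} {W : Type u} [AddCommGroup W] [Finite W] {d : Env T W}
variable {A₀ X₀ : Subgroup (G ⧸ cS p G)}

/-- the conjugates of the piece -/
def Piece.conjs (pc : d.Piece A₀ X₀) : Set (Subgroup G) :=
  {F | ∃ t ∈ (T : Subgroup G), F = pc.E.map (MulAut.conj t).toMonoidHom}

/-- what they generate -/
def Piece.gens (pc : d.Piece A₀ X₀) : Subgroup G := sSup pc.conjs

/-- the residual attached to an inner member -/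
def resOf (d : Env T W) (A : Subgroup (G ⧸ cS p G)) : Subgroup (G ⧸ cS p G) :=
  Cfsg.pResidualOf p (d.glob.pair A ⊔ sSup d.glob.inSyl)

theorem cj_resOf (d : Env T W) {t : G} (ht : t ∈ (T : Subgroup G)) {A : Subgroup (G ⧸ cS p G)}
    (hA : A ∈ d.glob.inSyl) :
    FFSLTwo.cj (prj p G t) (d.resOf A) = d.resOf (FFSLTwo.cj (prj p G t) A) := by
  have htT : prj p G t ∈ ((T.mapSurjective (QuotientGroup.mk'_surjective (cS p G)) : Sylow p _) : Subgroup _) := by
    rw [Sylow.coe_mapSurjective]; exact mem_map_of_mem _ ht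
  have hW : FFSLTwo.cj (prj p G t) (sSup d.glob.inSyl) = sSup d.glob.inSyl :=
    eq_of_le_of_card_ge (cj_sSup_le fun X hX => d.glob.cj_inSyl htT hX) (card_cj _ _).ge
  show (Cfsg.pResidualOf p (d.glob.pair A ⊔ sSup d.glob.inSyl)).map (MulAut.conj (prj p G t)).toMonoidHom = _
  rw [Cfsg.Lib.BlockPair.map_pResidualOf, resOf]
  refine congrArg (Cfsg.pResidualOf p) ?_
  show FFSLTwo.cj (prj p G t) (d.glob.pair A ⊔ sSup d.glob.inSyl) = _
  rw [cj_sup, d.glob.cj_pair htT hA, hW]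

theorem conj_map_prj (F : Subgroup G) (t : G) :
    (F.map (MulAut.conj t).toMonoidHom).map (prj p G) = FFSLTwo.cj (prj p G t) (F.map (prj p G)) := by
  show _ = (F.map (prj p G)).map _
  rw [Subgroup.map_map, Subgroup.map_map]
  rfl

theorem centralizer_ne_top (h : Hyps T) :
    centralizer (Cfsg.omegaOneCenter p (T : Subgroup G) : Set G) ≠ ⊤ := fun htop =>
  h.nz (Cfsg.Lib.PushUp.normal_of_le_center fun z hz => mem_center_iff.2 fun g =>
    (mem_centralizer_iff.1 (htop ▸ mem_top g) z hz).symm)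

theorem T_le_centralizer : (T : Subgroup G) ≤ centralizer (Cfsg.omegaOneCenter p (T : Subgroup G) : Set G) :=
  fun t ht => mem_centralizer_iff.2 fun _ hz => (mem_centralizer_iff.1 (omegaOneCenter_mem hz).2 t ht).symm

theorem conj_T {t : G} (ht : t ∈ (T : Subgroup G)) :
    (T : Subgroup G).map (MulAut.conj t).toMonoidHom = T :=
  mem_normalizer_iff_map_conj_eq.1 (Subgroup.le_normalizer ht)

theorem cS_le_cStar (h : Hyps T) : cS p G ≤ Cfsg.cStarOf p (T : Subgroup G) :=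
  (centralizer_le (omegaT_le_vS h.cp)).trans le_sup_left

theorem T_le_cStar : (T : Subgroup G) ≤ Cfsg.cStarOf p (T : Subgroup G) := T_le_centralizer.trans le_sup_left

theorem thompson_ne_bot (h : Hyps T) : Cfsg.thompsonSubgroupOf p (T : Subgroup G) ≠ ⊥ :=
  Cfsg.Lib.Thompson.thompsonSubgroupOf_ne_bot T.2 fun hb => (h.min T).1 (hb ▸ inferInstance)

theorem baumann_ne_bot (h : Hyps T) : Cfsg.baumannSubgroupOf p (T : Subgroup G) ≠ ⊥ := fun hb =>
  thompson_ne_bot h (le_bot_iff.1 (hb ▸ Cfsg.Lib.BlockBasic.thompson_le_baumann _))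

theorem normalizer_baumann_le_cStar (h : Hyps T) :
    normalizer (Cfsg.baumannSubgroupOf p (T : Subgroup G) : Set G) ≤ Cfsg.cStarOf p (T : Subgroup G) := by
  set B := Cfsg.baumannSubgroupOf p (T : Subgroup G)
  refine le_trans ?_ le_sup_right
  refine le_iSup_of_le (⟨B, le_rfl, baumann_ne_bot h, ?_⟩ :
    {C : Subgroup G // C ≤ B ∧ C ≠ ⊥ ∧ (C.subgroupOf B).Characteristic}) le_rfl
  rw [subgroupOf_self]
  infer_instance

theorem cStar_le_M (d : Env T W) (h : Hyps T) : Cfsg.cStarOf p (T : Subgroup G) ≤ d.M := by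
  refine _root_.sup_le (d.le_M h.min T_le_centralizer (centralizer_ne_top h)) (iSup_le ?_)
  rintro ⟨D, hD, hne, hch⟩
  refine d.le_M h.min ?_ fun ht => h.nochar D hD hne hch (normalizer_eq_top_iff.1 ht)
  exact Subgroup.le_normalizer.trans ((normalizer_le_baumann _).trans (normalizer_le_char hD hch))

variable (h : Hyps T) (hA : A₀ ∈ d.glob.inSyl) (hX : X₀ ∈ d.glob.outer) (hnc : ¬ Comm A₀ X₀)
variable (pc : d.Piece A₀ X₀)
include h hA hX hnc pc

theorem H_image : pc.H.map (prj p G) = (A₀ ⊔ X₀) ⊔ sSup d.glob.inSyl :=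
  le_antisymm pc.up (_root_.sup_le pc.down (d.baumann_image ▸ map_mono pc.hB))

theorem E_image : pc.E.map (prj p G) = d.resOf A₀ := by
  rw [pc.res, map_pResidual_self, H_image h hA hX hnc pc, resOf, d.glob.pair_eq hA hX hnc]

theorem resOf_le_pair {A : Subgroup (G ⧸ cS p G)} (hA' : A ∈ d.glob.inSyl) : d.resOf A ≤ d.glob.pair A := by
  obtain ⟨X, hX', hnc'⟩ := d.glob.exists_outer_nc hA'.1
  rw [resOf, d.glob.pair_eq hA' hX' hnc']
  refine map_le_iff_le_comap.2 ((closure_le _).2 fun x hx => ?_)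
  refine coprime_mem_of_sup ((T.mapSurjective (QuotientGroup.mk'_surjective (cS p G))).2.to_le d.glob.sup_le)
    (d.glob.inner_normalizes hA' hX' hnc') x.2 ?_
  show (orderOf (x : G ⧸ cS p G)).Coprime p
  rw [Subgroup.orderOf_coe]
  exact hx

theorem isBlock : Cfsg.IsBaumannBlock p (T : Subgroup G) pc.E := by
  obtain ⟨h1, h2, h3, hbody⟩ := pc.shape
  refine ⟨h1, h2, h3, fun hbot => ?_, Or.inl hbody⟩
  have hE : pc.E ≤ centralizer (Cfsg.omegaOneCenter p (T : Subgroup G) : Set G) :=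
    commutator_eq_bot_iff_le_centralizer.1 hbot
  have hH : pc.H ≤ d.M := (pc.gen.trans (_root_.sup_le hE ((baumann_le T).trans T_le_centralizer))).trans
    (d.le_M h.min T_le_centralizer (centralizer_ne_top h))
  exact hX.2 (le_sup_right.trans (pc.down.trans (map_mono hH)))

theorem isBlock_conj {F : Subgroup G} (hF : F ∈ pc.conjs) : Cfsg.IsBaumannBlock p (T : Subgroup G) F := by
  obtain ⟨t, ht, rfl⟩ := hF
  have h1 := Cfsg.Lib.BlockPair.block_map (MulAut.conj t) (isBlock h hA hX hnc pc)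
  rwa [conj_T ht] at h1

theorem cS_normalizes {F : Subgroup G} (hF : F ∈ pc.conjs) : cS p G ≤ normalizer (F : Set G) :=
  (centralizer_le (Cfsg.Lib.BlockBasic.block_props h.cp T (isBlock_conj h hA hX hnc pc hF)).2.1).trans
    (Cfsg.Lib.BlockNormal.normalizes h.cp (isBlock_conj h hA hX hnc pc hF))

/-- each inner member has its conjugates -/
theorem exists_conj {A : Subgroup (G ⧸ cS p G)} (hA' : A ∈ d.glob.inSyl) :
    ∃ F ∈ pc.conjs, ∃ t ∈ (T : Subgroup G), F = pc.E.map (MulAut.conj t).toMonoidHom ∧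
      FFSLTwo.cj (prj p G t) A₀ = A ∧ F.map (prj p G) = d.resOf A := by
  obtain ⟨s, hs, hsA⟩ := d.glob.transitive hA hA'
  rw [Sylow.coe_mapSurjective] at hs
  obtain ⟨t, ht, rfl⟩ := hs
  refine ⟨_, ⟨t, ht, rfl⟩, t, ht, rfl, hsA, ?_⟩
  rw [conj_map_prj, E_image h hA hX hnc pc, d.cj_resOf ht hA, hsA]

theorem conj_image {F : Subgroup G} (hF : F ∈ pc.conjs) :
    ∃ A ∈ d.glob.inSyl, F.map (prj p G) = d.resOf A := by
  obtain ⟨t, ht, rfl⟩ := hF
  refine ⟨FFSLTwo.cj (prj p G t) A₀, d.glob.cj_inSyl ?_ hA, ?_⟩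
  · rw [Sylow.coe_mapSurjective]; exact mem_map_of_mem _ ht
  · rw [conj_map_prj, E_image h hA hX hnc pc, d.cj_resOf ht hA]

theorem pair_le {A : Subgroup (G ⧸ cS p G)} (hA' : A ∈ d.glob.inSyl) : d.glob.pair A ≤ d.resOf A ⊔ A := by
  obtain ⟨s, hs, hsA⟩ := d.glob.transitive hA hA'
  rw [← hsA, ← d.glob.cj_pair hs hA, d.glob.pair_eq hA hX hnc]
  rw [Sylow.coe_mapSurjective] at hs
  obtain ⟨t, ht, rfl⟩ := hs
  rw [← d.cj_resOf ht hA, ← cj_sup, cj_le_cj]
  have hn : sSup d.glob.inSyl ≤ normalizer ((d.resOf A₀ : Subgroup _) : Set (G ⧸ cS p G)) := by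
    rw [← E_image h hA hX hnc pc, ← d.baumann_image]
    exact (map_mono (Cfsg.Lib.BlockBasic.baumann_le_normalizer pc.shape.2.1)).trans (le_normalizer_map _)
  intro l hl
  have h1 : l ∈ d.resOf A₀ ⊔ sSup d.glob.inSyl := by
    rw [← E_image h hA hX hnc pc, ← d.baumann_image, ← Subgroup.map_sup]
    exact map_mono pc.gen (pc.down hl)
  rw [← SetLike.mem_coe, coe_mul_of_right_le_normalizer_left _ _ hn] at h1
  obtain ⟨e, he, w, hw, rfl⟩ := h1
  have heL : e ∈ A₀ ⊔ X₀ := by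
    rw [← d.glob.pair_eq hA hX hnc]
    exact resOf_le_pair h hA hX hnc pc hA he
  have hwL : w ∈ A₀ ⊔ X₀ := by simpa using mul_mem (inv_mem heL) hl
  have h2 := d.glob.ff.sylow_pair (R := sSup d.glob.inSyl ⊓ (A₀ ⊔ X₀)) hA.1 hX.1 hnc
    (((T.mapSurjective (QuotientGroup.mk'_surjective (cS p G))).2.to_le d.glob.sup_le).to_le inf_le_left)
    (le_inf (le_sSup hA) le_sup_left) inf_le_right
  exact mul_mem (mem_sup_left he) (mem_sup_right (h2 ▸ (⟨hw, hwL⟩ : w ∈ sSup d.glob.inSyl ⊓ (A₀ ⊔ X₀))))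

theorem gens_image_le_mall : mall p (act p d.φ) d.q ≤ pc.gens.map (prj p G) ⊔ sSup d.glob.inSyl := by
  refine _root_.sSup_le fun m hm => ?_
  obtain ⟨x, hx, y, hy, -, hle⟩ := d.glob.exists_pair hm
  have key : ∀ x ∈ d.glob.outer, x ≤ pc.gens.map (prj p G) ⊔ sSup d.glob.inSyl := by
    intro x hx
    obtain ⟨A, hA', hAx⟩ := d.glob.exists_nc hx
    obtain ⟨F, hF, t, ht, -, -, himg⟩ := exists_conj h hA hX hnc pc hA'
    have h1 : x ≤ d.resOf A ⊔ A :=
      (le_sup_right.trans (d.glob.pair_eq hA' hx hAx).ge).trans (pair_le h hA hX hnc pc hA')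
    exact h1.trans (sup_le_sup (himg ▸ map_mono (le_sSup hF)) (le_sSup hA'))
  exact hle.trans (_root_.sup_le (key x hx) (key y hy))

theorem conj_gens {t : G} (ht : t ∈ (T : Subgroup G)) {F : Subgroup G} (hF : F ∈ pc.conjs) :
    F.map (MulAut.conj t).toMonoidHom ∈ pc.conjs := by
  obtain ⟨s, hs, rfl⟩ := hF
  refine ⟨t * s, mul_mem ht hs, ?_⟩
  rw [Subgroup.map_map]
  congr 1
  ext x
  simp [mul_assoc]

theorem gens_sup : pc.gens ⊔ (T : Subgroup G) = ⊤ := by
  by_contra hne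
  have hM := d.le_M h.min le_sup_right hne
  refine hX.2 (le_sup_right.trans (pc.down.trans (map_mono (pc.gen.trans (le_trans ?_ hM)))))
  exact sup_le_sup (le_sSup ⟨1, one_mem _, by ext x; simp⟩) (baumann_le T)

theorem gens_normal : pc.gens.Normal := by
  rw [← normalizer_eq_top_iff, ← top_le_iff, ← gens_sup h hA hX hnc pc]
  refine _root_.sup_le Subgroup.le_normalizer fun t ht => ?_
  rw [mem_normalizer_iff_map_conj_eq]
  refine Subgroup.eq_of_le_of_card_ge (map_le_iff_le_comap.2 (_root_.sSup_le fun F hF => ?_))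
    (card_map_of_injective (MulAut.conj t).injective).ge
  exact map_le_iff_le_comap.1 (le_sSup (conj_gens h hA hX hnc pc ht hF))

/-- coprime elements centralising the generated subgroup centralise `V` -/
theorem coprime_centralizer {x : G} (hx : x ∈ centralizer (pc.gens : Set G)) (hco : (orderOf x).Coprime p) :
    x ∈ cS p G := by
  haveI := gens_normal h hA hX hnc pc
  have hco' : (orderOf (prj p G x)).Coprime p := hco.coprime_dvd_left (orderOf_map_dvd _ x)
  haveI : (pc.gens.map (prj p G)).Normal :=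
    Normal.map inferInstance _ (QuotientGroup.mk'_surjective _)
  have h1 : prj p G x ∈ pc.gens.map (prj p G) :=
    coprime_mem_of_sup ((T.mapSurjective (QuotientGroup.mk'_surjective (cS p G))).2.to_le d.glob.sup_le)
      (le_normalizer_of_normal) (gens_image_le_mall h hA hX hnc pc (d.glob.mem_mall hco')) hco'
  obtain ⟨r, hr, hrx⟩ := h1
  refine mem_centralizer_iff.2 fun v hv => ?_
  have hrc : r⁻¹ * x ∈ cS p G := d.prj_eq_one.1 (by rw [map_mul, map_inv, hrx, inv_mul_cancel])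
  have hxv : x * v * x⁻¹ * v⁻¹ = r * v * r⁻¹ * v⁻¹ := by
    have h2 : (r⁻¹ * x) * v * (r⁻¹ * x)⁻¹ = v := by
      rw [← mem_centralizer_iff.1 hrc v hv, mul_inv_cancel_right]
    calc x * v * x⁻¹ * v⁻¹ = r * ((r⁻¹ * x) * v * (r⁻¹ * x)⁻¹) * r⁻¹ * v⁻¹ := by group
      _ = _ := by rw [h2]
  set s := x * v * x⁻¹ * v⁻¹ with hs
  have hsR : s ∈ pc.gens := by
    rw [hxv, mul_assoc, mul_assoc, ← mul_assoc v]
    exact mul_mem hr (Normal.conj_mem inferInstance _ (inv_mem hr) v)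
  have hsV : s ∈ vS p G := mul_mem ((vS_normal (p := p) (G := G)).conj_mem v hv x) (inv_mem hv)
  have hxs : Commute x s := (mem_centralizer_iff.1 hx s hsR).symm
  have hsp : s ^ p ^ 1 = 1 := by
    rw [pow_one]; exact (omegaOneCenter_elementary (p := p) (Cfsg.pCore p G)).2 s hsV
  exact (Cfsg.Lib.BlockPair.coprime_fix (f := x) (g := v) (s := s) (by rw [hs, inv_mul_cancel_right]) hxs hco hsp).eq.symm

/-- a block outside `C*` lies in one of a set of subnormal blocks with the same span -/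
theorem absorb {𝓑 : Set (Subgroup G)} (hblk : ∀ F ∈ 𝓑, Cfsg.IsBaumannBlock p (T : Subgroup G) F)
    (hsub : ∀ F ∈ 𝓑, F.IsSubnormal) (hspan : pc.gens ≤ sSup 𝓑) {E : Subgroup G}
    (hE : Cfsg.IsBaumannBlock p (T : Subgroup G) E) (hnot : ¬ E ≤ Cfsg.cStarOf p (T : Subgroup G)) :
    ∃ F ∈ 𝓑, E ≤ F := by
  by_contra hcon
  push Not at hcon
  refine hnot ((Cfsg.Lib.BlockBasic.closure_coprime_elements hE.1).ge.trans
    ((closure_le _).2 fun x hx => cS_le_cStar h (coprime_centralizer h hA hX hnc pc ?_ hx.2)))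
  refine centralizer_le hspan ?_
  have hc : sSup 𝓑 ≤ centralizer ({x} : Set G) := _root_.sSup_le fun F hF f hf => by
    rcases Cfsg.Lib.BlockPair.block_le_or_commute h.cp ⟨T, hblk F hF⟩ (hsub F hF) ⟨T, hE⟩ with hle | hcomm
    · exact absurd hle (hcon F hF)
    · exact mem_centralizer_singleton_iff.2
        (mem_centralizer_iff.1 (commutator_eq_bot_iff_le_centralizer.1 hcomm hx.1) f hf)
  exact mem_centralizer_iff.2 fun y hy => mem_centralizer_singleton_iff.1 (hc hy)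

/-- two commuting conjugates have different images -/
theorem image_ne_of_commute {F F' : Subgroup G} (hF : F ∈ pc.conjs) (hc : ⁅F, F'⁆ = ⊥) :
    F.map (prj p G) ≠ F'.map (prj p G) := by
  intro heq
  have hb := isBlock_conj h hA hX hnc pc hF
  obtain ⟨-, hWV, hne⟩ := Cfsg.Lib.BlockBasic.block_props h.cp T hb
  set Wf := Cfsg.omegaOneCenter p (Cfsg.pCoreOf p F) with hWf
  have hWQ : Wf ≤ Cfsg.pCoreOf p F := (closure_le _).2 fun x hx => hx.1.1
  have hQF : Cfsg.pCoreOf p F ≤ F := map_subtype_le _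
  have hQn : ∀ f ∈ F, ∀ w ∈ Wf, f * w * f⁻¹ ∈ Wf := fun f hf w hw =>
    (mem_normalizer_iff.1 ((Cfsg.Lib.BlockBasic.block_module hb Wf _ rfl rfl).1 hf) w).1 hw
  have hfix : ∀ f ∈ F, ∀ u ∈ ⁅Wf, F⁆, Commute f u := by
    intro f hf u hu
    obtain ⟨f', hf', hff⟩ := heq.le (mem_map_of_mem (prj p G) hf)
    have hcs : f'⁻¹ * f ∈ cS p G := d.prj_eq_one.1 (by rw [map_mul, map_inv, hff, inv_mul_cancel])
    have huF : u ∈ F := (commutator_le.2 fun w hw g hg => by
      rw [commutatorElement_def]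
      exact mul_mem (mul_mem (mul_mem (hQF (hWQ hw)) hg) (inv_mem (hQF (hWQ hw)))) (inv_mem hg) : ⁅Wf, F⁆ ≤ F) hu
    have h1 : Commute (f'⁻¹ * f) u := (mem_centralizer_iff.1 hcs u (hWV hu)).symm
    have h2 : Commute f' u :=
      ((commutatorElement_eq_one_iff_mul_comm.1 (mem_bot.1 (hc ▸ commutator_mem_commutator huF hf')))).symm
    simpa using h2.mul_left h1
  refine hne ?_
  have hW0 : ⁅Wf, F⁆ = ⊥ := by
    refine commutator_eq_bot_iff_le_centralizer.2 fun w hw => ?_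
    have hle : F ≤ centralizer ({w} : Set G) := by
      rw [← Cfsg.Lib.BlockBasic.closure_coprime_elements hb.1, closure_le]
      intro x hx
      have hs : x * w * x⁻¹ * w⁻¹ ∈ ⁅Wf, F⁆ := by
        have h0 := inv_mem (commutator_mem_commutator hw hx.1 : ⁅w, x⁆ ∈ ⁅Wf, F⁆)
        rwa [commutatorElement_inv, commutatorElement_def] at h0
      have hsp : (x * w * x⁻¹ * w⁻¹) ^ p ^ 1 = 1 := by
        rw [pow_one]; exact (omegaOneCenter_elementary (p := p) (Cfsg.pCore p G)).2 _ (hWV hs)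
      exact mem_centralizer_singleton_iff.2
        (Cfsg.Lib.BlockPair.coprime_fix (f := x) (g := w) (s := x * w * x⁻¹ * w⁻¹) (by group) (hfix x hx.1 _ hs) hx.2 hsp).eq
    exact mem_centralizer_iff.2 fun y hy => mem_centralizer_singleton_iff.1 (hle hy)
  rw [hW0, commutator_bot_left]

end Env

end Cfsg.Lib.PushMin
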