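import Cfsg.Agent.PushUpBlocks.SymCover

/-!
Pushing up in a minimal parabolic group: a class gives an alternating block.
-/

set_option autoImplicit false
set_option linter.unusedSectionVars false
set_option linter.style.haveILetI false

namespace Cfsg.Lib.PushMin

open Subgroup Cfsg.Lib.FFSLTwo Cfsg.Lib.FFModule
open scoped commutatorElement

universe u

variable {G : Type u} [Group G] {p : ℕ} [Finite G] [hp : Fact p.Prime]

/-- the alternating conditions may be read in any equal degree -/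
theorem perm_shape_cast {E U U₀ : Subgroup G} {a b : ℕ} (hab : a = b)
    (h : Nonempty (↥E ⧸ Cfsg.pCore p ↥E ≃* ↥(alternatingGroup (Fin a))) ∧
      Cfsg.ActsAsOddPermModuleOnSection a (alternatingGroup (Fin a)) E U U₀) :
    Nonempty (↥E ⧸ Cfsg.pCore p ↥E ≃* ↥(alternatingGroup (Fin b))) ∧
      Cfsg.ActsAsOddPermModuleOnSection b (alternatingGroup (Fin b)) E U U₀ := by
  subst hab; exact h

/-- the even permutations fixing a letter -/
theorem alt_stabilizer {k : ℕ} (o : Fin (k + 1)) :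
    Nonempty (↥((MulAction.stabilizer (Equiv.Perm (Fin (k + 1))) o).comap
      (alternatingGroup (Fin (k + 1))).subtype) ≃* ↥(alternatingGroup (Fin k))) := by
  classical
  set s := (Finset.univ : Finset (Fin (k + 1))).erase o
  have hs : Fintype.card ↥s = k := by simp [s]
  have hr : (alternatingGroup.ofSubtype s).range = (MulAction.stabilizer (Equiv.Perm (Fin (k + 1))) o).comap
      (alternatingGroup (Fin (k + 1))).subtype := by
    ext σ
    rw [alternatingGroup.mem_range_ofSubtype_iff, mem_comap, MulAction.mem_stabilizer_iff, Equiv.Perm.smul_def]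
    constructor
    · intro h
      by_contra hne
      have h' : o ∈ (σ : Equiv.Perm (Fin (k + 1))).support := Equiv.Perm.mem_support.2 hne
      simpa [s] using h h'
    · intro h x hx
      refine Finset.mem_erase.2 ⟨fun he => ?_, Finset.mem_univ _⟩
      exact Equiv.Perm.mem_support.1 hx (he ▸ h)
  exact ⟨((MonoidHom.ofInjective alternatingGroup.ofSubtype_injective).trans
    (MulEquiv.subgroupCongr hr)).symm.trans (Equiv.altCongrHom (Fintype.equivFinOfCardEq hs))⟩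

namespace Env

variable {T : Sylow p G} {W : Type u} [AddCommGroup W] [Finite W] {d : Env T W}
variable {A₀ X₀ : Subgroup (G ⧸ cS p G)}
variable (h : Hyps T) (hA : A₀ ∈ d.glob.inSyl) (hX : X₀ ∈ d.glob.outer) (hnc : ¬ Comm A₀ X₀)
variable (pc : d.Piece A₀ X₀) (S : d.SymData X₀)
include h hA hX hnc pc S

theorem blk_inf_cS : pc.blk ⊓ cS p G = pc.rad :=
  le_antisymm (blk_inf_cS_le h hA hX hnc pc S)
    (le_inf (rad_le_blk h hA hX hnc pc S.p_two) ((rad_le_vS h hA hX hnc pc S.p_two).trans vS_le_cS))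

theorem pCore_blk : Cfsg.pCore p ↥pc.blk = (S.perm h hA hX hnc pc).ker := by
  set ρB := S.perm h hA hX hnc pc
  have hk : ρB.ker = (cS p G).subgroupOf pc.blk := by
    ext g
    rw [MonoidHom.mem_ker, mem_subgroupOf]
    exact S.perm_eq_one h hA hX hnc pc g
  have hkp : IsPGroup p ρB.ker := by
    rw [hk, ← inf_subgroupOf_left]
    exact ((Cfsg.Lib.Components.isPGroup_pCore p).to_le
      ((inf_le_inf_right _ le_sup_left).trans (blk_baumann_inf_cS h hA hX hnc pc S.p_two))).comap_subtype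
  refine le_antisymm ?_ (le_sSup ⟨MonoidHom.normal_ker ρB, hkp⟩)
  set N := (Cfsg.pCore p ↥pc.blk).map ρB
  have hNle : N ≤ alternatingGroup (Fin (2 ^ S.n + 1)) := by
    rw [← S.perm_range h hA hX hnc pc, MonoidHom.range_eq_map]
    exact map_mono le_top
  have hNn : alternatingGroup (Fin (2 ^ S.n + 1)) ≤ normalizer (N : Set _) := by
    rw [← S.perm_range h hA hX hnc pc, MonoidHom.range_eq_map]
    refine (map_mono ?_).trans (le_normalizer_map _)
    rw [normalizer_eq_top_iff.2 (inferInstance : (Cfsg.pCore p ↥pc.blk).Normal)]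
  haveI : (N.subgroupOf (alternatingGroup (Fin (2 ^ S.n + 1)))).Normal := normal_subgroupOf_of_le_normalizer hNn
  have hNp : IsPGroup p N := (Cfsg.Lib.Components.isPGroup_pCore p).map _
  rcases alternatingGroup.normal_subgroup_eq_bot_or_eq_top S.five_le
      (N := N.subgroupOf (alternatingGroup (Fin (2 ^ S.n + 1)))) with hb | ht
  · intro x hx
    have h1 : ρB x ∈ N := mem_map_of_mem _ hx
    have h2 : (⟨ρB x, hNle h1⟩ : ↥(alternatingGroup (Fin (2 ^ S.n + 1)))) ∈ (⊥ : Subgroup _) :=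
      hb ▸ mem_subgroupOf.2 h1
    exact congrArg Subtype.val (mem_bot.1 h2)
  · exfalso
    have hNeq : N = alternatingGroup (Fin (2 ^ S.n + 1)) := le_antisymm hNle fun σ hσ =>
      mem_subgroupOf.1 (ht ▸ mem_top (⟨σ, hσ⟩ : ↥(alternatingGroup (Fin (2 ^ S.n + 1)))))
    obtain ⟨j, hj1, hj2⟩ := S.exists_third S.o S.o
    obtain ⟨l, hl1, hl2⟩ := S.exists_third S.o j
    have hc : (Equiv.swap S.o l * Equiv.swap S.o j : Equiv.Perm (Fin (2 ^ S.n + 1))) ∈ N :=
      hNeq.ge (Cfsg.Lib.BlockBasic.sign_two_swaps hj1.symm hl1.symm)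
    obtain ⟨i, hi⟩ := hNp ⟨_, hc⟩
    have h3 : (Equiv.swap S.o l * Equiv.swap S.o j) ^ p ^ i = 1 := congrArg Subtype.val hi
    have hord : orderOf (Equiv.swap S.o l * Equiv.swap S.o j) = 3 := by
      have hc3 := Equiv.Perm.isThreeCycle_swap_mul_swap_same hl1.symm hj1.symm hl2
      exact hc3.orderOf
    have h4 : (3 : ℕ) ∣ p ^ i := hord ▸ orderOf_dvd_of_pow_eq_one h3
    have h5 := (Nat.prime_dvd_prime_iff_eq Nat.prime_three hp.out).1 (Nat.prime_three.dvd_of_dvd_pow h4)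
    have := S.p_two
    omega

theorem core_eq : Cfsg.pCoreOf p pc.blk = pc.rad := by
  rw [← blk_inf_cS h hA hX hnc pc S, Cfsg.pCoreOf, pCore_blk h hA hX hnc pc S]
  ext g
  constructor
  · rintro ⟨x, hx, rfl⟩
    exact ⟨x.2, (S.perm_eq_one h hA hX hnc pc x).1 hx⟩
  · rintro ⟨hg, hc⟩
    exact ⟨⟨g, hg⟩, (S.perm_eq_one h hA hX hnc pc ⟨g, hg⟩).2 hc, rfl⟩

/-- the quotient as an alternating group -/
theorem exists_quot_alt : ∃ ε : ↥pc.blk ⧸ Cfsg.pCore p ↥pc.blk ≃* ↥(alternatingGroup (Fin (2 ^ S.n + 1))),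
    ∀ x : ↥pc.blk, ((ε (QuotientGroup.mk' _ x) : ↥(alternatingGroup (Fin (2 ^ S.n + 1)))) : Equiv.Perm _) =
      S.perm h hA hX hnc pc x :=
  ⟨((QuotientGroup.quotientMulEquivOfEq (pCore_blk h hA hX hnc pc S)).trans
    (QuotientGroup.quotientKerEquivRange (S.perm h hA hX hnc pc))).trans
      (MulEquiv.subgroupCongr (S.perm_range h hA hX hnc pc)), fun _ => rfl⟩

/-- commutators of the block with a large enough part of `V` cover the even vectors -/
theorem covers {X : Subgroup G} (hXV : X ≤ vS p G)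
    (hX2 : ∀ a b, a ≠ b → ∃ x, ∃ hx : x ∈ X, S.Ψ (d.vec ⟨x, hXV hx⟩) = Pi.single a 1 + Pi.single b 1)
    (z : Fin (2 ^ S.n + 1) → ZMod 2) (hz : ∑ i, z i = 0) :
    ∃ u ∈ ⁅X, pc.blk⁆, ∃ hu : u ∈ vS p G, S.Ψ (d.vec ⟨u, hu⟩) = z := by
  classical
  have htwo : ∀ a : ZMod 2, a + a = 0 := by decide
  haveI := vS_normal (p := p) (G := G)
  let I : AddSubgroup (Fin (2 ^ S.n + 1) → ZMod 2) :=
    { carrier := {z | ∃ u ∈ ⁅X, pc.blk⁆, ∃ hu : u ∈ vS p G, S.Ψ (d.vec ⟨u, hu⟩) = z}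
      zero_mem' := ⟨1, one_mem _, one_mem _, by
        show S.Ψ (d.e (Additive.ofMul (1 : vS p G))) = 0
        rw [ofMul_one, map_zero, map_zero]⟩
      add_mem' := by
        rintro _ _ ⟨u, hu, hu', rfl⟩ ⟨v, hv, hv', rfl⟩
        refine ⟨u * v, mul_mem hu hv, mul_mem hu' hv', ?_⟩
        show S.Ψ (d.e (Additive.ofMul (⟨u, hu'⟩ * ⟨v, hv'⟩ : vS p G))) = _
        rw [ofMul_mul, map_add, map_add]
      neg_mem' := by
        rintro _ ⟨u, hu, hu', rfl⟩
        refine ⟨u⁻¹, inv_mem hu, inv_mem hu', ?_⟩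
        show S.Ψ (d.e (Additive.ofMul (⟨u, hu'⟩⁻¹ : vS p G))) = _
        rw [ofMul_inv, map_neg, map_neg] }
  have hpair : ∀ i, i ≠ S.o → Pi.single S.o 1 + Pi.single i 1 ∈ I := by
    intro i hi
    obtain ⟨k, hko, hki⟩ := S.exists_third S.o i
    obtain ⟨x, hx, hxe⟩ := hX2 S.o k hko.symm
    set σ := Equiv.swap S.o i * Equiv.swap S.o k with hσ
    obtain ⟨g, hg⟩ := S.exists_elt h hA hX hnc pc (σ := σ)
      (Cfsg.Lib.BlockBasic.sign_two_swaps hko.symm hi.symm)
    have hv' : (g : G) * x * (g : G)⁻¹ ∈ vS p G := (vS_normal (p := p) (G := G)).conj_mem _ (hXV hx) _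
    have hu : ⁅(g : G), x⁆ ∈ ⁅X, pc.blk⁆ := by
      rw [← commutatorElement_inv]
      exact inv_mem (commutator_mem_commutator hx g.2)
    have huV : ⁅(g : G), x⁆ ∈ vS p G := by rw [commutatorElement_def]; exact mul_mem hv' (inv_mem (hXV hx))
    refine ⟨_, hu, huV, ?_⟩
    have e : d.vec ⟨_, huV⟩ = d.vec ⟨_, hv'⟩ - d.vec ⟨x, hXV hx⟩ := by
      rw [eq_sub_iff_add_eq, ← map_add, ← ofMul_mul]
      refine congrArg d.e (congrArg Additive.ofMul (Subtype.ext ?_))
      show ⁅(g : G), x⁆ * x = (g : G) * x * (g : G)⁻¹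
      rw [commutatorElement_def, inv_mul_cancel_right]
    rw [e, map_sub]
    funext j
    rw [Pi.sub_apply, S.vec_conj h hA hX hnc pc g (hXV hx) hv' j, hxe, hg]
    have hσo : σ S.o = k := by
      rw [hσ, Equiv.Perm.mul_apply, Equiv.swap_apply_left, Equiv.swap_apply_of_ne_of_ne hko hki]
    have hσk : σ k = i := by
      rw [hσ, Equiv.Perm.mul_apply, Equiv.swap_apply_right, Equiv.swap_apply_left]
    simp only [Pi.add_apply, Pi.single_apply, Equiv.Perm.inv_eq_iff_eq, hσo, hσk, CharTwo.sub_eq_add]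
    rw [eq_comm]
    calc (if j = S.o then (1 : ZMod 2) else 0) + (if j = i then 1 else 0)
        = ((if j = k then (1 : ZMod 2) else 0) + (if j = k then 1 else 0)) +
            ((if j = S.o then 1 else 0) + (if j = i then 1 else 0)) := by rw [htwo, zero_add]
      _ = _ := by abel
  have hz' : z = ∑ i ∈ Finset.univ.erase S.o, if z i = 1 then Pi.single S.o 1 + Pi.single i 1 else 0 := by
    funext j
    rw [Finset.sum_apply]
    have h01 : ∀ a : ZMod 2, a = 0 ∨ a = 1 := by decide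
    have e1 : ∀ i, (if z i = 1 then (Pi.single S.o (1 : ZMod 2) : Fin (2 ^ S.n + 1) → ZMod 2) + Pi.single i (1 : ZMod 2)
        else (0 : Fin (2 ^ S.n + 1) → ZMod 2)) j =
        z i * ((Pi.single S.o 1 : Fin (2 ^ S.n + 1) → ZMod 2) j + (Pi.single i 1 : Fin (2 ^ S.n + 1) → ZMod 2) j) := fun i => by
      rcases h01 (z i) with e | e <;> simp [e]
    rw [Finset.sum_congr rfl fun i _ => e1 i]
    by_cases hj : j = S.o
    · subst hj
      have h1 : ∀ i ∈ Finset.univ.erase S.o, z i * ((Pi.single S.o 1 : Fin (2 ^ S.n + 1) → ZMod 2) S.o + (Pi.single i 1 : Fin (2 ^ S.n + 1) → ZMod 2) S.o) = z i :=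
        fun i hi => by rw [Pi.single_eq_same, Pi.single_eq_of_ne (Finset.ne_of_mem_erase hi).symm, add_zero, mul_one]
      rw [Finset.sum_congr rfl h1]
      have h2 := Finset.add_sum_erase _ z (Finset.mem_univ S.o)
      rw [hz] at h2
      rw [eq_neg_of_add_eq_zero_left h2, ZMod.neg_eq_self_mod_two]
    · rw [Finset.sum_eq_single j]
      · rw [Pi.single_eq_of_ne hj, Pi.single_eq_same, zero_add, mul_one]
      · intro i _ hij
        rw [Pi.single_eq_of_ne hj, Pi.single_eq_of_ne hij.symm, add_zero, mul_zero]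
      · intro hjn
        exact absurd (Finset.mem_erase.2 ⟨hj, Finset.mem_univ j⟩) hjn
  have hzI : z ∈ I := by
    rw [hz']
    refine AddSubgroup.sum_mem _ fun i hi => ?_
    split
    · exact hpair i (Finset.ne_of_mem_erase hi)
    · exact AddSubgroup.zero_mem _
  exact hzI

theorem rad_covers (z : Fin (2 ^ S.n + 1) → ZMod 2) (hz : ∑ i, z i = 0) :
    ∃ u ∈ pc.rad, ∃ hu : u ∈ vS p G, S.Ψ (d.vec ⟨u, hu⟩) = z := by
  classical
  refine covers h hA hX hnc pc S le_rfl (fun a b hab => ?_) z hz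
  obtain ⟨u, -, hu⟩ := S.surj (Pi.single a 1 + Pi.single b 1) (by
    simp only [Pi.add_apply, Finset.sum_add_distrib, Finset.sum_pi_single', Finset.mem_univ, if_true]
    decide)
  obtain ⟨⟨x, hx⟩, rfl⟩ := d.exists_vec u
  exact ⟨x, hx, hu⟩

theorem rad_commutator : ⁅pc.rad, pc.blk⁆ = pc.rad := by
  classical
  have hle : ⁅pc.rad, pc.blk⁆ ≤ pc.rad :=
    le_normalizer_iff_commutator_le_left.1 (blk_normalizes_rad h hA hX hnc pc S.p_two)
  refine le_antisymm hle fun u hu => ?_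
  obtain ⟨huV, himg⟩ := S.rad_vec h hA hX hnc pc hu
  obtain ⟨v, hv, hvV, hve⟩ := covers h hA hX hnc pc S (rad_le_vS h hA hX hnc pc S.p_two) (fun a b hab => by
    obtain ⟨x, hx, hxV, hxe⟩ := rad_covers h hA hX hnc pc S (Pi.single a 1 + Pi.single b 1) (by
      simp only [Pi.add_apply, Finset.sum_add_distrib, Finset.sum_pi_single', Finset.mem_univ, if_true]
      decide)
    exact ⟨x, hx, hxe⟩) _ (S.sum0 (d.vec ⟨u, huV⟩))
  obtain ⟨hwV, hwimg⟩ := S.rad_vec h hA hX hnc pc (mul_mem (inv_mem (hle hv)) hu)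
  have h0 : d.vec ⟨_, hwV⟩ = 0 := by
    refine S.inj0 _ hwimg ?_
    show S.Ψ (d.e (Additive.ofMul ((⟨v, hvV⟩ : vS p G)⁻¹ * ⟨u, huV⟩))) = 0
    rw [ofMul_mul, ofMul_inv, map_add, map_neg, map_add, map_neg]
    show -S.Ψ (d.vec ⟨v, hvV⟩) + S.Ψ (d.vec ⟨u, huV⟩) = 0
    rw [hve, neg_add_cancel]
  have h1 : v⁻¹ * u = 1 := congrArg Subtype.val
    (Additive.ofMul.injective (d.e.injective (h0.trans (map_zero d.e).symm)) : (⟨_, hwV⟩ : vS p G) = 1)
  rw [← inv_mul_eq_one.1 h1]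
  exact hv

theorem omega_rad : Cfsg.omegaOneCenter p pc.rad = pc.rad := by
  have hV := rad_le_vS h hA hX hnc pc S.p_two
  refine le_antisymm ((closure_le _).2 fun x hx => hx.1.1) fun x hx => subset_closure
    ⟨⟨hx, mem_centralizer_iff.2 fun y hy => (mem_centralizer_iff.1 (vS_le_cS (hV hx)) y (hV hy))⟩,
      (omegaOneCenter_elementary (p := p) (Cfsg.pCore p G)).2 x (hV hx)⟩

theorem isBlock_blk : Cfsg.IsBaumannBlock p (T : Subgroup G) pc.blk := by
  classical
  have hbase := base_le h hA hX hnc pc S.p_two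
  refine ⟨blk_residual h hA hX hnc pc S.p_two, ?_, ?_, fun hb => ?_, Or.inr ⟨S.p_two, 2 ^ (S.n - 1), ?_⟩⟩
  · refine le_antisymm (le_normalizer_iff_commutator_le_left.1 (baumann_normalizes h hA hX hnc pc S.p_two))
      (_root_.sSup_le fun F hF => ?_)
    exact (isBlock_conj h hA hX hnc pc hF.1).2.1.ge.trans (commutator_mono (le_sSup hF) le_rfl)
  · rw [core_eq h hA hX hnc pc S]
    exact rad_commutator h hA hX hnc pc S
  · exact (isBlock h hA hX hnc pc).2.2.2.1 (le_bot_iff.1 ((commutator_mono hbase le_rfl).trans hb.le))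
  · rw [core_eq h hA hX hnc pc S, omega_rad h hA hX hnc pc S]
    have hbot : pc.rad ⊓ centralizer (pc.blk : Set G) = ⊥ := (eq_bot_iff_forall _).2 fun u hu =>
      S.rad_fixed h hA hX hnc pc hu.1 fun e he => mem_centralizer_iff.1 hu.2 e he
    rw [hbot, ← and_assoc]
    refine ⟨perm_shape_cast (a := 2 ^ S.n + 1) ?_ ⟨?_, ?_⟩, rfl⟩
    · obtain ⟨k, hk⟩ : ∃ k, S.n = k + 1 := ⟨S.n - 1, by have := S.two_le; omega⟩
      rw [hk, pow_succ', Nat.add_sub_cancel]
    · obtain ⟨ε, -⟩ := exists_quot_alt h hA hX hnc pc S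
      exact ⟨ε⟩
    refine ⟨blk_normalizes_rad h hA hX hnc pc S.p_two, bot_le, S.perm h hA hX hnc pc,
      MonoidHom.mk' (fun u => Multiplicative.ofAdd (S.Ψ (d.vec ⟨u, rad_le_vS h hA hX hnc pc S.p_two u.2⟩)))
        (fun u v => by
          rw [← ofAdd_add, ← map_add, ← map_add, ← ofMul_mul]
          rfl),
      S.perm_range h hA hX hnc pc, fun u => S.sum0 _, fun z hz => ?_, fun u => ?_, fun e u => ?_⟩
    · obtain ⟨u, hu, huV, hue⟩ := rad_covers h hA hX hnc pc S z hz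
      exact ⟨⟨u, hu⟩, hue⟩
    · constructor
      · intro he
        obtain ⟨hV, himg⟩ := S.rad_vec h hA hX hnc pc u.2
        have h0 : d.vec ⟨u, hV⟩ = 0 := S.inj0 _ himg he
        exact mem_bot.2 (congrArg Subtype.val
          (Additive.ofMul.injective (d.e.injective (h0.trans (map_zero d.e).symm)) : (⟨_, hV⟩ : vS p G) = 1))
      · intro he
        have e1 : u = 1 := Subtype.ext (mem_bot.1 he)
        subst e1
        exact map_one _
    · refine ⟨⟨_, (mem_normalizer_iff.1 (blk_normalizes_rad h hA hX hnc pc S.p_two e.2) _).1 u.2⟩, rfl, fun i => ?_⟩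
      exact S.vec_conj h hA hX hnc pc e (rad_le_vS h hA hX hnc pc S.p_two u.2) _ i

/-- inside `C*` the class keeps its common letter -/
theorem fix_of_mem_M {g : G ⧸ cS p G} (hg : g ∈ d.symOf X₀) {y : G ⧸ cS p G}
    (hy : y ∈ centralizer (d.symOf X₀ : Set (G ⧸ cS p G))) (hM : g * y ∈ d.M.map (prj p G))
    (hfixM : ∀ z (hz : z ∈ d.symOf X₀), S.ρ ⟨z, hz⟩ S.o = S.o → z ∈ d.M.map (prj p G)) :
    S.ρ ⟨g, hg⟩ S.o = S.o := by
  by_contra hne
  obtain ⟨⟨x, hx⟩, hxi⟩ := (S.ι_all (S.ρ ⟨g, hg⟩ S.o)).resolve_left hne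
  obtain ⟨t, ht, ht1⟩ := d.ff.exists_ne_one hx.1.1
  have htS : t ∈ d.symOf X₀ := le_sSup hx ht
  have hg' : t⁻¹ * g ∈ d.symOf X₀ := mul_mem (inv_mem htS) hg
  have hgM : t⁻¹ * g ∈ d.M.map (prj p G) := hfixM _ hg' (by
    rw [show (⟨t⁻¹ * g, hg'⟩ : ↥(d.symOf X₀)) = ⟨t, htS⟩⁻¹ * ⟨g, hg⟩ from rfl, map_mul, map_inv,
      Equiv.Perm.mul_apply, ← hxi, Equiv.Perm.inv_eq_iff_eq, S.swap ⟨x, hx⟩ t ht ht1, Equiv.swap_apply_left])
  set k := t * y with hk
  have hkM : k ∈ d.M.map (prj p G) := by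
    have e : g * y = t * y * (t⁻¹ * g) := by
      rw [mul_assoc t, ← mem_centralizer_iff.1 hy _ hg', ← mul_assoc t, mul_inv_cancel_left]
    rw [e] at hM
    have h1 := mul_mem hM (inv_mem hgM)
    rwa [mul_inv_cancel_right] at h1
  obtain ⟨A, hA1, hAx⟩ := d.glob.exists_nc hx.1
  have hmove := d.ff.cj_ne hx.1.1 hA1.1 (fun hc => hAx hc.symm) ht ht1
  have hL := d.ff.sup_cj hA1.1 hx.1.1 hAx (g := t) (mem_sup_right ht) hmove
  refine hx.1.2 (le_sup_right.trans (hL.ge.trans (_root_.sup_le (d.glob.inSyl_le hA1) ?_)))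
  rintro _ ⟨a, ha, rfl⟩
  show t * a * t⁻¹ ∈ d.M.map (prj p G)
  have haS : a ∈ d.symOf X₀ := by
    refine (d.glob.inner_le_cls hA1 hx.1 hAx).trans ?_ ha
    rw [d.glob.cls_eq hX hx]
  have e : k * a * k⁻¹ = t * a * t⁻¹ := by
    calc k * a * k⁻¹ = t * (y * a) * y⁻¹ * t⁻¹ := by rw [hk]; group
      _ = t * (a * y) * y⁻¹ * t⁻¹ := by rw [mem_centralizer_iff.1 hy a haS]
      _ = _ := by group
  rw [← e]
  exact mul_mem (mul_mem hkM (d.glob.inSyl_le hA1 ha)) (inv_mem hkM)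

/-- elements keeping the common letter centralise `Ω₁(Z(T))` -/
theorem fix_centralizes {x : G} (hxS : prj p G x ∈ d.symOf X₀) (hfix : S.ρ ⟨prj p G x, hxS⟩ S.o = S.o) :
    x ∈ centralizer (Cfsg.omegaOneCenter p (T : Subgroup G) : Set G) := by
  classical
  refine mem_centralizer_iff.2 fun z hz => ?_
  have hzV : z ∈ vS p G := omegaT_le_vS h.cp hz
  set v := d.vec ⟨z, hzV⟩
  set f := S.Ψ v with hf
  have hTfix : ∀ s ∈ (T : Subgroup G), d.φ (prj p G s) v = v := fun s hs =>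
    (d.fix_iff s ⟨z, hzV⟩).2 (mem_centralizer_iff.1 (T_le_centralizer hs) z hz).symm
  have hval : ∀ w : d.glob.cls X₀, f (S.ι w) = f S.o ↔ v ∈ fixA d.φ (w : Subgroup (G ⧸ cS p G)) := by
    intro w
    obtain ⟨t, ht, ht1, htall, -⟩ := d.ff.transvection w.2.1.1 S.q_two
    have hact : ∀ i, S.Ψ (d.φ t v) i = f (Equiv.swap S.o (S.ι w) i) := fun i => by
      rw [show d.φ t v = d.φ ((⟨t, le_sSup w.2 ht⟩ : ↥(d.symOf X₀)) : G ⧸ cS p G) v from rfl, S.act,
        S.swap w t ht ht1, Equiv.swap_inv]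
    constructor
    · intro he a ha
      rcases htall a ha with rfl | rfl
      · exact phi_one v
      have h1 : S.Ψ (dd d.φ a v) = 0 := by
        funext i
        rw [dd_apply, map_sub, Pi.sub_apply, hact, Pi.zero_apply, sub_eq_zero]
        show f _ = f i
        by_cases h1 : i = S.o
        · rw [h1, Equiv.swap_apply_left, he]
        by_cases h2 : i = S.ι w
        · rw [h2, Equiv.swap_apply_right, he]
        rw [Equiv.swap_apply_of_ne_of_ne h1 h2]
      exact dd_eq_zero.1 (S.inj0 _ (dd_mem_img (le_sSup w.2 ht) v) h1)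
    · intro hw
      have h1 := hact S.o
      rw [hw t ht, Equiv.swap_apply_left] at h1
      exact h1.symm
  have hsame : ∀ w w' : d.glob.cls X₀, v ∈ fixA d.φ (w : Subgroup (G ⧸ cS p G)) →
      v ∈ fixA d.φ (w' : Subgroup (G ⧸ cS p G)) := by
    intro w w' hw
    obtain ⟨s, hs, hsw⟩ := d.glob.outer_transitive w.2.1 w'.2.1
    rw [Sylow.coe_mapSurjective] at hs
    obtain ⟨s', hs', rfl⟩ := hs
    rw [← hsw, mem_fixA_cj, show d.φ (prj p G s')⁻¹ v = v by
      rw [← map_inv]; exact hTfix _ (inv_mem hs')]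
    exact hw
  have h2 : ∀ a : ZMod 2, ∀ b c : ZMod 2, a ≠ c → b ≠ c → a = b := by decide
  have hconst : ∀ w w' : d.glob.cls X₀, f (S.ι w) = f (S.ι w') := by
    intro w w'
    by_cases hw : v ∈ fixA d.φ (w : Subgroup (G ⧸ cS p G))
    · rw [(hval w).2 hw, (hval w').2 (hsame w w' hw)]
    · exact h2 _ _ _ (fun e => hw ((hval w).1 e)) fun e => hw (hsame w' w ((hval w').1 e))
  have h3 : S.Ψ (dd d.φ (prj p G x) v) = 0 := by
    funext i
    rw [dd_apply, map_sub, Pi.sub_apply, Pi.zero_apply, sub_eq_zero,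
      show d.φ (prj p G x) v = d.φ ((⟨_, hxS⟩ : ↥(d.symOf X₀)) : G ⧸ cS p G) v from rfl, S.act]
    show f _ = f i
    set σ := S.ρ ⟨prj p G x, hxS⟩
    have hσo : σ⁻¹ S.o = S.o := Equiv.Perm.inv_eq_iff_eq.2 hfix.symm
    rcases S.ι_all i with rfl | ⟨w, rfl⟩
    · rw [hσo]
    · rcases S.ι_all (σ⁻¹ (S.ι w)) with e | ⟨w', e⟩
      · exact absurd ((σ⁻¹).injective (e.trans hσo.symm)) (S.ι_ne w)
      · rw [← e]; exact hconst w' w
  have h4 := dd_eq_zero.1 (S.inj0 _ (dd_mem_img hxS v) h3)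
  exact ((d.fix_iff x ⟨z, hzV⟩).1 h4).symm

theorem fix_mem_M (z : G ⧸ cS p G) (hz : z ∈ d.symOf X₀) (hfix : S.ρ ⟨z, hz⟩ S.o = S.o) :
    z ∈ d.M.map (prj p G) := by
  obtain ⟨x, rfl⟩ := QuotientGroup.mk'_surjective (cS p G) z
  exact mem_map_of_mem _ (cStar_le_M d h (mem_sup_left (fix_centralizes h hA hX hnc pc S hz hfix)))

theorem cStar_mem_iff (f : ↥pc.blk) :
    (f : G) ∈ Cfsg.cStarOf p (T : Subgroup G) ↔ S.perm h hA hX hnc pc f S.o = S.o := by
  rw [S.perm_apply h hA hX hnc pc]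
  constructor
  · intro hf
    refine fix_of_mem_M h hA hX hnc pc S _ (y := 1) (one_mem _) ?_ (fix_mem_M h hA hX hnc pc S)
    rw [mul_one]
    exact mem_map_of_mem _ (cStar_le_M d h hf)
  · exact fun hf => mem_sup_left (fix_centralizes h hA hX hnc pc S _ hf)

theorem sep_blk {f : G} (hf : f ∈ pc.blk) {y : G}
    (hy : prj p G y ∈ centralizer (d.symOf X₀ : Set (G ⧸ cS p G)))
    (hfy : f * y ∈ Cfsg.cStarOf p (T : Subgroup G)) : f ∈ Cfsg.cStarOf p (T : Subgroup G) := by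
  refine (cStar_mem_iff h hA hX hnc pc S ⟨f, hf⟩).2 ?_
  rw [S.perm_apply h hA hX hnc pc]
  refine fix_of_mem_M h hA hX hnc pc S _ hy ?_ (fix_mem_M h hA hX hnc pc S)
  rw [← map_mul]
  exact mem_map_of_mem _ (cStar_le_M d h hfy)

theorem blk_kind : MemberKind T pc.blk := by
  classical
  obtain ⟨ε, hε⟩ := exists_quot_alt h hA hX hnc pc S
  obtain ⟨e⟩ := alt_stabilizer S.o
  set L := ((Cfsg.cStarOf p (T : Subgroup G) ⊓ pc.blk).subgroupOf pc.blk).map
    (QuotientGroup.mk' (Cfsg.pCore p ↥pc.blk)) with hL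
  have hmap : L.map ε.toMonoidHom = (MulAction.stabilizer (Equiv.Perm (Fin (2 ^ S.n + 1))) S.o).comap
      (alternatingGroup (Fin (2 ^ S.n + 1))).subtype := by
    ext σ
    rw [mem_comap, MulAction.mem_stabilizer_iff, Equiv.Perm.smul_def, coe_subtype]
    constructor
    · rintro ⟨_, ⟨x, hx, rfl⟩, rfl⟩
      rw [MulEquiv.coe_toMonoidHom, hε]
      exact (cStar_mem_iff h hA hX hnc pc S x).1 (mem_subgroupOf.1 hx).1
    · intro hσ
      obtain ⟨x, hx⟩ := QuotientGroup.mk'_surjective _ (ε.symm σ)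
      refine ⟨QuotientGroup.mk' _ x, mem_map_of_mem _ (mem_subgroupOf.2 ⟨?_, x.2⟩), by
        rw [MulEquiv.coe_toMonoidHom, hx, ε.apply_symm_apply]⟩
      refine (cStar_mem_iff h hA hX hnc pc S x).2 ?_
      rw [← hε, hx, ε.apply_symm_apply]
      exact hσ
  obtain ⟨k, hk⟩ : ∃ k, S.n = k + 1 := ⟨S.n - 1, by have := S.two_le; omega⟩
  have hdeg : 2 ^ S.n = 2 * 2 ^ k := by rw [hk, pow_succ']
  refine Or.inr (Or.inl ⟨S.p_two, 2 ^ k, ?_, ?_⟩)
  · rw [← hdeg]
    exact ⟨ε⟩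
  · rw [← hdeg]
    exact ⟨((equivMapOfInjective L ε.toMonoidHom ε.injective).trans (MulEquiv.subgroupCongr hmap)).trans e⟩

theorem blk_degree (m : ℕ)
    (hm : Nonempty (↥pc.blk ⧸ Cfsg.pCore p ↥pc.blk ≃* ↥(alternatingGroup (Fin (2 * m + 1))))) :
    ∃ n : ℕ, 2 * m + 1 = 2 ^ n + 1 := by
  obtain ⟨e⟩ := hm
  obtain ⟨ε, -⟩ := exists_quot_alt h hA hX hnc pc S
  refine ⟨S.n, ?_⟩
  have hc := Nat.card_congr (e.symm.trans ε).toEquiv
  have h5 := S.five_le
  rw [Nat.card_fin] at h5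
  rcases Nat.eq_zero_or_pos m with rfl | hm0
  · exfalso
    haveI : Subsingleton (Fin (2 * 0 + 1)) := inferInstanceAs (Subsingleton (Fin 1))
    haveI : Subsingleton (Equiv.Perm (Fin (2 * 0 + 1))) := ⟨fun a b => Equiv.ext fun x => Subsingleton.elim _ _⟩
    have h1 : Nat.card ↥(alternatingGroup (Fin (2 * 0 + 1))) = 1 := Nat.card_unique
    have h2 : 1 < Nat.card ↥(alternatingGroup (Fin (2 ^ S.n + 1))) := by
      haveI := (alternatingGroup.isSimpleGroup (α := Fin (2 ^ S.n + 1)) (by rw [Nat.card_fin]; exact h5)).toNontrivial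
      exact Finite.one_lt_card
    omega
  · haveI : Nontrivial (Fin (2 * m + 1)) := Fin.nontrivial_iff_two_le.2 (by omega)
    haveI : Nontrivial (Fin (2 ^ S.n + 1)) := Fin.nontrivial_iff_two_le.2 (by omega)
    rw [nat_card_alternatingGroup, nat_card_alternatingGroup, Nat.card_fin, Nat.card_fin] at hc
    have h2 : ∀ k, 2 ≤ k → 2 ∣ k.factorial := fun k hk => Nat.dvd_factorial two_pos hk
    have hc' := congrArg (2 * ·) hc
    rw [Nat.mul_div_cancel' (h2 _ (by omega)), Nat.mul_div_cancel' (h2 _ (by omega))] at hc'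
    exact (Nat.factorial_inj (by omega)).1 hc'

end Env

end Cfsg.Lib.PushMin
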