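import Cfsg.Agent.PushUpBlocks.SymBlock

/-!
Pushing up in a minimal parabolic group: the symmetric case.
-/

set_option autoImplicit false
set_option linter.unusedSectionVars false
set_option linter.style.haveILetI false

namespace Cfsg.Lib.PushMin

open Subgroup Cfsg.Lib.FFSLTwo Cfsg.Lib.FFModule
open scoped commutatorElement

universe u

variable {G : Type u} [Group G] {p : ℕ} [Finite G] [hp : Fact p.Prime]

namespace Env

variable {T : Sylow p G} {W : Type u} [AddCommGroup W] [Finite W] {d : Env T W}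
variable {A₀ X₀ : Subgroup (G ⧸ cS p G)}

theorem conjs_conj (pc : d.Piece A₀ X₀) {t : G} (ht : t ∈ (T : Subgroup G)) :
    (pc.conj t ht).conjs = pc.conjs := by
  ext F
  constructor
  · rintro ⟨s, hs, rfl⟩
    refine ⟨s * t, mul_mem hs ht, ?_⟩
    show (pc.E.map (MulAut.conj t).toMonoidHom).map (MulAut.conj s).toMonoidHom = _
    rw [Subgroup.map_map]
    congr 1
    ext x; simp [mul_assoc]
  · rintro ⟨s, hs, rfl⟩
    refine ⟨s * t⁻¹, mul_mem hs (inv_mem ht), ?_⟩
    show _ = (pc.E.map (MulAut.conj t).toMonoidHom).map (MulAut.conj (s * t⁻¹)).toMonoidHom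
    rw [Subgroup.map_map]
    congr 1
    ext x; simp [mul_assoc]

theorem blk_conj (pc : d.Piece A₀ X₀) {t : G} (ht : t ∈ (T : Subgroup G)) :
    (pc.conj t ht).blk = pc.blk.map (MulAut.conj t).toMonoidHom := by
  have htT : prj p G t ∈ ((T.mapSurjective (QuotientGroup.mk'_surjective (cS p G)) : Sylow p _) : Subgroup _) := by
    rw [Sylow.coe_mapSurjective]; exact mem_map_of_mem _ ht
  have hsym : FFSLTwo.cj (prj p G t) (d.symOf X₀) = d.symOf (FFSLTwo.cj (prj p G t) X₀) :=
    d.glob.cj_sSup_cls (d.glob.hTM htT) X₀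
  rw [Piece.blk, Piece.blk, conjs_conj pc ht]
  apply le_antisymm
  · refine _root_.sSup_le fun F hF => ?_
    obtain ⟨⟨s, hs, rfl⟩, hFs⟩ := hF
    have hF' : pc.E.map (MulAut.conj (t⁻¹ * s)).toMonoidHom ∈
        {F | F ∈ pc.conjs ∧ F.map (prj p G) ≤ d.symOf X₀} := by
      refine ⟨⟨t⁻¹ * s, mul_mem (inv_mem ht) hs, rfl⟩, ?_⟩
      rw [conj_map_prj, map_mul, map_inv, ← cj_mul, ← cj_inv_cj (prj p G t) (d.symOf X₀), cj_le_cj, hsym,
        ← conj_map_prj]
      exact hFs
    refine le_trans ?_ (map_mono (le_sSup hF'))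
    rw [Subgroup.map_map]
    refine le_of_eq (congrArg (fun f => Subgroup.map f pc.E) ?_)
    ext x; simp [mul_assoc]
  · rw [map_le_iff_le_comap]
    refine _root_.sSup_le fun F hF => map_le_iff_le_comap.1 (le_sSup ⟨?_, ?_⟩)
    · obtain ⟨s, hs, rfl⟩ := hF.1
      refine ⟨t * s, mul_mem ht hs, ?_⟩
      rw [Subgroup.map_map]
      congr 1
      ext x; simp [mul_assoc]
    · rw [conj_map_prj, ← hsym]
      exact cj_le_cj.2 hF.2

/-- the conjugates of the block of the class -/
def Piece.blks (pc : d.Piece A₀ X₀) : Set (Subgroup G) :=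
  {E | ∃ t ∈ (T : Subgroup G), E = pc.blk.map (MulAut.conj t).toMonoidHom}

variable (h : Hyps T) (hA : A₀ ∈ d.glob.inSyl) (hX : X₀ ∈ d.glob.outer) (hnc : ¬ Comm A₀ X₀)
variable (pc : d.Piece A₀ X₀)
include h hA hX hnc pc

theorem blks_cases {E : Subgroup G} (hE : E ∈ pc.blks) :
    ∃ A X, A ∈ d.glob.inSyl ∧ X ∈ d.glob.outer ∧ ¬ Comm A X ∧
      ∃ pc' : d.Piece A X, pc'.blk = E ∧ pc'.conjs = pc.conjs := by
  obtain ⟨t, ht, rfl⟩ := hE
  have htT : prj p G t ∈ ((T.mapSurjective (QuotientGroup.mk'_surjective (cS p G)) : Sylow p _) : Subgroup _) := by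
    rw [Sylow.coe_mapSurjective]; exact mem_map_of_mem _ ht
  exact ⟨_, _, d.glob.cj_inSyl htT hA, d.glob.cj_outer (d.glob.hTM htT) hX,
    fun hc => hnc ((comm_cj_iff _).1 hc), pc.conj t ht, blk_conj pc ht, conjs_conj pc ht⟩

theorem symmetric (hq : d.q = 2) (hmany : ¬ d.OneInner) : Result T pc.blks := by
  have hp2 : p = 2 := d.ff.char_two hA.1 hq
  have hgn := gens_normal h hA hX hnc pc
  have hdata : ∀ {A X} (pc' : d.Piece A X), A ∈ d.glob.inSyl → X ∈ d.glob.outer → ¬ Comm A X →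
      Nonempty (d.SymData X) := fun _ h1 h2 h3 => d.exists_symData h1 h2 h3 hq hmany
  have hblk : ∀ E ∈ pc.blks, Cfsg.IsBaumannBlock p (T : Subgroup G) E := by
    intro E hE
    obtain ⟨A, X, h1, h2, h3, pc', rfl, -⟩ := blks_cases h hA hX hnc pc hE
    obtain ⟨S⟩ := hdata pc' h1 h2 h3
    exact isBlock_blk h h1 h2 h3 pc' S
  have hsub : ∀ E ∈ pc.blks, E.IsSubnormal := by
    intro E hE
    obtain ⟨A, X, h1, h2, h3, pc', rfl, hcj⟩ := blks_cases h hA hX hnc pc hE
    have hle : pc'.blk ≤ pc.gens := by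
      rw [Piece.blk, Piece.gens, hcj]
      exact sSup_le_sSup fun F hF => hF.1
    set K := pc.gens ⊔ cS p G
    set F := pc'.blk ⊔ cS p G
    have hKn : K.Normal := Subgroup.sup_normal _ _
    have hgE : pc.gens.map (prj p G) ≤
        normalizer ((pc'.blk.map (prj p G) : Subgroup _) : Set (G ⧸ cS p G)) := by
      rw [Piece.gens, map_le_iff_le_comap]
      refine _root_.sSup_le fun F' hF' => map_le_iff_le_comap.1 ?_
      obtain ⟨A', X', h1', h2', h3', pc'', rfl⟩ := conjs_cases h hA hX hnc pc hF'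
      refine ((map_mono (base_le h h1' h2' h3' pc'' hp2)).trans (blk_image_le h h1' h2' h3' pc'' hp2)).trans ?_
      by_cases he : d.glob.cls X' = d.glob.cls X
      · rw [symOf, he]
        exact symOf_le h h1 h2 h3 pc' hp2
      · refine (_root_.sSup_le fun y hy b hb => mem_centralizer_iff.2 fun a ha => ?_ :
          d.symOf X' ≤ centralizer (d.symOf X : Set (G ⧸ cS p G))).trans
          ((centralizer_le (blk_image_le h h1 h2 h3 pc' hp2)).trans (centralizer_le_normalizer _))
        refine (?_ : d.symOf X ≤ centralizer ({b} : Set _)) ha |> fun hc => (mem_centralizer_singleton_iff.1 hc)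
        refine _root_.sSup_le fun x hx a ha => mem_centralizer_singleton_iff.2 ?_
        exact d.glob.cls_comm h2 hx hy.1 (by rw [d.glob.cls_eq h2' hy]; exact he) a ha b hb
    have hFeq : F = (pc'.blk.map (prj p G)).comap (prj p G) := by
      rw [comap_map_eq, QuotientGroup.ker_mk']
    have hKF : K ≤ normalizer (F : Set G) := by
      refine _root_.sup_le ?_ (le_sup_right.trans Subgroup.le_normalizer)
      rw [hFeq]
      exact (map_le_iff_le_comap.1 hgE).trans (le_normalizer_comap _)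
    exact IsSubnormal.step pc'.blk F le_sup_left
      (IsSubnormal.step F K (sup_le_sup_right hle _) hKn.isSubnormal (normal_subgroupOf_of_le_normalizer hKF))
      (normal_subgroupOf_of_le_normalizer (_root_.sup_le Subgroup.le_normalizer
        (cS_normalizes_blk h h1 h2 h3 pc' hp2)))
  have hspan : sSup pc.blks = pc.gens := by
    apply le_antisymm
    · refine _root_.sSup_le fun E hE => ?_
      obtain ⟨A, X, h1, h2, h3, pc', rfl, hcj⟩ := blks_cases h hA hX hnc pc hE
      rw [Piece.blk, Piece.gens, hcj]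
      exact sSup_le_sSup fun F hF => hF.1
    · refine _root_.sSup_le fun F hF => ?_
      obtain ⟨t, ht, rfl⟩ := hF
      exact (map_mono (base_le h hA hX hnc pc hp2)).trans (le_sSup ⟨t, ht, rfl⟩)
  refine assemble h hA hX hnc pc hblk hsub hspan ?_ ?_ ?_ ?_
  · rintro E ⟨s, hs, rfl⟩ t ht
    refine ⟨t * s, mul_mem ht hs, ?_⟩
    rw [Subgroup.map_map]
    congr 1
    ext x; simp [mul_assoc]
  · intro E hE f hf y hy hfy
    obtain ⟨A, X, h1, h2, h3, pc', rfl, hcj⟩ := blks_cases h hA hX hnc pc hE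
    obtain ⟨S⟩ := hdata pc' h1 h2 h3
    refine sep_blk h h1 h2 h3 pc' S hf ?_ hfy
    suffices hle : sSup {E' | E' ∈ pc.blks ∧ E' ≠ pc'.blk} ≤
        (centralizer (d.symOf X : Set (G ⧸ cS p G))).comap (prj p G) from hle hy
    refine _root_.sSup_le fun E' hE' => map_le_iff_le_comap.1 ?_
    obtain ⟨A', X', h1', h2', h3', pc'', hE'eq, hcj'⟩ := blks_cases h hA hX hnc pc hE'.1
    subst hE'eq
    have he : d.glob.cls X' ≠ d.glob.cls X := fun he => hE'.2 (by
      rw [Piece.blk, Piece.blk, hcj, hcj', symOf, symOf, he])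
    refine (blk_image_le h h1' h2' h3' pc'' hp2).trans
      (_root_.sSup_le fun x hx b hb => mem_centralizer_iff.2 fun a ha => ?_)
    refine (?_ : d.symOf X ≤ centralizer ({b} : Set _)) ha |> fun hc => (mem_centralizer_singleton_iff.1 hc)
    refine _root_.sSup_le fun x' hx' a ha => mem_centralizer_singleton_iff.2 ?_
    exact d.glob.cls_comm h2 hx' hx.1 (by rw [d.glob.cls_eq h2' hx]; exact he) a ha b hb
  · intro E hE
    obtain ⟨A, X, h1, h2, h3, pc', rfl, -⟩ := blks_cases h hA hX hnc pc hE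
    obtain ⟨S⟩ := hdata pc' h1 h2 h3
    exact blk_kind h h1 h2 h3 pc' S
  · intro E hE m hm
    obtain ⟨A, X, h1, h2, h3, pc', rfl, -⟩ := blks_cases h hA hX hnc pc hE
    obtain ⟨S⟩ := hdata pc' h1 h2 h3
    exact blk_degree h h1 h2 h3 pc' S m hm

end Env

end Cfsg.Lib.PushMin
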