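import Cfsg.Agent.PushUpBlocks.Setup
import Cfsg.Agent.Components.PxQ
import Cfsg.Agent.Components.ZJ.Functor

/-!
Pushing up in a minimal parabolic group: the Baumann subgroup acts as the product of the inner members.
-/

set_option autoImplicit false
set_option linter.unusedSectionVars false
set_option linter.style.haveILetI false

namespace Cfsg.Lib.PushMin

open Subgroup Cfsg.Lib.FFSLTwo Cfsg.Lib.FFModule
open scoped commutatorElement

universe u

variable {G : Type u} [Group G] {p : ℕ} [Finite G] [hp : Fact p.Prime]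

/-- `Ω₁(Z(J(T)))` -/
abbrev yS (p : ℕ) {G : Type u} [Group G] (T : Subgroup G) : Subgroup G :=
  Cfsg.omegaOne p (Cfsg.centerThompsonOf p T)

theorem maxElem_absorb {S A X : Subgroup G} (hA : Cfsg.Lib.Thompson.IsMaxElem p S A)
    (hX : Cfsg.IsElementaryAbelian p X) (hXS : X ≤ S) (hc : ∀ a ∈ A, ∀ x ∈ X, a * x = x * a) : X ≤ A := by
  have hle := hA.2.2 (A ⊔ X) (_root_.sup_le hA.1 hXS) (Cfsg.Lib.ElemToolkit.elementary_sup hA.2.1 hX hc)
  rw [Subgroup.eq_of_le_of_card_ge (le_sup_left : A ≤ A ⊔ X) hle]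
  exact le_sup_right

theorem elementary_zpowers {x : G} (hx : x ^ p = 1) : Cfsg.IsElementaryAbelian p (zpowers x) :=
  ⟨inferInstance, fun a ha => by
    obtain ⟨i, rfl⟩ := mem_zpowers_iff.1 ha
    rw [← zpow_natCast (x ^ i), ← zpow_mul, mul_comm, zpow_mul, zpow_natCast, hx, one_zpow]⟩

theorem absorb_elem {S A : Subgroup G} (hA : Cfsg.Lib.Thompson.IsMaxElem p S A) {x : G} (hxS : x ∈ S)
    (hx : x ^ p = 1) (hc : ∀ a ∈ A, a * x = x * a) : x ∈ A :=
  maxElem_absorb hA (elementary_zpowers hx) (zpowers_le.2 hxS)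
    (fun a ha y hy => by
      obtain ⟨i, rfl⟩ := mem_zpowers_iff.1 hy
      exact (Commute.zpow_right (show Commute a x from hc a ha) i).eq) (mem_zpowers x)

theorem maxElem_le_thompson {S A : Subgroup G} (hA : Cfsg.Lib.Thompson.IsMaxElem p S A) :
    A ≤ Cfsg.thompsonSubgroupOf p S := by
  rw [Cfsg.Lib.Thompson.thompsonSubgroupOf_eq]
  exact le_sSup hA

theorem yS_mem {T : Subgroup G} {y : G} (hy : y ∈ yS p T) :
    y ∈ T ∧ y ∈ centralizer (Cfsg.thompsonSubgroupOf p T : Set G) ∧ y ^ p = 1 := by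
  have h1 : y ∈ Cfsg.centerThompsonOf p T :=
    ((closure_le _).2 fun _ hz => hz.1 : yS p T ≤ Cfsg.centerThompsonOf p T) hy
  refine ⟨Cfsg.Lib.Thompson.thompsonSubgroupOf_le T h1.1, h1.2, ?_⟩
  clear h1
  have hle : yS p T ≤ Cfsg.centerThompsonOf p T := (closure_le _).2 fun _ hz => hz.1
  change y ∈ Subgroup.closure _ at hy
  induction hy using closure_induction with
  | mem x hx => exact hx.2
  | one => exact one_pow _
  | mul a b ha hb iha ihb =>
    have hab : Commute a b := mem_centralizer_iff.1 (hle hb).2 a (hle ha).1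
    rw [hab.mul_pow, iha, ihb, one_mul]
  | inv a ha iha => rw [inv_pow, iha, inv_one]

theorem yS_le_maxElem {T A : Subgroup G} (hA : Cfsg.Lib.Thompson.IsMaxElem p T A) : yS p T ≤ A :=
  fun _ hy => absorb_elem hA (yS_mem hy).1 (yS_mem hy).2.2
    fun a ha => mem_centralizer_iff.1 (yS_mem hy).2.1 a (maxElem_le_thompson hA ha)

theorem normalizer_le_yS (T : Subgroup G) : normalizer (T : Set G) ≤ normalizer (yS p T : Set G) := by
  intro g hg
  rw [mem_normalizer_iff_map_conj_eq] at hg ⊢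
  show (yS p T).map (MulAut.conj g).toMonoidHom = yS p T
  rw [Cfsg.Lib.ZJ.map_omegaOne, Cfsg.Lib.ZJ.map_centerThompsonOf]
  exact congrArg (fun X => Cfsg.omegaOne p (Cfsg.centerThompsonOf p X)) hg

theorem normalizer_le_baumann (T : Subgroup G) :
    normalizer (T : Set G) ≤ normalizer (Cfsg.baumannSubgroupOf p T : Set G) := by
  intro g hg
  rw [mem_normalizer_iff_map_conj_eq] at hg ⊢
  show (Cfsg.baumannSubgroupOf p T).map (MulAut.conj g).toMonoidHom = Cfsg.baumannSubgroupOf p T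
  rw [Cfsg.Lib.BlockBasic.map_baumannSubgroupOf]
  exact congrArg (Cfsg.baumannSubgroupOf p) hg

namespace Env

variable {T : Sylow p G} {W : Type u} [AddCommGroup W] [Finite W] (d : Env T W)
include d

theorem le_M (hm : Cfsg.IsPMinimal p G) {K : Subgroup G} (hK : (T : Subgroup G) ≤ K) (hK' : K ≠ ⊤) : K ≤ d.M :=
  le_coatom hm d.coatom d.hTM hK hK'

/-- a Sylow subgroup meets the centralizer of `V` in the core -/
theorem sylow_inf_cS (hm : Cfsg.IsPMinimal p G) (S : Sylow p G) :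
    (S : Subgroup G) ⊓ cS p G = Cfsg.pCore p G := by
  have hQ : ∀ R : Sylow p G, Cfsg.pCore p G ≤ (R : Subgroup G) := fun R => Cfsg.Lib.Coprime.pCore_le_sylow p R
  refine le_antisymm ?_ (le_inf (hQ S) pCore_le_cS)
  obtain ⟨R, hR⟩ := card_sylow_inf T (cS p G)
  have hfr := Sylow.normalizer_sup_eq_top R
  rw [hR] at hfr
  have hTN : (T : Subgroup G) ≤ normalizer (((T : Subgroup G) ⊓ cS p G : Subgroup G) : Set G) :=
    le_trans (le_inf Subgroup.le_normalizer
      (le_top.trans (normalizer_eq_top_iff.2 (cS_normal (p := p) (G := G))).ge))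
      (inf_normalizer_le_normalizer_inf)
  have hn : ((T : Subgroup G) ⊓ cS p G).Normal := by
    rw [← normalizer_eq_top_iff]
    by_contra hne
    exact d.coatom.1 (top_le_iff.1 (hfr ▸ sup_le (d.le_M hm hTN hne) d.hCM))
  have hle : (T : Subgroup G) ⊓ cS p G ≤ Cfsg.pCore p G := le_sSup ⟨hn, T.2.to_le inf_le_left⟩
  obtain ⟨g, hg⟩ := MulAction.exists_smul_eq G S T
  intro x hx
  have h1 : g * x * g⁻¹ ∈ (T : Subgroup G) ⊓ cS p G := by
    refine ⟨?_, (cS_normal (p := p) (G := G)).conj_mem x hx.2 g⟩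
    show g * x * g⁻¹ ∈ (T : Subgroup G)
    rw [← hg, Sylow.coe_subgroup_smul]
    exact ⟨x, hx.1, rfl⟩
  simpa [mul_assoc] using (pCore_normal (p := p) (G := G)).conj_mem _ (hle h1) g⁻¹

/-- replacing a largest elementary abelian subgroup by one centralising `V` -/
theorem maxElem_star (S : Sylow p G) {A : Subgroup G}
    (hA : Cfsg.Lib.Thompson.IsMaxElem p (S : Subgroup G) A) :
    Cfsg.Lib.Thompson.IsMaxElem p (S : Subgroup G) (A ⊓ cS p G ⊔ vS p G) := by
  have hVel := omegaOneCenter_elementary (p := p) (Cfsg.pCore p G)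
  have hVS : vS p G ≤ (S : Subgroup G) := fun v hv => Cfsg.Lib.Coprime.pCore_le_sylow p S (vS_mem hv).1
  have hel : Cfsg.IsElementaryAbelian p (A ⊓ cS p G ⊔ vS p G) :=
    Cfsg.Lib.ElemToolkit.elementary_sup (Cfsg.Lib.ElemToolkit.elementary_mono inf_le_left hA.2.1) hVel
      fun a ha v hv => (mem_centralizer_iff.1 ha.2 v hv).symm
  refine ⟨_root_.sup_le (inf_le_left.trans hA.1) hVS, hel, fun C hC hCe => (hA.2.2 C hC hCe).trans ?_⟩
  set D := A.map (prj p G) with hD
  obtain ⟨hDel, hDoff⟩ := d.offender S A hA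
  obtain ⟨hidx, -⟩ := d.off D hDel hDoff
  -- the fixed space
  have hfix : Nat.card (fixA d.φ D) = Nat.card ↥(A ⊓ vS p G) := by
    refine (Nat.card_congr ?_).symm
    refine Equiv.trans
      { toFun := fun x => (⟨⟨(x : G), x.2.2⟩, x.2.1⟩ : {v : vS p G // (v : G) ∈ A})
        invFun := fun v => ⟨(v.1 : G), v.2, v.1.2⟩
        left_inv := fun _ => rfl
        right_inv := fun _ => rfl } (Equiv.subtypeEquiv (Additive.ofMul.trans d.e.toEquiv) fun v => ?_)
    show (v : G) ∈ A ↔ d.e (Additive.ofMul v) ∈ fixA d.φ D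
    constructor
    · rintro hv _ ⟨a, ha, rfl⟩
      exact (d.fix_iff a v).2 (Cfsg.Lib.ElemToolkit.comm_of hA.2.1.1 ha hv)
    · intro hv
      exact absorb_elem hA (hVS v.2) (hVel.2 _ v.2)
        fun a ha => (d.fix_iff a v).1 (hv _ (mem_map_of_mem _ ha))
  have hAD : Nat.card A = Nat.card D * Nat.card ↥(A ⊓ cS p G) := by
    have h2 := Subgroup.card_eq_card_quotient_mul_card_subgroup ((cS p G).subgroupOf A)
    have hk : ((prj p G).comp A.subtype).ker = (cS p G).subgroupOf A := by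
      ext a
      rw [MonoidHom.mem_ker, mem_subgroupOf]
      exact QuotientGroup.eq_one_iff (a : G)
    have hr : ((prj p G).comp A.subtype).range = D := by rw [MonoidHom.range_comp, range_subtype]
    rw [← hk, Nat.card_congr (QuotientGroup.quotientKerEquivRange _).toEquiv, hr, hk] at h2
    rw [h2, ← inf_subgroupOf_left, Nat.card_congr (subgroupOfEquivOfLe inf_le_left).toEquiv]
  have hW : Nat.card ↥(vS p G) = Nat.card D * Nat.card (fixA d.φ D) := by
    conv_rhs => rw [← hidx, AddSubgroup.index_mul_card]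
    exact (Nat.card_congr Additive.ofMul).trans (Nat.card_congr d.e.toEquiv)
  have h3 := Cfsg.Lib.ElemToolkit.mul_card_le (A ⊓ cS p G) (vS p G)
  rw [hW, hfix] at h3
  have h4 : Nat.card ↥((A ⊓ cS p G) ⊓ vS p G) ≤ Nat.card ↥(A ⊓ vS p G) :=
    Cfsg.Lib.ElemToolkit.card_le_card_of_le (inf_le_inf_right _ inf_le_left)
  have h5 := h3.trans (Nat.mul_le_mul_left _ h4)
  rw [← mul_assoc, mul_comm (Nat.card ↥(A ⊓ cS p G)), ← hAD] at h5
  exact Nat.le_of_mul_le_mul_right h5 Nat.card_pos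

theorem star_le_core (hm : Cfsg.IsPMinimal p G) (S : Sylow p G) {A : Subgroup G}
    (hA : Cfsg.Lib.Thompson.IsMaxElem p (S : Subgroup G) A) : A ⊓ cS p G ⊔ vS p G ≤ Cfsg.pCore p G := by
  refine _root_.sup_le ?_ fun v hv => (vS_mem hv).1
  rw [← d.sylow_inf_cS hm S]
  exact inf_le_inf_right _ hA.1

theorem yS_le_core (hm : Cfsg.IsPMinimal p G) : yS p (T : Subgroup G) ≤ Cfsg.pCore p G := by
  obtain ⟨A, hA⟩ := Cfsg.Lib.Thompson.exists_isMaxElem (p := p) (T : Subgroup G)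
  exact (yS_le_maxElem (d.maxElem_star T hA)).trans (d.star_le_core hm T hA)

theorem vy_normal (hm : Cfsg.IsPMinimal p G) : (vS p G ⊔ yS p (T : Subgroup G)).Normal := by
  set Y := yS p (T : Subgroup G)
  set N := normalizer ((vS p G ⊔ Y : Subgroup G) : Set G)
  haveI : (vS p G).Normal := vS_normal
  have hTN : (T : Subgroup G) ≤ N := fun t ht => by
    have h1 : t ∈ normalizer (vS p G : Set G) := normalizer_eq_top_iff.2 (vS_normal (p := p) (G := G)) ▸ mem_top t
    rw [mem_normalizer_iff_map_conj_eq] at h1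
    have h2 := normalizer_le_yS (p := p) _ (Subgroup.le_normalizer ht)
    rw [mem_normalizer_iff_map_conj_eq] at h2 ⊢
    show (vS p G ⊔ Y).map (MulAut.conj t).toMonoidHom = vS p G ⊔ Y
    rw [Subgroup.map_sup]
    exact congrArg₂ (· ⊔ ·) h1 h2
  have hJN : Cfsg.thompsonSubgroup p G ≤ N := by
    refine Cfsg.Lib.ThompsonFactor.thompsonSubgroup_le fun S => ?_
    rw [Cfsg.Lib.Thompson.thompsonSubgroupOf_eq]
    refine sSup_le fun A hA => ?_
    have hstar := d.maxElem_star S hA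
    set A₁ := A ⊓ cS p G ⊔ vS p G
    have hA₁T : Cfsg.Lib.Thompson.IsMaxElem p (T : Subgroup G) A₁ := by
      refine ⟨(d.star_le_core hm S hA).trans (Cfsg.Lib.Coprime.pCore_le_sylow p T), hstar.2.1, fun C hC hCe => ?_⟩
      obtain ⟨g, hg⟩ := MulAction.exists_smul_eq G T S
      refine le_trans (le_of_eq (card_map_of_injective (f := (MulAut.conj g).toMonoidHom)
        (MulAut.conj g).injective).symm) (hstar.2.2 _ ?_
          ((Cfsg.Lib.Thompson.isElementaryAbelian_map_iff (MulAut.conj g).injective.injOn).2 hCe))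
      rw [← hg, Sylow.coe_subgroup_smul]
      exact map_mono hC
    intro a ha
    have hcomm : ∀ a ∈ A, ∀ y ∈ vS p G ⊔ Y, a * y * a⁻¹ ∈ vS p G ⊔ Y := by
      intro a ha y hy
      obtain ⟨v, hv, z, hz, rfl⟩ := mem_sup_of_normal_left.1 hy
      obtain ⟨c, hc, w, hw, rfl⟩ := mem_sup_of_normal_right.1 (yS_le_maxElem hA₁T hz)
      rw [show a * (v * (c * w)) * a⁻¹ = (a * v * a⁻¹) * (a * c * a⁻¹) * (a * w * a⁻¹) by group,
        Cfsg.Lib.ElemToolkit.comm_of hA.2.1.1 ha hc.1, mul_inv_cancel_right]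
      have hvn := fun {x} (hx : x ∈ vS p G) => (vS_normal (p := p) (G := G)).conj_mem x hx a
      have e : c = (c * w) * w⁻¹ := by group
      refine mul_mem (mul_mem (mem_sup_left (hvn hv)) ?_) (mem_sup_left (hvn hw))
      rw [e]
      exact mul_mem (mem_sup_right hz) (mem_sup_left (inv_mem hw))
    rw [mem_normalizer_iff]
    refine fun y => ⟨hcomm a ha y, fun hy => ?_⟩
    simpa [mul_assoc] using hcomm a⁻¹ (inv_mem ha) _ hy
  rw [← normalizer_eq_top_iff]
  haveI : (Cfsg.thompsonSubgroup p G).Normal := thompsonSubgroup_normal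
  refine top_le_iff.1 (le_trans ?_ (_root_.sup_le hJN hTN))
  by_contra hne
  have hLM : Cfsg.thompsonSubgroup p G ≤ d.M :=
    le_sup_left.trans (d.le_M hm le_sup_right fun h => hne h.ge)
  set L := Cfsg.thompsonSubgroup p G
  obtain ⟨R, hR⟩ := card_sylow_inf T L
  have hfr := Sylow.normalizer_sup_eq_top R
  rw [hR] at hfr
  refine d.coatom.1 (top_le_iff.1 (hfr ▸ _root_.sup_le (le_trans ?_ d.hNJ) hLM))
  intro k hk
  set J := Cfsg.thompsonSubgroupOf p (T : Subgroup G) with hJ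
  have hle' : FFSLTwo.cj k J ≤ J := by
    rw [hJ, Cfsg.Lib.Thompson.thompsonSubgroupOf_eq]
    refine cj_sSup_le fun B hB => ⟨?_, el_cj k hB.2.1, fun D hD hDe => (hB.2.2 D hD hDe).trans (card_cj k B).ge⟩
    rintro _ ⟨b, hb, rfl⟩
    exact ((mem_normalizer_iff.1 hk b).1 ⟨hB.1 hb,
      Cfsg.Lib.ThompsonFactor.thompsonSubgroupOf_le_thompsonSubgroup T (maxElem_le_thompson hB hb)⟩).1
  have he := eq_of_le_of_card_ge hle' (card_cj k J).ge
  rw [mem_normalizer_iff]
  intro z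
  refine ⟨fun hz => conj_eq_self he hz, fun hz => ?_⟩
  rw [← he, mem_cj] at hz
  simpa [mul_assoc] using hz

theorem core_inf_baumann : Cfsg.pCore p G ⊓ Cfsg.baumannSubgroupOf p (T : Subgroup G) =
    Cfsg.pCore p G ⊓ centralizer ((vS p G ⊔ yS p (T : Subgroup G) : Subgroup G) : Set G) := by
  refine le_antisymm (fun x hx => ⟨hx.1, ?_⟩) fun x hx => ⟨hx.1,
    Cfsg.Lib.Coprime.pCore_le_sylow p T hx.1, centralizer_le (fun y hy => mem_sup_right hy) hx.2⟩
  have hle : vS p G ⊔ yS p (T : Subgroup G) ≤ centralizer ({x} : Set G) :=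
    _root_.sup_le (fun v hv => mem_centralizer_singleton_iff.2 (mem_centralizer_iff.1 (pCore_le_cS hx.1) v hv))
      fun y hy => mem_centralizer_singleton_iff.2 (mem_centralizer_iff.1 hx.2.2 y hy)
  exact mem_centralizer_iff.2 fun y hy => mem_centralizer_singleton_iff.1 (hle hy)

theorem p0_normal (hm : Cfsg.IsPMinimal p G) :
    (Cfsg.pCore p G ⊓ Cfsg.baumannSubgroupOf p (T : Subgroup G)).Normal := by
  rw [d.core_inf_baumann]
  haveI : (Cfsg.pCore p G).Normal := pCore_normal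
  haveI : (centralizer ((vS p G ⊔ yS p (T : Subgroup G) : Subgroup G) : Set G)).Normal :=
    centralizer_normal (d.vy_normal hm)
  infer_instance

theorem core_comm_baumann : ⁅Cfsg.pCore p G, Cfsg.baumannSubgroupOf p (T : Subgroup G)⁆ ≤
    Cfsg.pCore p G ⊓ Cfsg.baumannSubgroupOf p (T : Subgroup G) :=
  le_inf (le_normalizer_iff_commutator_le_left.1
    (le_top.trans (normalizer_eq_top_iff.2 (pCore_normal (p := p) (G := G))).ge))
    (le_normalizer_iff_commutator_le_right.1 ((Cfsg.Lib.Coprime.pCore_le_sylow p T).trans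
      (Subgroup.le_normalizer.trans (normalizer_le_baumann _))))

theorem p0_centralizer' (hmin : Cfsg.IsPMinimal p G)
    (hcp : centralizer (Cfsg.pCore p G : Set G) ≤ Cfsg.pCore p G) :
    centralizer ((Cfsg.pCore p G ⊓ Cfsg.baumannSubgroupOf p (T : Subgroup G) : Subgroup G) : Set G) ≤
      Cfsg.pCore p G ⊓ Cfsg.baumannSubgroupOf p (T : Subgroup G) := by
  set P₀ := Cfsg.pCore p G ⊓ Cfsg.baumannSubgroupOf p (T : Subgroup G) with hP₀
  haveI hP₀n : P₀.Normal := d.p0_normal hmin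
  haveI hKn : (centralizer (P₀ : Set G)).Normal := centralizer_normal hP₀n
  have hY : yS p (T : Subgroup G) ≤ P₀ := fun y hy => ⟨d.yS_le_core hmin hy, (yS_mem hy).1,
    mem_centralizer_iff.2 fun z hz => by
      have h1 := (yS_mem hy).2.1
      have h2 : z ∈ Cfsg.thompsonSubgroupOf p (T : Subgroup G) :=
        ((closure_le _).2 fun _ hw => hw.1.1 : yS p (T : Subgroup G) ≤ _) hz
      exact mem_centralizer_iff.1 h1 z h2⟩
  have hin : Cfsg.pCore p G ⊓ centralizer (P₀ : Set G) ≤ P₀ := fun x hx =>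
    ⟨hx.1, Cfsg.Lib.Coprime.pCore_le_sylow p T hx.1, centralizer_le (fun y hy => hY hy) hx.2⟩
  refine le_trans (le_inf ?_ le_rfl) hin
  refine le_sSup ⟨hKn, ?_⟩
  intro ⟨x, hx⟩
  obtain ⟨k, hk⟩ := exists_pow_coprime (p := p) x
  set z := x ^ p ^ k with hz
  have hzP : z ∈ centralizer (P₀ : Set G) := pow_mem hx _
  have hQn : ⊤ ≤ normalizer (Cfsg.pCore p G : Set G) := (normalizer_eq_top_iff.2 pCore_normal).ge
  have hzQ : zpowers z ≤ centralizer (Cfsg.pCore p G : Set G) := by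
    refine Cfsg.Lib.Components.pxq (P := P₀) ((Cfsg.Lib.Components.isPGroup_pCore p).to_le inf_le_left)
      (Cfsg.Lib.Components.isPGroup_pCore p) ?_ (zpowers_le.2 hzP) (le_top.trans hQn) (le_top.trans hQn) ?_
    · rw [Nat.card_zpowers]; exact hk
    · rw [zpowers_le]
      exact mem_centralizer_iff.2 fun y hy => mem_centralizer_iff.1 hzP y (hin hy)
  obtain ⟨j, hj⟩ := Cfsg.Lib.Components.isPGroup_pCore (G := G) p ⟨z, hcp (hzQ (mem_zpowers z))⟩
  refine ⟨k, Subtype.ext ?_⟩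
  show z = 1
  exact orderOf_eq_one_iff.1 (Nat.eq_one_of_dvd_coprimes (hk.pow_right j) dvd_rfl
    (orderOf_dvd_of_pow_eq_one (congrArg Subtype.val hj)))

theorem p0_centralizer (h : Hyps T) :
    centralizer ((Cfsg.pCore p G ⊓ Cfsg.baumannSubgroupOf p (T : Subgroup G) : Subgroup G) : Set G) ≤
      Cfsg.pCore p G ⊓ Cfsg.baumannSubgroupOf p (T : Subgroup G) :=
  d.p0_centralizer' h.min h.cp

theorem thompson_image :
    (Cfsg.thompsonSubgroupOf p (T : Subgroup G)).map (prj p G) = sSup d.glob.inSyl := by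
  apply le_antisymm
  · rw [map_le_iff_le_comap, Cfsg.Lib.Thompson.thompsonSubgroupOf_eq]
    refine sSup_le fun A hA => map_le_iff_le_comap.1 ?_
    obtain ⟨hel, hoff⟩ := d.offender T A hA
    refine (d.off _ hel hoff).2.1.trans (sSup_le_sSup fun m hm => ⟨hm.1, hm.2.trans ?_⟩)
    rw [Sylow.coe_mapSurjective]
    exact map_mono hA.1
  · obtain ⟨A, hA, hAC⟩ := d.moving
    obtain ⟨hel, hoff⟩ := d.offender T A hA
    obtain ⟨m, hmA, hm⟩ := (d.off _ hel hoff).2.2 fun hb => hAC fun a ha =>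
      d.prj_eq_one.1 (mem_bot.1 (hb ▸ mem_map_of_mem (prj p G) ha))
    have hmT : m ∈ d.glob.inSyl := ⟨hm, hmA.trans (by rw [Sylow.coe_mapSurjective]; exact map_mono hA.1)⟩
    refine sSup_le fun X hX => ?_
    obtain ⟨t, ht, rfl⟩ := d.glob.transitive hmT hX
    rw [Sylow.coe_mapSurjective] at ht
    obtain ⟨t', ht', rfl⟩ := ht
    rintro _ ⟨y, hy, rfl⟩
    obtain ⟨a, ha, rfl⟩ := hmA hy
    refine ⟨t' * a * t'⁻¹, ?_, by simp⟩
    exact (mem_normalizer_iff.1 (Cfsg.Lib.Thompson.normalizer_le_normalizer_thompson _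
      (Subgroup.le_normalizer ht')) a).1 (maxElem_le_thompson hA ha)

theorem baumann_image :
    (Cfsg.baumannSubgroupOf p (T : Subgroup G)).map (prj p G) = sSup d.glob.inSyl := by
  refine le_antisymm ?_ (d.thompson_image ▸ map_mono (Cfsg.Lib.BlockBasic.thompson_le_baumann _))
  rintro _ ⟨b, hb, rfl⟩
  refine d.glob.inner_mem (by rw [Sylow.coe_mapSurjective]; exact mem_map_of_mem _ hb.1) fun X hX a ha v => ?_
  obtain ⟨y, rfl⟩ := cls_surj p d.φ v
  rw [dd_cls, act_cls]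
  refine congrArg _ (Subtype.ext ?_)
  rw [res_coe]
  show d.φ (prj p G b) (dd d.φ a (y : W)) = dd d.φ a (y : W)
  have hfix : dd d.φ a (y : W) ∈ fixA d.φ (sSup d.glob.inSyl) :=
    mem_fixA_sSup.2 fun Z hZ => (d.ff.comm_mem hX.1 hZ.1 (d.glob.inSyl_comm hX hZ) ha _).2
  obtain ⟨j, -, rfl⟩ := d.thompson_image.ge (le_sSup hX ha)
  obtain ⟨x, hx⟩ := d.exists_vec (y : W)
  obtain ⟨hmem, he⟩ := d.dd_eq j x
  rw [← hx, he] at hfix ⊢
  refine (d.fix_iff b ⟨_, hmem⟩).2 ?_
  have hJ : ∀ k ∈ Cfsg.thompsonSubgroupOf p (T : Subgroup G), k * ⁅j, (x : G)⁆ = ⁅j, (x : G)⁆ * k :=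
    fun k hk => (d.fix_iff k ⟨_, hmem⟩).1 (hfix _ (d.thompson_image.le (mem_map_of_mem _ hk)))
  have hu : ⁅j, (x : G)⁆ ∈ yS p (T : Subgroup G) := by
    refine subset_closure ⟨⟨?_, mem_centralizer_iff.2 hJ⟩,
      (omegaOneCenter_elementary (p := p) (Cfsg.pCore p G)).2 _ hmem⟩
    obtain ⟨A, hA⟩ := Cfsg.Lib.Thompson.exists_isMaxElem (p := p) (T : Subgroup G)
    exact maxElem_le_thompson hA (absorb_elem hA (Cfsg.Lib.Coprime.pCore_le_sylow p T (vS_mem hmem).1)
      ((omegaOneCenter_elementary (p := p) (Cfsg.pCore p G)).2 _ hmem)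
      fun a ha => hJ a (maxElem_le_thompson hA ha))
  exact (mem_centralizer_iff.1 hb.2 _ hu).symm

end Env

end Cfsg.Lib.PushMin
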