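import Cfsg.Agent.PushUpBlocks.PieceConj
import Cfsg.Agent.PushUpBlocks.SmallSL

/-!
Pushing up in a minimal parabolic group: the shape of one member inside `C*`.
-/

set_option autoImplicit false
set_option linter.unusedSectionVars false
set_option linter.style.haveILetI false

namespace Cfsg.Lib.PushMin

open Subgroup Cfsg.Lib.FFSLTwo Cfsg.Lib.FFModule
open scoped commutatorElement MatrixGroups

universe u

theorem map_res_equiv {A : Type u} [Group A] [Finite A] {B : Type} [Group B] [Finite B] {p : ℕ} [Fact p.Prime]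
    (e : A ≃* B) : (Cfsg.pResidual p A).map e.toMonoidHom = Cfsg.pResidual p B :=
  Cfsg.Lib.PushBlocks.map_res e.toMonoidHom e.surjective

variable {G : Type u} [Group G] {p : ℕ} [Finite G] [hp : Fact p.Prime]

namespace Env

variable {T : Sylow p G} {W : Type u} [AddCommGroup W] [Finite W] {d : Env T W}
variable {A₀ X₀ : Subgroup (G ⧸ cS p G)}
variable (h : Hyps T) (hA : A₀ ∈ d.glob.inSyl) (hX : X₀ ∈ d.glob.outer) (hnc : ¬ Comm A₀ X₀)
variable (pc : d.Piece A₀ X₀)
include h hA hX hnc pc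

theorem E_le_H : pc.E ≤ pc.H := pc.res.le.trans (map_subtype_le _)

theorem T_inf_E : (T : Subgroup G) ⊓ pc.E = Cfsg.baumannSubgroupOf p (T : Subgroup G) ⊓ pc.E :=
  le_antisymm (le_inf ((inf_le_inf_left _ (E_le_H h hA hX hnc pc)).trans pc.sylow.le) inf_le_right)
    (inf_le_inf_right _ (baumann_le T))

/-- elements of the piece stabilising the inner member normalise the Baumann subgroup -/
theorem stab_normalizes {x : G} (hx : x ∈ pc.H)
    (hs : FFSLTwo.cj (prj p G x) A₀ = A₀) :
    x ∈ normalizer (Cfsg.baumannSubgroupOf p (T : Subgroup G) : Set G) := by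
  set B := Cfsg.baumannSubgroupOf p (T : Subgroup G)
  have hxH := pc.up (mem_map_of_mem (prj p G) hx)
  rw [← SetLike.mem_coe, coe_mul_of_right_le_normalizer_left _ _ (d.glob.inner_normalizes hA hX hnc)] at hxH
  obtain ⟨l, hl, w, hw, hlw⟩ := hxH
  dsimp only at hlw
  have hwW : FFSLTwo.cj w (sSup d.glob.inSyl) = sSup d.glob.inSyl := cj_le_self hw
  have hsW : FFSLTwo.cj (prj p G x) (sSup d.glob.inSyl) = sSup d.glob.inSyl := by
    refine eq_of_le_of_card_ge (cj_sSup_le fun X hX' => ?_) (card_cj _ _).ge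
    have : FFSLTwo.cj (prj p G x) X = X := by
      by_cases hXA : X = A₀
      · rw [hXA, hs]
      · refine eq_of_le_of_card_ge ?_ (card_cj _ _).ge
        rintro _ ⟨a, ha, rfl⟩
        show prj p G x * a * (prj p G x)⁻¹ ∈ X
        have h1 : w * a * w⁻¹ = a := by
          rw [d.glob.inner_abelian w hw a (le_sSup hX' ha), mul_inv_cancel_right]
        have h2 : a * l = l * a :=
          d.glob.rest_comm hA hX hnc a (le_sSup (show X ∈ {X ∈ d.glob.inSyl | X ≠ A₀} from ⟨hX', hXA⟩) ha) l hl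
        rw [← hlw, show l * w * a * (l * w)⁻¹ = l * (w * a * w⁻¹) * l⁻¹ by group, h1, ← h2, mul_inv_cancel_right]
        exact ha
    rw [this]; exact hX'
  rw [mem_normalizer_iff_map_conj_eq]
  refine Subgroup.eq_of_le_of_card_ge ?_ (card_map_of_injective (MulAut.conj x).injective).ge
  rintro _ ⟨b, hb, rfl⟩
  show x * b * x⁻¹ ∈ B
  have h1 : prj p G (x * b * x⁻¹) ∈ B.map (prj p G) := by
    rw [d.baumann_image, ← hsW, map_mul, map_mul, map_inv]
    exact conj_mem_cj (d.baumann_image.le (mem_map_of_mem _ hb))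
  obtain ⟨b', hb', he⟩ := h1
  have h2 : b'⁻¹ * (x * b * x⁻¹) ∈ cS p G ⊓ pc.H :=
    ⟨d.prj_eq_one.1 (by rw [map_mul, map_inv, he, inv_mul_cancel]),
      pc.H.mul_mem (pc.H.inv_mem (pc.hB hb')) (pc.H.mul_mem (pc.H.mul_mem hx (pc.hB hb)) (pc.H.inv_mem hx))⟩
  simpa using mul_mem hb' (pc.cs h2).2

/-- `C*` meets the member in the stabiliser of its inner member -/
theorem cStar_inf : Cfsg.cStarOf p (T : Subgroup G) ⊓ pc.E =
    pc.E ⊓ (normalizer (A₀ : Set (G ⧸ cS p G))).comap (prj p G) := by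
  apply le_antisymm
  · rintro x ⟨hxC, hxE⟩
    refine ⟨hxE, ?_⟩
    show prj p G x ∈ normalizer (A₀ : Set _)
    rw [mem_normalizer_iff_map_conj_eq]
    by_contra hne
    have hxL : prj p G x ∈ A₀ ⊔ X₀ := by
      rw [← d.glob.pair_eq hA hX hnc]
      exact resOf_le_pair h hA hX hnc pc hA ((E_image h hA hX hnc pc).le (mem_map_of_mem _ hxE))
    have hL := d.ff.sup_cj hA.1 hX.1 hnc hxL hne
    refine hX.2 (le_sup_right.trans (hL.ge.trans (_root_.sup_le (d.glob.inSyl_le hA) ?_)))
    rintro _ ⟨a, ha, rfl⟩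
    have hxM : prj p G x ∈ d.M.map (prj p G) := mem_map_of_mem _ (cStar_le_M d h hxC)
    exact mul_mem (mul_mem hxM (d.glob.inSyl_le hA ha)) (inv_mem hxM)
  · rintro x ⟨hxE, hxN⟩
    refine ⟨normalizer_baumann_le_cStar h (stab_normalizes h hA hX hnc pc (E_le_H h hA hX hnc pc hxE) ?_), hxE⟩
    exact mem_normalizer_iff_map_conj_eq.1 hxN

theorem resOf_eq : d.resOf A₀ = Cfsg.pResidualOf p (A₀ ⊔ X₀) := by
  apply le_antisymm
  · refine map_le_iff_le_comap.2 ((closure_le _).2 fun x hx => ?_)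
    have hx' : (orderOf (x : G ⧸ cS p G)).Coprime p := by rw [Subgroup.orderOf_coe]; exact hx
    have hxL : (x : G ⧸ cS p G) ∈ A₀ ⊔ X₀ := by
      rw [← d.glob.pair_eq hA hX hnc]
      exact resOf_le_pair h hA hX hnc pc hA (mem_map_of_mem _ (subset_closure hx))
    exact ⟨⟨x, hxL⟩, subset_closure (by
      show (orderOf _).Coprime p
      rwa [Subgroup.orderOf_mk]), rfl⟩
  · refine map_le_iff_le_comap.2 ((closure_le _).2 fun x hx => ?_)
    have hx' : (orderOf (x : G ⧸ cS p G)).Coprime p := by rw [Subgroup.orderOf_coe]; exact hx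
    have hxK : (x : G ⧸ cS p G) ∈ d.glob.pair A₀ ⊔ sSup d.glob.inSyl :=
      mem_sup_left ((d.glob.pair_eq hA hX hnc).ge x.2)
    exact ⟨⟨x, hxK⟩, subset_closure (by
      show (orderOf _).Coprime p
      rwa [Subgroup.orderOf_mk]), rfl⟩

theorem exists_quot : ∃ ε : ↥pc.E ⧸ Cfsg.pCore p ↥pc.E ≃* ↥(d.resOf A₀),
    ∀ x : ↥pc.E, ((ε (QuotientGroup.mk' _ x) : ↥(d.resOf A₀)) : G ⧸ cS p G) = prj p G x := by
  let f : ↥pc.E →* ↥(d.resOf A₀) :=
    ((prj p G).comp pc.E.subtype).codRestrict _ fun x =>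
      (E_image h hA hX hnc pc).le (mem_map_of_mem _ x.2)
  have hf : Function.Surjective f := by
    rintro ⟨y, hy⟩
    obtain ⟨x, hx, rfl⟩ := (E_image h hA hX hnc pc).ge hy
    exact ⟨⟨x, hx⟩, rfl⟩
  have hk : f.ker = Cfsg.pCore p ↥pc.E := by
    ext x
    have h1 : x ∈ Cfsg.pCore p ↥pc.E ↔ (x : G) ∈ Cfsg.pCoreOf p pc.E :=
      (mem_map_iff_mem pc.E.subtype_injective).symm
    rw [h1, pc.core, MonoidHom.mem_ker, ← Subtype.coe_inj]
    exact ⟨fun he => ⟨x.2, d.prj_eq_one.1 he⟩, fun he => d.prj_eq_one.2 he.2⟩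
  exact ⟨(QuotientGroup.quotientMulEquivOfEq hk.symm).trans (QuotientGroup.quotientKerEquivOfSurjective f hf),
    fun x => rfl⟩

set_option maxHeartbeats 1600000 in
/-- the three possibilities for a member -/
theorem kind :
    (∃ (F : Type) (_ : Field F) (_ : Fintype F) (m : ℕ), 3 < p ^ m ∧ Fintype.card F = p ^ m ∧
        Nonempty (↥pc.E ⧸ Cfsg.pCore p ↥pc.E ≃* Matrix.SpecialLinearGroup (Fin 2) F) ∧
        Cfsg.cStarOf p (T : Subgroup G) ⊓ pc.E =
          pc.E ⊓ normalizer ((T ⊓ pc.E : Subgroup G) : Set G)) ∨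
      (p = 2 ∧ ∃ m : ℕ, Nonempty (↥pc.E ⧸ Cfsg.pCore p ↥pc.E ≃* ↥(alternatingGroup (Fin (2 * m + 1)))) ∧
        Nonempty (↥(((Cfsg.cStarOf p (T : Subgroup G) ⊓ pc.E).subgroupOf pc.E).map
          (QuotientGroup.mk' (Cfsg.pCore p ↥pc.E))) ≃* ↥(alternatingGroup (Fin (2 * m))))) ∨
      (p = 3 ∧ Nonempty (↥pc.E ⧸ Cfsg.pCore p ↥pc.E ≃* ↥(commutator (Matrix.SpecialLinearGroup (Fin 2) (ZMod 3)))) ∧
        ((Cfsg.cStarOf p (T : Subgroup G) ⊓ pc.E).subgroupOf pc.E).map (QuotientGroup.mk' (Cfsg.pCore p ↥pc.E)) =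
          Subgroup.center (↥pc.E ⧸ Cfsg.pCore p ↥pc.E)) := by
  classical
  set L := A₀ ⊔ X₀ with hL
  obtain ⟨ε, hε⟩ := exists_quot h hA hX hnc pc
  obtain ⟨F, iF, iFt, ρ, -, hF, -, -, -⟩ := d.ff.natural hA.1 hX.1 hnc
  obtain ⟨n, hn⟩ := IsPGroup.iff_card.1 (isPGroup_el (d.ff.el hA.1))
  rw [d.ff.card hA.1] at hn
  have hFn : Fintype.card F = p ^ n := hF.trans hn
  have hq1 := d.ff.one_lt
  have hn1 : 1 ≤ n := Nat.pos_of_ne_zero fun h0 => by rw [h0, pow_zero] at hn; omega
  have hRle : d.resOf A₀ ≤ L := (resOf_le_pair h hA hX hnc pc hA).trans (d.glob.pair_eq hA hX hnc).le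
  have hres : (Cfsg.pResidual p ↥L).map L.subtype = d.resOf A₀ := (resOf_eq h hA hX hnc pc).symm
  have hρres : (Cfsg.pResidual p ↥L).map ρ.toMonoidHom = commutator SL(2, F) := by
    rw [map_res_equiv ρ]; exact Cfsg.Lib.PushBlocks.res_SL hn1 hFn
  have hAL : A₀ ≤ L := le_sup_left
  -- membership in the stabiliser
  have hC : ∀ x : ↥pc.E, x ∈ (Cfsg.cStarOf p (T : Subgroup G) ⊓ pc.E).subgroupOf pc.E ↔
      FFSLTwo.cj (prj p G x) A₀ = A₀ := fun x => by
    rw [mem_subgroupOf, cStar_inf h hA hX hnc pc, mem_inf, mem_comap, mem_normalizer_iff_map_conj_eq]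
    exact ⟨fun h' => h'.2, fun h' => ⟨x.2, h'⟩⟩
  by_cases h3 : 3 < p ^ n
  · refine Or.inl ⟨F, iF, iFt, n, h3, hFn, ?_, ?_⟩
    · have htop : Cfsg.pResidual p ↥L = ⊤ := by
        refine map_injective (f := ρ.toMonoidHom) ρ.injective ?_
        rw [hρres, Cfsg.Lib.Known.sl2_commutator_eq_top F (by omega), map_top_of_surjective _ ρ.surjective]
      have hRL : d.resOf A₀ = L := by
        rw [← hres, htop, ← MonoidHom.range_eq_map, range_subtype]
      exact ⟨ε.trans ((MulEquiv.subgroupCongr hRL).trans ρ)⟩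
    · apply le_antisymm
      · rintro x ⟨hxC, hxE⟩
        have hx := (hC ⟨x, hxE⟩).1 (mem_subgroupOf.2 ⟨hxC, hxE⟩)
        refine ⟨hxE, ?_⟩
        rw [T_inf_E h hA hX hnc pc]
        exact inf_normalizer_le_normalizer_inf
          ⟨stab_normalizes h hA hX hnc pc (E_le_H h hA hX hnc pc hxE) hx, Subgroup.le_normalizer hxE⟩
      · rintro x ⟨hxE, hxN⟩
        refine mem_subgroupOf.1 ((hC ⟨x, hxE⟩).2 (eq_of_le_of_card_ge ?_ (card_cj _ _).ge))
        rintro _ ⟨a, ha, rfl⟩
        show prj p G x * a * (prj p G x)⁻¹ ∈ A₀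
        have htop : Cfsg.pResidual p ↥L = ⊤ := by
          refine map_injective (f := ρ.toMonoidHom) ρ.injective ?_
          rw [hρres, Cfsg.Lib.Known.sl2_commutator_eq_top F (by omega), map_top_of_surjective _ ρ.surjective]
        have hRL : d.resOf A₀ = L := by
          rw [← hres, htop, ← MonoidHom.range_eq_map, range_subtype]
        obtain ⟨e, he, hea⟩ := (E_image h hA hX hnc pc).ge (hRL.ge (hAL ha))
        obtain ⟨b, hb, hba⟩ := d.baumann_image.ge (le_sSup hA ha)
        have h1 : b⁻¹ * e ∈ cS p G ⊓ pc.H :=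
          ⟨d.prj_eq_one.1 (by rw [map_mul, map_inv, hea, hba, inv_mul_cancel]),
            pc.H.mul_mem (pc.H.inv_mem (pc.hB hb)) (E_le_H h hA hX hnc pc he)⟩
        have heB : e ∈ Cfsg.baumannSubgroupOf p (T : Subgroup G) := by simpa using mul_mem hb (pc.cs h1).2
        have h2 : x * e * x⁻¹ ∈ (T : Subgroup G) ⊓ pc.E :=
          (mem_normalizer_iff.1 hxN e).1 ⟨baumann_le T heB, he⟩
        rw [T_inf_E h hA hX hnc pc] at h2
        have h3' : prj p G x * a * (prj p G x)⁻¹ ∈ L := by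
          rw [← hea, ← map_inv, ← map_mul, ← map_mul]
          exact hRL.le ((E_image h hA hX hnc pc).le (mem_map_of_mem _ h2.2))
        have h4 : prj p G x * a * (prj p G x)⁻¹ ∈ sSup d.glob.inSyl := by
          rw [← hea, ← map_inv, ← map_mul, ← map_mul]
          exact d.baumann_image.le (mem_map_of_mem _ h2.1)
        exact (d.glob.ff.sylow_pair (R := sSup d.glob.inSyl ⊓ L) hA.1 hX.1 hnc
          (((T.mapSurjective (QuotientGroup.mk'_surjective (cS p G))).2.to_le d.glob.sup_le).to_le inf_le_left)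
          (le_inf (le_sSup hA) hAL) inf_le_right).le ⟨h4, h3'⟩
  -- the two smallest fields
  have hpn : p ^ n = 2 ∨ p ^ n = 3 := by
    have : 2 ≤ p ^ n := hn ▸ hq1
    omega
  have hcards : ∀ {q : ℕ}, p ^ n = q → q.Prime → p = q := fun {q} hq hqp =>
    (Nat.prime_dvd_prime_iff_eq hp.out hqp).1 (hq ▸ dvd_pow_self p (by omega))
  -- the residual as a subgroup of `SL₂`
  let ι : ↥(d.resOf A₀) →* SL(2, F) := ρ.toMonoidHom.comp (Subgroup.inclusion hRle)
  have hι : Function.Injective ι := ρ.injective.comp (Subgroup.inclusion_injective _)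
  have hιr : ι.range = commutator SL(2, F) := by
    have hin : (Subgroup.inclusion hRle).range = (d.resOf A₀).subgroupOf L := by
      ext y
      exact ⟨fun ⟨z, hz⟩ => hz ▸ z.2, fun hy => ⟨⟨y, hy⟩, rfl⟩⟩
    rw [← hρres, MonoidHom.range_comp, hin, ← hres, subgroupOf,
      comap_map_eq_self_of_injective L.subtype_injective]
  let κ : ↥pc.E ⧸ Cfsg.pCore p ↥pc.E ≃* ↥(commutator SL(2, F)) :=
    ε.trans ((MonoidHom.ofInjective hι).trans (MulEquiv.subgroupCongr hιr))
  have hmem : ∀ x : ↥pc.E, prj p G x ∈ L := fun x =>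
    hRle ((E_image h hA hX hnc pc).le (mem_map_of_mem _ x.2))
  have hκ : ∀ x : ↥pc.E, ((κ (QuotientGroup.mk' _ x) : ↥(commutator SL(2, F))) : SL(2, F)) =
      ρ ⟨prj p G x, hmem x⟩ := fun x => congrArg ρ (Subtype.ext (hε x))
  have hm8 : Nat.card ↥(commutator SL(2, F)) ∣ Nat.card SL(2, F) := card_subgroup_dvd_card _
  have hnorm : ∀ x : ↥pc.E, FFSLTwo.cj (prj p G x) A₀ = A₀ ↔
      ∀ a (ha : a ∈ A₀), ∃ a' , ∃ ha' : a' ∈ A₀, ρ ⟨prj p G x, hmem x⟩ * ρ ⟨a, hAL ha⟩ * (ρ ⟨prj p G x, hmem x⟩)⁻¹ =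
        ρ ⟨a', hAL ha'⟩ := by
    intro x
    constructor
    · intro hx a ha
      refine ⟨_, conj_eq_self hx ha, ?_⟩
      rw [← map_inv, ← map_mul, ← map_mul]; rfl
    · intro hx
      refine eq_of_le_of_card_ge ?_ (card_cj _ _).ge
      rintro _ ⟨a, ha, rfl⟩
      obtain ⟨a', ha', he⟩ := hx a ha
      rw [← map_inv, ← map_mul, ← map_mul] at he
      show prj p G x * a * (prj p G x)⁻¹ ∈ A₀
      have e' : prj p G x * a * (prj p G x)⁻¹ = a' := congrArg Subtype.val (ρ.injective he)
      rw [e']; exact ha'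
  obtain ⟨a₁, ha₁, ha₁1⟩ := d.ff.exists_ne_one hA.1
  set α := ρ ⟨a₁, hAL ha₁⟩ with hα
  have hα1 : α ≠ 1 := fun he => ha₁1 (congrArg Subtype.val (ρ.injective (he.trans (map_one ρ).symm)))
  have hαp : α ^ p = 1 := by
    rw [hα, ← map_pow, show (⟨a₁, hAL ha₁⟩ : ↥L) ^ p = 1 from Subtype.ext ((d.ff.el hA.1).2 a₁ ha₁), map_one]
  have hAgen : ∀ a ∈ A₀, ∃ i : ℕ, i < p ∧ a = a₁ ^ i := by
    intro a ha
    have hc : Nat.card A₀ = p := by
      rw [d.ff.card hA.1, hn]
      rcases hpn with hq | hq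
      · exact hq.trans (hcards hq Nat.prime_two).symm
      · exact hq.trans (hcards hq Nat.prime_three).symm
    have ho : orderOf a₁ = p := orderOf_eq_prime ((d.ff.el hA.1).2 a₁ ha₁) ha₁1
    have hz : zpowers a₁ = A₀ := Subgroup.eq_of_le_of_card_ge (zpowers_le.2 ha₁) (by rw [Nat.card_zpowers, ho, hc])
    rw [← hz, mem_zpowers_iff_mem_range_orderOf, Finset.mem_image] at ha
    obtain ⟨i, hi, rfl⟩ := ha
    exact ⟨i, ho ▸ Finset.mem_range.1 hi, rfl⟩
  rcases hpn with hq | hq
  · -- two elements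
    have hp2 := hcards hq Nat.prime_two
    let θ := slEquiv (FiniteField.ringEquivOfCardEq (K := F) (K' := ZMod 2) (by rw [hFn, hq, ZMod.card]))
    have hc3 : Nat.card ↥(commutator SL(2, F)) = 3 := by
      have h6 : Nat.card SL(2, F) = 6 := by
        rw [Cfsg.Lib.Classical.SLTwoTori.card_SL2, hFn, hq]; norm_num
      haveI := nontrivial_commutator hFn
      haveI : IsSimpleGroup ↥(commutator SL(2, F)) := (Cfsg.Lib.BlockPair.small_sl2 (p := p) hFn).1 hp2
      have hne6 : Nat.card ↥(commutator SL(2, F)) ≠ 6 := fun e6 => by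
        haveI : Group.IsSolvable SL(2, F) :=
          Cfsg.Lib.Presentations.isSolvable_of_card_lt_sixty _ _ rfl (by rw [h6]; norm_num)
        haveI : Nontrivial SL(2, F) := Finite.one_lt_card_iff_nontrivial.1 (by rw [h6]; norm_num)
        exact (Group.IsSolvable.commutator_lt_top_of_nontrivial SL(2, F)).ne
          (eq_top_of_card_eq _ (e6.trans h6.symm))
      have hne2 : Nat.card ↥(commutator SL(2, F)) ≠ 2 := fun e2 => by
        obtain ⟨c, hc⟩ := exists_ne (1 : ↥(commutator SL(2, F)))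
        have hR : Cfsg.pResidual p SL(2, F) = commutator SL(2, F) := Cfsg.Lib.PushBlocks.res_SL hn1 hFn
        refine hc (Subtype.ext ?_)
        have hbot : commutator SL(2, F) ≤ ⊥ := by
          conv_lhs => rw [← hR]
          refine (closure_le _).2 fun g hg => mem_bot.2 ?_
          have hgC : g ∈ commutator SL(2, F) := hR.le (subset_closure hg)
          have hg2 : g ^ 2 = 1 := by
            have h := congrArg Subtype.val (pow_card_eq_one' (x := (⟨g, hgC⟩ : ↥(commutator SL(2, F)))))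
            rw [e2] at h
            exact h
          exact orderOf_eq_one_iff.1 (Nat.eq_one_of_dvd_coprimes hg (dvd_refl _) (hp2 ▸ orderOf_dvd_of_pow_eq_one hg2))
        exact mem_bot.1 (hbot c.2)
      have h1 := Finite.one_lt_card (α := ↥(commutator SL(2, F)))
      have hd6 := hm8
      rw [h6] at hd6
      have hle6 := Nat.le_of_dvd (by norm_num) hd6
      interval_cases hcard : Nat.card ↥(commutator SL(2, F)) <;> first | rfl | omega
    refine Or.inr (Or.inl ⟨hp2, 1, ?_, ?_⟩)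
    · haveI := Fact.mk Nat.prime_three
      refine ⟨κ.trans (mulEquivOfPrimeCardEq hc3 ?_)⟩
      rw [nat_card_alternatingGroup, Nat.card_fin]; rfl
    · have hbot : ((Cfsg.cStarOf p (T : Subgroup G) ⊓ pc.E).subgroupOf pc.E).map
          (QuotientGroup.mk' (Cfsg.pCore p ↥pc.E)) = ⊥ := by
        refine (eq_bot_iff_forall _).2 ?_
        rintro _ ⟨x, hx, rfl⟩
        refine κ.injective (Subtype.ext ?_)
        rw [map_one, hκ, Subgroup.coe_one]
        set m := ρ ⟨prj p G x, hmem x⟩ with hm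
        have hm3 : m ^ 3 = 1 := by
          have h := congrArg Subtype.val (pow_card_eq_one' (x := κ (QuotientGroup.mk' _ x)))
          rw [hc3, Subgroup.coe_pow, hκ, ← hm] at h
          exact h
        obtain ⟨a', ha', he⟩ := (hnorm x).1 ((hC x).1 hx) a₁ ha₁
        obtain ⟨i, hi, rfl⟩ := hAgen a' ha'
        rw [hp2] at hi hαp
        have hfix : m * α * m⁻¹ = α := by
          rw [hα, hm, he]
          interval_cases i
          · exfalso
            refine hα1 ?_
            have he1 : m * α * m⁻¹ = 1 := by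
              rw [hm, hα, he, show (⟨a₁ ^ 0, hAL ha'⟩ : ↥L) = 1 from Subtype.ext (pow_zero _), map_one]
            rwa [mul_inv_eq_one, mul_eq_left] at he1
          · exact congrArg ρ (Subtype.ext (pow_one _))
        refine θ.injective ?_
        rw [map_one]
        exact sl_two_fixed (θ α) (θ m) (by rw [← map_mul, ← pow_two, hαp, map_one])
          (fun e => hα1 (θ.injective (e.trans (map_one θ).symm)))
          (by rw [← map_mul, ← map_mul, show m * m * m = m ^ 3 from (pow_three' m).symm, hm3, map_one])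
          (by rw [← map_inv, ← map_mul, ← map_mul, hfix])
      rw [hbot]
      haveI : Subsingleton ↥(alternatingGroup (Fin (2 * 1))) := by
        refine (Nat.card_eq_one_iff_unique.1 ?_).1
        rw [nat_card_alternatingGroup, Nat.card_fin]; rfl
      exact ⟨{ toFun := fun _ => 1, invFun := fun _ => 1
               left_inv := fun _ => Subsingleton.elim _ _
               right_inv := fun _ => Subsingleton.elim _ _
               map_mul' := fun _ _ => (one_mul _).symm }⟩
  · -- three elements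
    have hp3 := hcards hq Nat.prime_three
    let σ := slEquiv (FiniteField.ringEquivOfCardEq (K := F) (K' := ZMod 3) (by rw [hFn, hq, ZMod.card]))
    let θ : SL(2, F) ≃* SL(2, ZMod 3) := σ
    have hθc : (commutator SL(2, F)).map θ.toMonoidHom = commutator SL(2, ZMod 3) := by
      rw [_root_.commutator_def, _root_.commutator_def, map_commutator, map_top_of_surjective θ.toMonoidHom θ.surjective]
    refine Or.inr (Or.inr ⟨hp3, ⟨κ.trans ((equivMapOfInjective _ θ.toMonoidHom θ.injective).trans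
      (MulEquiv.subgroupCongr hθc))⟩, ?_⟩)
    have hc8 : Nat.card ↥(commutator SL(2, F)) = 8 := by
      rw [← Nat.card_congr ((equivMapOfInjective (commutator SL(2, F)) θ.toMonoidHom θ.injective).toEquiv.symm),
        hθc]
      exact Cfsg.Agent.S2427.result.2.2.1
    have hfour : ∀ y : ↥(commutator SL(2, F)), θ y * θ y * (θ y * θ y) = 1 := by
      intro y
      have h8 : (θ y) ^ 8 = 1 := by
        have h := congrArg Subtype.val (pow_card_eq_one' (x := y))
        rw [hc8, Subgroup.coe_pow, Subgroup.coe_one] at h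
        rw [← map_pow, h, map_one]
      revert h8
      generalize θ (y : SL(2, F)) = z
      revert z
      decide +kernel
    have hone : ∀ y : SL(2, ZMod 3), y * y * (y * y) = 1 → θ.symm y ∈ commutator SL(2, F) := by
      intro y hy
      refine (Cfsg.Lib.PushBlocks.res_SL hn1 hFn).le (subset_closure ?_)
      show (orderOf (θ.symm y)).Coprime p
      rw [hp3]
      refine Nat.Coprime.coprime_dvd_left (orderOf_dvd_of_pow_eq_one (n := 4) ?_) (by norm_num)
      rw [← map_pow, show y ^ 4 = y * y * (y * y) by rw [← pow_two, ← pow_two, ← pow_mul], hy, map_one]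
    apply le_antisymm
    · rintro _ ⟨x, hx, rfl⟩
      obtain ⟨a', ha', he⟩ := (hnorm x).1 ((hC x).1 hx) a₁ ha₁
      obtain ⟨i, hi, rfl⟩ := hAgen a' ha'
      rw [hp3] at hi hαp
      set m := ρ ⟨prj p G x, hmem x⟩ with hm
      rw [← hα] at he
      have he' : m * α * m⁻¹ = α ^ i := by rw [he, hα, ← map_pow]; rfl
      have hcase : m * α * m⁻¹ = α ∨ m * α * m⁻¹ = α * α := by
        interval_cases i
        · exfalso; apply hα1; rw [pow_zero, mul_inv_eq_one, mul_eq_left] at he'; exact he'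
        · exact Or.inl (by rwa [pow_one] at he')
        · exact Or.inr (by rwa [pow_two] at he')
      have hm4 : θ m * θ m * (θ m * θ m) = 1 := by rw [hm, ← hκ]; exact hfour _
      have hm1 := sl_three_normalizing (θ α) (θ m)
        (by rw [← map_mul, ← map_mul, show α * α * α = α ^ 3 from (pow_three' α).symm, hαp, map_one])
        (fun e => hα1 (θ.injective (e.trans (map_one θ).symm))) hm4
        (hcase.imp (fun e => by simpa only [map_mul, map_inv] using congrArg θ e)
          (fun e => by simpa only [map_mul, map_inv] using congrArg θ e))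
      refine mem_center_iff.2 fun z => κ.injective (Subtype.ext (θ.injective ?_))
      rw [map_mul κ, map_mul κ, Subgroup.coe_mul, Subgroup.coe_mul, map_mul θ, map_mul θ, hκ, ← hm]
      rcases hm1 with e | e <;> rw [e]
      · rw [mul_one, one_mul]
      · rw [mul_neg_one, neg_one_mul]
    · intro z hz
      obtain ⟨x, rfl⟩ := QuotientGroup.mk'_surjective _ z
      refine mem_map_of_mem _ ((hC x).2 ((hnorm x).2 fun a ha => ⟨a, ha, ?_⟩))
      set m := ρ ⟨prj p G x, hmem x⟩ with hm
      have hm4 : θ m * θ m * (θ m * θ m) = 1 := by rw [hm, ← hκ]; exact hfour _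
      have hm1 := sl_three_central (θ m) hm4 fun y hy => by
        have h1 := mem_center_iff.1 hz (κ.symm ⟨θ.symm y, hone y hy⟩)
        have h2 := congrArg (fun w => θ ((κ w : ↥(commutator SL(2, F))) : SL(2, F))) h1
        simp only [map_mul, Subgroup.coe_mul, MulEquiv.apply_symm_apply, hκ, ← hm] at h2
        exact h2.symm
      apply θ.injective
      rw [map_mul, map_mul, map_inv]
      rcases hm1 with e | e <;> rw [e]
      · rw [one_mul, inv_one, mul_one]
      · rw [neg_one_mul, inv_neg_one, neg_mul, mul_neg_one, neg_neg]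

end Env

end Cfsg.Lib.PushMin
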