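import Cfsg.Agent.PushUpBlocks.Assemble

/-!
Pushing up in a minimal parabolic group: the case in which every class has one inner member.
-/

set_option autoImplicit false
set_option linter.unusedSectionVars false
set_option linter.style.haveILetI false

namespace Cfsg.Lib.PushMin

open Subgroup Cfsg.Lib.FFSLTwo Cfsg.Lib.FFModule
open scoped commutatorElement

universe u

variable {G : Type u} [Group G] {p : ℕ} [Finite G] [hp : Fact p.Prime]

namespace Env

variable {T : Sylow p G} {W : Type u} [AddCommGroup W] [Finite W] {d : Env T W}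
variable {A₀ X₀ : Subgroup (G ⧸ cS p G)}

/-- outer members of different inner members commute -/
def OneInner (d : Env T W) : Prop :=
  ∀ ⦃A A' x y : Subgroup (G ⧸ cS p G)⦄, A ∈ d.glob.inSyl → A' ∈ d.glob.inSyl → x ∈ d.glob.outer →
    y ∈ d.glob.outer → ¬ Comm A x → ¬ Comm A' y → ¬ Comm x y → A = A'

theorem oneInner_of_lt (d : Env T W) (hq : 2 < d.q) : d.OneInner := fun _ _ _ _ hA hA' hx hy h1 h2 h3 =>
  d.glob.class_eq hq hA hA' hx hy h1 h2 h3

theorem resOf_comm (h : Hyps T) (hA : A₀ ∈ d.glob.inSyl) (hX : X₀ ∈ d.glob.outer) (hnc : ¬ Comm A₀ X₀)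
    (pc : d.Piece A₀ X₀) (hone : d.OneInner) {A A' : Subgroup (G ⧸ cS p G)} (hA1 : A ∈ d.glob.inSyl)
    (hA2 : A' ∈ d.glob.inSyl) (hne : A ≠ A') : Comm (d.glob.pair A) (d.resOf A') := by
  obtain ⟨X, hX1, hnc1⟩ := d.glob.exists_outer_nc hA1.1
  obtain ⟨Y, hY1, hnc2⟩ := d.glob.exists_outer_nc hA2.1
  have hpair : Comm (A ⊔ X) (A' ⊔ Y) := by
    have hXY : Comm X Y := by_contra fun hc => hne (hone hA1 hA2 hX1 hY1 hnc1 hnc2 hc)
    have h1 : Comm A (A' ⊔ Y) :=
      Cfsg.Lib.FFModule.comm_sup (d.glob.inSyl_comm hA1 hA2) (d.glob.other_comm hA2 hA1 hY1 hnc2 hne)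
    have h2 : Comm X (A' ⊔ Y) :=
      Cfsg.Lib.FFModule.comm_sup (d.glob.other_comm hA1 hA2 hX1 hnc1 hne.symm).symm hXY
    exact (Cfsg.Lib.FFModule.comm_sup h1.symm h2.symm).symm
  rw [d.glob.pair_eq hA1 hX1 hnc1]
  exact fun a ha b hb => hpair a ha b ((d.glob.pair_eq hA2 hY1 hnc2).le (resOf_le_pair h hA hX hnc pc hA2 hb))

/-- conjugates of the piece are pieces -/
theorem conjs_cases (h : Hyps T) (hA : A₀ ∈ d.glob.inSyl) (hX : X₀ ∈ d.glob.outer) (hnc : ¬ Comm A₀ X₀)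
    (pc : d.Piece A₀ X₀) {E : Subgroup G} (hE : E ∈ pc.conjs) :
    ∃ A X, A ∈ d.glob.inSyl ∧ X ∈ d.glob.outer ∧ ¬ Comm A X ∧ ∃ pc' : d.Piece A X, pc'.E = E := by
  obtain ⟨t, ht, rfl⟩ := hE
  have htT : prj p G t ∈ ((T.mapSurjective (QuotientGroup.mk'_surjective (cS p G)) : Sylow p _) : Subgroup _) := by
    rw [Sylow.coe_mapSurjective]; exact mem_map_of_mem _ ht
  exact ⟨_, _, d.glob.cj_inSyl htT hA, d.glob.cj_outer (d.glob.hTM htT) hX,
    fun hc => hnc ((comm_cj_iff _).1 hc), pc.conj t ht, rfl⟩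

theorem linear (h : Hyps T) (hA : A₀ ∈ d.glob.inSyl) (hX : X₀ ∈ d.glob.outer) (hnc : ¬ Comm A₀ X₀)
    (pc : d.Piece A₀ X₀) (hone : d.OneInner) : Result T pc.conjs := by
  classical
  have hcom : ∀ {A A'}, A ∈ d.glob.inSyl → A' ∈ d.glob.inSyl → A ≠ A' →
      d.resOf A' ≤ centralizer (d.glob.pair A : Set (G ⧸ cS p G)) := fun hA1 hA2 hne b hb =>
    mem_centralizer_iff.2 fun a ha => resOf_comm h hA hX hnc pc hone hA1 hA2 hne a ha b hb
  -- the members are subnormal
  have hgn := gens_normal h hA hX hnc pc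
  have hsub : ∀ E ∈ pc.conjs, E.IsSubnormal := by
    intro E hE
    obtain ⟨A, hA1, hAE⟩ := conj_image h hA hX hnc pc hE
    set K := pc.gens ⊔ cS p G
    set F := E ⊔ cS p G
    have hFK : F ≤ K := sup_le_sup_right (le_sSup hE) _
    have hKn : K.Normal := Subgroup.sup_normal _ _
    have hgE : pc.gens.map (prj p G) ≤ normalizer ((E.map (prj p G) : Subgroup _) : Set (G ⧸ cS p G)) := by
      rw [Piece.gens, map_le_iff_le_comap]
      refine _root_.sSup_le fun E' hE' => map_le_iff_le_comap.1 ?_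
      obtain ⟨A', hA', hAE'⟩ := conj_image h hA hX hnc pc hE'
      rw [hAE, hAE']
      by_cases he : A = A'
      · exact he ▸ Subgroup.le_normalizer
      · exact (hcom hA1 hA' he).trans ((centralizer_le (resOf_le_pair h hA hX hnc pc hA1)).trans
          (centralizer_le_normalizer _))
    have hFeq : F = (E.map (prj p G)).comap (prj p G) := by
      rw [comap_map_eq, QuotientGroup.ker_mk']
    have hKF : K ≤ normalizer (F : Set G) := by
      refine _root_.sup_le ?_ (le_sup_right.trans Subgroup.le_normalizer)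
      rw [hFeq]
      exact (map_le_iff_le_comap.1 hgE).trans (le_normalizer_comap _)
    refine IsSubnormal.step E F le_sup_left
      (IsSubnormal.step F K hFK hKn.isSubnormal (normal_subgroupOf_of_le_normalizer hKF))
      (normal_subgroupOf_of_le_normalizer (_root_.sup_le Subgroup.le_normalizer (cS_normalizes h hA hX hnc pc hE)))
  have hblk : ∀ E ∈ pc.conjs, Cfsg.IsBaumannBlock p (T : Subgroup G) E := fun E hE => isBlock_conj h hA hX hnc pc hE
  have hone_each : ∀ E ∈ pc.conjs, ∀ E' ∈ pc.conjs, E ≠ E' → E.map (prj p G) ≠ E'.map (prj p G) :=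
    fun E hE E' hE' hne => image_ne_of_commute h hA hX hnc pc hE
      ((Cfsg.Lib.BlockPair.pair h.cp ⟨T, hblk E hE⟩ (hsub E hE) ⟨T, hblk E' hE'⟩ (hsub E' hE')).resolve_left hne)
  refine assemble h hA hX hnc pc hblk hsub rfl (fun E hE t ht => conj_gens h hA hX hnc pc ht hE) ?_ ?_ ?_
  · intro E hE f hf y hy hfy
    obtain ⟨A, X, hA1, hX1, hnc1, pc', rfl⟩ := conjs_cases h hA hX hnc pc hE
    have hyc : prj p G y ∈ centralizer (d.glob.pair A : Set (G ⧸ cS p G)) := by
      suffices hle : sSup {E' | E' ∈ pc.conjs ∧ E' ≠ pc'.E} ≤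
          (centralizer (d.glob.pair A : Set (G ⧸ cS p G))).comap (prj p G) from hle hy
      refine _root_.sSup_le fun E' hE' => map_le_iff_le_comap.1 ?_
      obtain ⟨A', hA', hAE'⟩ := conj_image h hA hX hnc pc hE'.1
      rw [hAE']
      refine hcom hA1 hA' fun he => hone_each E' hE'.1 pc'.E hE hE'.2 ?_
      rw [hAE', E_image h hA1 hX1 hnc1 pc', he]
    refine ((cStar_inf h hA1 hX1 hnc1 pc').ge ⟨hf, ?_⟩).1
    show prj p G f ∈ normalizer (A : Set (G ⧸ cS p G))
    rw [mem_normalizer_iff_map_conj_eq]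
    by_contra hne
    have hfL : prj p G f ∈ A ⊔ X := by
      rw [← d.glob.pair_eq hA1 hX1 hnc1]
      exact resOf_le_pair h hA1 hX1 hnc1 pc' hA1 ((E_image h hA1 hX1 hnc1 pc').le (mem_map_of_mem _ hf))
    have hL := d.ff.sup_cj hA1.1 hX1.1 hnc1 hfL hne
    refine hX1.2 (le_sup_right.trans (hL.ge.trans (_root_.sup_le (d.glob.inSyl_le hA1) ?_)))
    rintro _ ⟨a, ha, rfl⟩
    have hxM : prj p G (f * y) ∈ d.M.map (prj p G) := mem_map_of_mem _ (cStar_le_M d h hfy)
    have hya : prj p G y * a * (prj p G y)⁻¹ = a := by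
      have haP : a ∈ d.glob.pair A := (d.glob.pair_eq hA1 hX1 hnc1).ge (mem_sup_left ha)
      rw [← mem_centralizer_iff.1 hyc a haP, mul_inv_cancel_right]
    show prj p G f * a * (prj p G f)⁻¹ ∈ d.M.map (prj p G)
    have h1 : prj p G (f * y) * a * (prj p G (f * y))⁻¹ = prj p G f * a * (prj p G f)⁻¹ := by
      rw [map_mul]
      calc prj p G f * prj p G y * a * (prj p G f * prj p G y)⁻¹
          = prj p G f * (prj p G y * a * (prj p G y)⁻¹) * (prj p G f)⁻¹ := by group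
        _ = _ := by rw [hya]
    rw [← h1]
    exact mul_mem (mul_mem hxM (d.glob.inSyl_le hA1 ha)) (inv_mem hxM)
  · intro E hE
    obtain ⟨A, X, hA1, hX1, hnc1, pc', rfl⟩ := conjs_cases h hA hX hnc pc hE
    exact kind h hA1 hX1 hnc1 pc'
  · intro E hE m hm
    obtain ⟨A, X, hA1, hX1, hnc1, pc', rfl⟩ := conjs_cases h hA hX hnc pc hE
    obtain ⟨-, -, -, F, iF, iFt, n, hF, ⟨e⟩, -⟩ := pc'.shape
    obtain ⟨e'⟩ := hm
    rcases alt_degree hF (e.symm.trans e') with rfl | rfl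
    · exact ⟨1, rfl⟩
    · exact ⟨2, rfl⟩

end Env

end Cfsg.Lib.PushMin
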