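import Cfsg.Agent.PLocal.FFModule.Lift

/-!
Members inside a Sylow subgroup: what centralizes all their images lies in their product; Sylow subgroups of a pair.
-/

set_option autoImplicit false
set_option linter.unusedSectionVars false
set_option linter.style.haveILetI false

namespace Cfsg.Lib.FFModule

open Subgroup Cfsg.Lib.FFSLTwo

variable {P : Type*} [Group P] [Finite P] {V : Type*} [AddCommGroup V] [Finite V]
variable {p : ℕ} [Fact p.Prime] {φ : P →* AddMonoid.End V} {q : ℕ}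

/-- a conjugate other than `A` spans the pair with it -/
theorem FF.sup_cj {𝓜 : Subgroup P → Prop} (ff : FF p φ q 𝓜) {A B : Subgroup P} (hA : 𝓜 A) (hB : 𝓜 B)
    (hnc : ¬ Comm A B) {g : P} (hg : g ∈ A ⊔ B) (hne : FFSLTwo.cj g A ≠ A) :
    A ⊔ FFSLTwo.cj g A = A ⊔ B :=
  ff.line_sup hA hB hnc (isLine_left hA) (ff.line_cj_left hA hg) hne.symm

/-- a member is a Sylow subgroup of a pair containing it -/
theorem FF.sylow_pair {𝓜 : Subgroup P → Prop} (ff : FF p φ q 𝓜) {A B R : Subgroup P} (hA : 𝓜 A) (hB : 𝓜 B)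
    (hnc : ¬ Comm A B) (hR : IsPGroup p R) (hAR : A ≤ R) (hRL : R ≤ A ⊔ B) : R = A := by
  obtain ⟨F, _, _, ρ, Ψ, hF, -⟩ := ff.natural hA hB hnc
  refine (eq_of_le_of_card_ge hAR ?_).symm
  rw [ff.card hA]
  obtain ⟨m, hm⟩ := IsPGroup.iff_card.1 hR
  have h1 : Nat.card R ∣ Nat.card ↥(A ⊔ B) := card_dvd_of_le hRL
  rw [Nat.card_congr ρ.toEquiv, card_sl_two, hF, hm] at h1
  have hco : (p ^ m).Coprime (q ^ 2 - 1) := by
    refine Nat.Coprime.pow_left m (((Fact.out : p.Prime).coprime_iff_not_dvd).2 fun hd => ?_)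
    obtain ⟨n, hn⟩ := IsPGroup.iff_card.1 (isPGroup_el (ff.el hA))
    rw [ff.card hA] at hn
    have hq1 := ff.one_lt
    have hpq : p ∣ q := hn ▸ dvd_pow_self p fun h0 => by rw [h0, pow_zero] at hn; omega
    have h2 : p ∣ q ^ 2 - (q ^ 2 - 1) := Nat.dvd_sub (dvd_pow hpq two_ne_zero) hd
    rw [Nat.sub_sub_self (Nat.one_le_pow _ _ (by omega))] at h2
    exact (Fact.out : p.Prime).one_lt.ne' (Nat.dvd_one.1 h2)
  rw [hm]
  exact Nat.le_of_dvd (by have := ff.one_lt; omega) (hco.dvd_of_dvd_mul_right h1)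

namespace Glob

variable {T : Sylow p P} {M : Subgroup P} (g : Glob p φ q T M)
include g

theorem inner_abelian : Comm (sSup g.inSyl) (sSup g.inSyl) :=
  comm_sSup fun _ hx _ hy => g.inSyl_comm hx hy

/-- the other inner members centralize a pair -/
theorem rest_comm {A B : Subgroup P} (hA : A ∈ g.inSyl) (hB : B ∈ g.outer) (hAB : ¬ Comm A B) :
    Comm (sSup {X ∈ g.inSyl | X ≠ A}) (A ⊔ B) := by
  refine Cfsg.Lib.FFModule.comm_sup ?_ ?_
  · exact fun a ha b hb =>
      g.inner_abelian a (sSup_le_sSup (fun X (hX : X ∈ {X ∈ g.inSyl | X ≠ A}) => hX.1) ha) b (le_sSup hA hb)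
  · intro a ha b hb
    have h1 : sSup {X ∈ g.inSyl | X ≠ A} ≤ Subgroup.centralizer (B : Set P) :=
      _root_.sSup_le fun X hX x hx => mem_centralizer_iff.2 fun y hy =>
        (g.other_comm hA hX.1 hB hAB hX.2 x hx y hy).symm
    exact (mem_centralizer_iff.1 (h1 ha) b hb).symm

theorem inner_normalizes {A B : Subgroup P} (hA : A ∈ g.inSyl) (hB : B ∈ g.outer) (hAB : ¬ Comm A B) :
    sSup g.inSyl ≤ Subgroup.normalizer ((A ⊔ B : Subgroup P) : Set P) := by
  refine _root_.sSup_le fun X hX => ?_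
  by_cases hne : X = A
  · exact hne ▸ le_sup_left.trans Subgroup.le_normalizer
  · refine le_trans (fun x hx => mem_centralizer_iff.2 fun y hy => ?_) (centralizer_le_normalizer _)
    exact (g.rest_comm hA hB hAB x (le_sSup (show X ∈ {X ∈ g.inSyl | X ≠ A} from ⟨hX, hne⟩) hx) y hy).symm

/-- the inner product is a Sylow subgroup of a pair extended by it -/
theorem sylow_pair_sup {A B R : Subgroup P} (hA : A ∈ g.inSyl) (hB : B ∈ g.outer) (hAB : ¬ Comm A B)
    (hR : IsPGroup p R) (hWR : sSup g.inSyl ≤ R) (hRL : R ≤ (A ⊔ B) ⊔ sSup g.inSyl) :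
    R = sSup g.inSyl := by
  refine le_antisymm (fun r hr => ?_) hWR
  have h := hRL hr
  rw [← SetLike.mem_coe, coe_mul_of_right_le_normalizer_left _ _ (g.inner_normalizes hA hB hAB)] at h
  obtain ⟨l, hl, w, hw, rfl⟩ := h
  have hlR : l ∈ R := by simpa using R.mul_mem hr (R.inv_mem (hWR hw))
  have h1 := g.ff.sylow_pair (R := R ⊓ (A ⊔ B)) hA.1 hB.1 hAB (hR.to_le inf_le_left)
    (le_inf ((le_sSup hA).trans hWR) le_sup_left) inf_le_right
  exact mul_mem ((le_sSup hA) (h1 ▸ (⟨hlR, hl⟩ : l ∈ R ⊓ (A ⊔ B)))) hw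

/-- an element of the Sylow subgroup fixing all images of the inner members is in their product -/
theorem inner_mem {t : P} (ht : t ∈ (T : Subgroup P))
    (hfix : ∀ A ∈ g.inSyl, ∀ a ∈ A, ∀ v, φ t (dd φ a v) = dd φ a v) : t ∈ sSup g.inSyl := by
  classical
  have ff := g.ff
  -- `t` normalises the inner members
  have hnorm : ∀ A ∈ g.inSyl, FFSLTwo.cj t A = A := by
    intro A hA
    by_contra hne
    obtain ⟨B, hB, hAB⟩ := g.exists_outer_nc hA.1
    obtain ⟨a, ha, ha1⟩ := ff.exists_ne_one hA.1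
    obtain ⟨v, hv⟩ := ff.exists_ne_zero hA.1 ha ha1
    have hA' := g.cj_inSyl ht hA
    have h1 := (ff.comm_mem hA'.1 hB.1 (g.other_comm hA hA' hB hAB hne) (conj_mem_cj ha) (φ t v)).2
    rw [dd_cj, phi_inv_cancel, hfix A hA a ha v] at h1
    exact hv (ff.nc_zero hA.1 hB.1 hAB ha h1)
  have houter : ∀ A : g.inSyl, ∃ B ∈ g.outer, ¬ Comm (A : Subgroup P) B := fun A => g.exists_outer_nc A.2.1
  choose B hBo hB using houter
  haveI : Fintype g.inSyl := Fintype.ofFinite _
  -- correct by inner elements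
  have hind : ∀ s : Finset g.inSyl, ∃ w ∈ sSup g.inSyl, ∀ A ∈ s, FFSLTwo.cj (w * t) (B A) = B A := by
    intro s
    induction s using Finset.induction_on with
    | empty => exact ⟨1, one_mem _, fun A hA => absurd hA (Finset.notMem_empty A)⟩
    | @insert A s hAs ih =>
      obtain ⟨w, hw, hws⟩ := ih
      have hwA : FFSLTwo.cj (w * t) (A : Subgroup P) = A := by
        rw [← cj_mul, hnorm A A.2]
        refine eq_of_le_of_card_ge ?_ (card_cj _ _).ge
        rintro _ ⟨a, ha, rfl⟩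
        show w * a * w⁻¹ ∈ (A : Subgroup P)
        rw [g.inner_abelian w hw a (le_sSup A.2 ha), mul_inv_cancel_right]
        exact ha
      have hX : FFSLTwo.cj (w * t) (B A) ∈ g.outer :=
        g.cj_outer (M.mul_mem (g.hTM (g.sup_le hw)) (g.hTM ht)) (hBo A)
      have hnc : ¬ Comm (A : Subgroup P) (FFSLTwo.cj (w * t) (B A)) := by
        conv in Comm _ _ => rw [← hwA]
        rw [comm_cj_iff]
        exact hB A
      obtain he | ⟨a, ha, he⟩ := ff.line_eq A.2.1 (hBo A).1 (hB A) (g.class_line A.2 (hBo A) hX (hB A) hnc)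
      · exact absurd (he ▸ g.inSyl_le A.2) hX.2
      refine ⟨a⁻¹ * w, mul_mem (inv_mem (le_sSup A.2 ha)) hw, fun A' hA' => ?_⟩
      rw [mul_assoc, ← cj_mul]
      rcases Finset.mem_insert.1 hA' with rfl | hA'
      · rw [he, cj_inv_cj]
      · rw [hws A' hA']
        have hne : (A : Subgroup P) ≠ (A' : Subgroup P) := fun h => hAs ((Subtype.ext h : A = A') ▸ hA')
        have hc : Comm (A : Subgroup P) (B A') := g.other_comm A'.2 A.2 (hBo A') (hB A') hne
        refine eq_of_le_of_card_ge ?_ (card_cj _ _).ge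
        rintro _ ⟨b, hb, rfl⟩
        show a⁻¹ * b * a⁻¹⁻¹ ∈ B A'
        rw [hc _ (inv_mem ha) b hb, mul_inv_cancel_right]
        exact hb
  obtain ⟨w, hw, hws⟩ := hind Finset.univ
  set s := w * t with hs
  have hsT : s ∈ (T : Subgroup P) := mul_mem (g.sup_le hw) ht
  have hsfix : ∀ A ∈ g.inSyl, ∀ a ∈ A, ∀ v, φ s (dd φ a v) = dd φ a v := by
    intro A hA a ha v
    rw [hs, phi_mul, hfix A hA a ha v]
    have h1 : dd φ a v ∈ fixA φ (sSup g.inSyl) :=
      mem_fixA_sSup.2 fun X hX => (ff.comm_mem hA.1 hX.1 (g.inSyl_comm hA hX) ha v).2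
    exact h1 w hw
  have hsA : ∀ A ∈ g.inSyl, FFSLTwo.cj s A = A := by
    intro A hA
    rw [hs, ← cj_mul, hnorm A hA]
    refine eq_of_le_of_card_ge ?_ (card_cj _ _).ge
    rintro _ ⟨a, ha, rfl⟩
    show w * a * w⁻¹ ∈ A
    rw [g.inner_abelian w hw a (le_sSup hA ha), mul_inv_cancel_right]
    exact ha
  -- on each pair the map `s - 1` has values in the common fixed space
  have hK : ∀ (A : g.inSyl) (v : V), dd φ s v ∈ fixA φ (A : Subgroup P) ⊓ fixA φ (B A) := by
    intro A v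
    set K := fixA φ (A : Subgroup P) ⊓ fixA φ (B A) with hKdef
    have hAm := A.2.1
    have hBm := (hBo A).1
    have hne := ff.ne_of_nc hAm (hB A)
    have hsB : FFSLTwo.cj s (B A) = B A := hws A (Finset.mem_univ A)
    have hstA : ∀ x ∈ fixA φ (A : Subgroup P), φ s x ∈ fixA φ (A : Subgroup P) := fun x hx => by
      rw [← hsA A A.2, mem_fixA_cj, phi_inv_cancel]; exact hx
    have hstB : ∀ x ∈ fixA φ (B A), φ s x ∈ fixA φ (B A) := fun x hx => by
      rw [← hsB, mem_fixA_cj, phi_inv_cancel]; exact hx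
    -- `s` centralises `A`
    obtain ⟨u₀, hu₀, hu₀'⟩ := SetLike.not_le_iff_exists.1 (ff.not_fix_le hBm hAm hne.symm)
    let R := Subgroup.zpowers s
    have hR : IsPGroup p R := T.2.to_le (zpowers_le.2 hsT)
    let U : AddSubgroup V := fixA φ (B A)
    obtain ⟨u, hu, hu', hsu⟩ : ∃ u ∈ U, u ∉ fixA φ (A : Subgroup P) ∧ dd φ s u ∈ K := by
      have hst : K ≤ AddSubgroup.comap (φ s : V →+ V) K := fun x hx => ⟨hstA x hx.1, hstB x hx.2⟩
      by_contra hcon
      push Not at hcon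
      have hmem : ∀ x ∈ U, dd φ s x ∈ U := fun x hx => U.sub_mem (hstB x hx) hx
      have hiter : ∀ k : ℕ, ∀ x ∈ U, x ∉ fixA φ (A : Subgroup P) → ((fun y => dd φ s y)^[k]) x ∉
          fixA φ (A : Subgroup P) ∧ ((fun y => dd φ s y)^[k]) x ∈ U := by
        intro k
        induction k with
        | zero => exact fun x hx hx' => ⟨hx', hx⟩
        | succ k ih =>
          intro x hx hx'
          obtain ⟨h1, h2⟩ := ih x hx hx'
          rw [Function.iterate_succ_apply']
          exact ⟨fun h => hcon _ h2 h1 ⟨h, hmem _ h2⟩, hmem _ h2⟩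
      obtain ⟨k, hk⟩ := hR ⟨s, mem_zpowers s⟩
      have hsk : s ^ p ^ k = 1 := congrArg Subtype.val hk
      have hnil : ∀ x, ((fun y => dd φ s y)^[p ^ k]) x = 0 := fun x => by
        have h0 : (dd φ s) ^ p ^ k = (0 : AddMonoid.End V) := by
          have hE : ((p : ℕ) : AddMonoid.End V) = 0 := DFunLike.ext (F := AddMonoid.End V) _ _ fun y => by
            rw [← nsmul_one p]; exact g.hc.char y
          haveI : Nontrivial (AddMonoid.End V) := ⟨0, 1, fun h => by
            have := g.hc.ne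
            obtain ⟨y, hy⟩ := exists_ne (0 : V)
            exact hy (congrArg (fun f : AddMonoid.End V => f y) h).symm⟩
          haveI : CharP (AddMonoid.End V) p :=
            (CharP.charP_iff_prime_eq_zero (Fact.out : p.Prime)).2 hE
          rw [dd, sub_pow_char_pow_of_commute (p := p) k (Commute.one_right _), ← map_pow, hsk, map_one, one_pow,
            sub_self]
        rw [← AddMonoid.End.coe_pow, h0]; rfl
      exact (hiter (p ^ k) u₀ hu₀ hu₀').1 (by rw [hnil]; exact AddSubgroup.zero_mem _)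
    have hcent : ∀ a ∈ (A : Subgroup P), s * a * s⁻¹ = a := by
      intro a ha
      set a' := s * a * s⁻¹
      have ha' : a' ∈ (A : Subgroup P) := conj_eq_self (hsA A A.2) ha
      by_contra hne'
      have h1 : dd φ a' (φ s u) = dd φ a u := by rw [dd_cj, phi_inv_cancel, hsfix A A.2 a ha]
      have h2 : dd φ a' (φ s u) = dd φ a' u := by
        rw [phi_eq_add, map_add, dd_eq_zero.2 (hsu.1 a' ha'), add_zero]
      refine hu' (ff.cap hAm (mul_mem (inv_mem ha') ha)
        (fun h => hne' (inv_mul_eq_one.1 h)) (dd_eq_zero.1 ?_))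
      rw [ff.dd_mul hAm (inv_mem ha') ha, ff.dd_inv hAm ha', ← h2, h1, neg_add_cancel]
    have hSB : ∀ x ∈ fixA φ (B A), dd φ s x ∈ K := by
      intro x hx
      refine ⟨?_, U.sub_mem (hstB x hx) hx⟩
      obtain ⟨a, ha, ha1⟩ := ff.exists_ne_one hAm
      refine ff.cap hAm ha ha1 (dd_eq_zero.1 ?_)
      have h1 : φ s (dd φ a x) = dd φ a (φ s x) := by
        conv_rhs => rw [← hcent a ha, dd_cj, phi_inv_cancel]
      rw [dd_apply s, map_sub, ← h1, hsfix A A.2 a ha, sub_self]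
    have hSA : ∀ x ∈ fixA φ (A : Subgroup P), dd φ s x ∈ K := by
      intro x hx
      obtain ⟨a, ha, hsh⟩ := ff.exists_shift hAm hBm (hB A) hu₀ hu₀' x
      have e : dd φ s x = dd φ s (x - dd φ a u₀) := by
        rw [map_sub, dd_eq_zero.2 (hsfix A A.2 a ha u₀), sub_zero]
      rw [e]
      exact hSB _ hsh
    obtain ⟨x, hx, y, hy, rfl⟩ := ff.split hAm hBm hne v
    rw [map_add]
    exact K.add_mem (hSA x hx) (hSB y hy)
  -- so `s = 1`
  have hs1 : s = 1 := by
    refine g.hc.inj (DFunLike.ext (F := AddMonoid.End V) _ _ fun v => ?_)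
    show φ s v = φ (1 : P) v
    rw [phi_one, ← dd_eq_zero]
    refine g.fix_mall ?_
    rw [mall, mem_fixA_sSup]
    intro m hm
    obtain ⟨x, hx, y, hy, -, hle⟩ := g.exists_pair hm
    have key : ∀ x ∈ g.outer, dd φ s v ∈ fixA φ x := by
      intro x hx
      obtain ⟨A, hA, hAx⟩ := g.exists_nc hx
      exact fixA_anti (ff.line_le hA.1 (hBo ⟨A, hA⟩).1 (hB ⟨A, hA⟩)
        (g.class_line hA (hBo ⟨A, hA⟩) hx (hB ⟨A, hA⟩) hAx)) (mem_fixA_sup (hK ⟨A, hA⟩ v).1 (hK ⟨A, hA⟩ v).2)
    exact fixA_anti hle (mem_fixA_sup (key x hx) (key y hy))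
  rw [hs, ← inv_eq_iff_mul_eq_one] at hs1
  rw [← hs1]
  exact inv_mem hw

end Glob

end Cfsg.Lib.FFModule
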