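import Cfsg.Agent.PushUpBlocks.SingleExceptional

/-!
Pushing up for a rank-one quotient: the residual has the shape of a block.
-/

set_option autoImplicit false
set_option linter.unusedSectionVars false

namespace Cfsg.Lib.PushBlocks

open Subgroup Matrix Cfsg.Lib.BGN Cfsg.Lib.BGN.P
open scoped commutatorElement

universe u

variable {p : ℕ} [hp : Fact p.Prime] {G : Type u} [Group G] [Finite G] {F : Type} [Field F] [Fintype F]

/-- the part of the residual in the module -/
def CoreFacts (d : Sit p G F) : Prop :=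
  Cfsg.omegaOneCenter p (Cfsg.pCoreOf p (res p G)) ≤ d.W ∧
    ⁅d.W, res p G⁆ ≤ Cfsg.omegaOneCenter p (Cfsg.pCoreOf p (res p G)) ∧
    ∀ x ∈ Cfsg.pCore p G, ∀ y ∈ Cfsg.pCoreOf p (res p G), ⁅y, x⁆ ∈ center G

/-- the residual of a pushing-up group has the shape of a block; for the prime two some element of the Sylow subgroup
outside the core has all its commutators with it inside the core of the residual -/
theorem single (d : Sit p G F) (hd : NoChar d.c) :
    LinShape p d.S (res p G) ∧ ∃ ρ : G →* Matrix.SpecialLinearGroup (Fin 2) F, Std d ρ ∧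
      CoreFacts d ∧
      (p = 2 → ∃ x ∈ d.S, x ∉ Cfsg.pCore p G ∧ ∀ s ∈ d.S, ⁅x, s⁆ ∈ Cfsg.pCoreOf p (res p G)) := by
  rcases d.exists_split hd with ⟨A, hA⟩ | ⟨a, y, n, ha, t⟩
  · obtain ⟨fr, ρ, hρ, hn, hfol⟩ := d.exists_rho
    have hs : Std d ρ := Std.of_follows hρ hn (d.out_ker hA hn) hfol
    haveI := d.W_normal
    refine ⟨hs.linear_shape hA hd, ρ, hs, ⟨?_, (by rw [hs.linear_core hA hd, hs.omega_U0]), fun x hx y hy => ?_⟩,
      fun _ => hs.linear_good hA hd⟩
    · rw [hs.linear_core hA hd, hs.omega_U0]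
      exact commutator_le_left _ _
    · rw [hs.linear_core hA hd] at hy
      rw [commutatorElement_eq_one_iff_mul_comm.2
        (mem_centralizer_iff.1 (d.core_le_centralizer hx) y (commutator_le_left _ _ hy))]
      exact one_mem _
  · obtain ⟨e, hsh⟩ := d.exists_dist2 ha t
    obtain ⟨fr, ρ, hρ, hnW, hnM, hfol⟩ := d.exists_rho₂ e
    have hs : Std d ρ := Std.of_follows hρ hnW (d.ker_two e hρ hnW hnM hfol hsh) hfol
    haveI := d.W_normal
    haveI := e.nWB
    have htriv := d.triv₂ e hρ hnW hnM hfol hsh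
    have hp3 := d.eq_three e hρ hnW hnM hfol
    refine ⟨hs.exceptional_shape e hnM htriv hp3 hd hsh, ρ, hs, ⟨?_,
      (by rw [hs.exc_core e hnM htriv hp3 hd, hs.omega_core e hnM htriv hp3 hsh]; exact le_sup_left), fun x hx z hz => ?_⟩,
      fun h => absurd h (d.two_ne_two e)⟩
    · rw [hs.exc_core e hnM htriv hp3 hd, hs.omega_core e hnM htriv hp3 hsh]
      exact _root_.sup_le (commutator_le_left _ _) ((Std.WB'_le_C e).trans inf_le_left)
    · rw [hs.exc_core e hnM htriv hp3 hd] at hz
      exact (mem_inf.1 (Std.WB'_le_C e (Std.WB_comm_Q e (commutator_le_left _ _ hz) hx))).2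

end Cfsg.Lib.PushBlocks
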