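import Cfsg.Agent.PushUpBlocks.Baumann
import Cfsg.Agent.PushUpBlocks.Single
import Cfsg.Agent.PushUpBlocks.Transport
import Cfsg.Agent.Transfer.Control
import Cfsg.Agent.BlockPair.Global

/-!
Pushing up in a minimal parabolic group: one rank-one piece over the Baumann subgroup.
-/

set_option autoImplicit false
set_option linter.unusedSectionVars false
set_option linter.style.haveILetI false

namespace Cfsg.Lib.PushMin

open Subgroup Cfsg.Lib.FFSLTwo Cfsg.Lib.FFModule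
open scoped commutatorElement

universe u

variable {G : Type u} [Group G] {p : ℕ} [Finite G] [hp : Fact p.Prime]

theorem normalizer_le_char {H C : Subgroup G} (hC : C ≤ H) (hch : (C.subgroupOf H).Characteristic) :
    normalizer (H : Set G) ≤ normalizer (C : Set G) := by
  intro g hg
  set e := H.normalizerMonoidHom ⟨g, hg⟩
  have h1 : (C.subgroupOf H).map e.toMonoidHom = C.subgroupOf H := characteristic_iff_map_eq.mp hch e
  have key : C.map (MulAut.conj g).toMonoidHom ≤ C := by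
    rintro _ ⟨c, hc, rfl⟩
    exact mem_subgroupOf.1 (h1.le ⟨⟨c, hC hc⟩, hc, rfl⟩ : e ⟨c, hC hc⟩ ∈ C.subgroupOf H)
  rw [mem_normalizer_iff_map_conj_eq]
  exact Subgroup.eq_of_le_of_card_ge key (card_map_of_injective (MulAut.conj g).injective).ge

/-- fusion control: a normal subgroup central modulo the common part of the core lies in the Sylow piece -/
theorem le_of_normal_closure {K : Type u} [Group K] [Finite K] (S : Sylow p K) {B P U : Subgroup K} [P.Normal]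
    [U.Normal] (hPB : P ≤ B) (hBS : B ≤ (S : Subgroup K)) (hUS : U ≤ (S : Subgroup K))
    (hSBU : (S : Subgroup K) ≤ B ⊔ U) (hBB : ⁅B, B⁆ ≤ P) (hUB : ⁅U, B⁆ ≤ P)
    (hgen : normalClosure (B : Set K) = ⊤)
    (hN : normalizer ((S : Subgroup K) : Set K) ≤ normalizer (B : Set K)) : U ≤ B := by
  set π := QuotientGroup.mk' P
  have hπ : Function.Surjective π := QuotientGroup.mk'_surjective P
  have hker : ∀ {x}, x ∈ P → π x = 1 := fun {x} hx => (QuotientGroup.eq_one_iff x).2 hx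
  have hcomm : ∀ {X Y : Subgroup K}, ⁅X, Y⁆ ≤ P → ⁅X.map π, Y.map π⁆ = ⊥ := fun {X Y} h => by
    rw [← map_commutator, Subgroup.map_eq_bot_iff, QuotientGroup.ker_mk']
    exact h
  -- the image of `U` is central
  haveI hUn : (U.map π).Normal := Normal.map inferInstance π hπ
  haveI : (centralizer (U.map π : Set (K ⧸ P))).Normal := centralizer_normal hUn
  have hUc : (⊤ : Subgroup (K ⧸ P)) ≤ centralizer (U.map π : Set (K ⧸ P)) := by
    rw [← map_top_of_surjective π hπ, ← hgen, map_le_iff_le_comap]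
    haveI : ((centralizer (U.map π : Set (K ⧸ P))).comap π).Normal := Normal.comap inferInstance π
    refine normalClosure_le_normal fun b hb => ?_
    exact (commutator_eq_bot_iff_le_centralizer.1 (by rw [commutator_comm]; exact hcomm hUB) :
      B.map π ≤ centralizer (U.map π : Set (K ⧸ P))) (mem_map_of_mem π hb)
  -- the image of the Sylow subgroup is abelian
  set S' := S.mapSurjective hπ
  have hS' : (S' : Subgroup (K ⧸ P)) = (S : Subgroup K).map π := Sylow.coe_mapSurjective hπ S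
  have hab : IsMulCommutative (S' : Subgroup (K ⧸ P)) := by
    have h1 : (S' : Subgroup (K ⧸ P)) ≤ centralizer ((S' : Subgroup (K ⧸ P)) : Set (K ⧸ P)) := by
      rw [hS']
      refine (map_mono hSBU).trans (le_trans ?_ (centralizer_le (map_mono hSBU)))
      rw [Subgroup.map_sup]
      have hB2 : B.map π ⊔ U.map π ≤ centralizer (B.map π : Set (K ⧸ P)) :=
        _root_.sup_le (commutator_eq_bot_iff_le_centralizer.1 (hcomm hBB))
          (commutator_eq_bot_iff_le_centralizer.1 (hcomm hUB))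
      have hU2 : B.map π ⊔ U.map π ≤ centralizer (U.map π : Set (K ⧸ P)) := le_top.trans hUc
      intro x hx
      refine mem_centralizer_iff.2 fun y hy => ?_
      have hle : B.map π ⊔ U.map π ≤ centralizer ({x} : Set (K ⧸ P)) :=
        _root_.sup_le (fun z hz => mem_centralizer_singleton_iff.2 (mem_centralizer_iff.1 (hB2 hx) z hz))
          fun z hz => mem_centralizer_singleton_iff.2 (mem_centralizer_iff.1 (hU2 hx) z hz)
      exact mem_centralizer_singleton_iff.1 (hle hy)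
    exact ⟨⟨fun a b => Subtype.ext (mem_centralizer_iff.1 (h1 b.2) a a.2)⟩⟩
  -- the focal subgroup lies in the image of `B`
  have hfoc : commutator (K ⧸ P) ⊓ (S' : Subgroup (K ⧸ P)) ≤ B.map π := by
    rw [← Cfsg.Lib.Transfer.pResidual_inf_eq_commutator_inf S' hab]
    refine (Cfsg.Lib.Transfer.pResidual_inf_le_focal S').trans ?_
    rw [Cfsg.Lib.Transfer.focal_eq_commutator_normalizer S' hab, commutator_le]
    intro x hx n hn
    rw [hS'] at hx
    obtain ⟨s, hs, rfl⟩ := hx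
    obtain ⟨m, rfl⟩ := hπ n
    have hm : m ∈ normalizer ((S : Subgroup K) : Set K) := by
      have hPS : P ≤ (S : Subgroup K) := hPB.trans hBS
      have h1 : ∀ {m}, π m ∈ normalizer ((S' : Subgroup (K ⧸ P)) : Set (K ⧸ P)) →
          ∀ z ∈ (S : Subgroup K), m * z * m⁻¹ ∈ (S : Subgroup K) := fun {m} hm z hz => by
        have h2 := (mem_normalizer_iff.1 hm (π z)).1 (hS' ▸ mem_map_of_mem π hz)
        rw [← map_inv, ← map_mul, ← map_mul, hS'] at h2
        obtain ⟨w, hw, hwe⟩ := h2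
        have h3 : w⁻¹ * (m * z * m⁻¹) ∈ P := by
          rw [← QuotientGroup.eq_one_iff]
          show π (w⁻¹ * (m * z * m⁻¹)) = 1
          rw [map_mul, map_inv, hwe, inv_mul_cancel]
        simpa using (S : Subgroup K).mul_mem hw (hPS h3)
      rw [mem_normalizer_iff]
      refine fun z => ⟨h1 hn z, fun hz => ?_⟩
      have h4 := h1 (m := m⁻¹) (by rw [map_inv]; exact inv_mem hn) _ hz
      simpa [mul_assoc] using h4
    obtain ⟨b, hb, c, hc, rfl⟩ := mem_sup_of_normal_right.1 (hSBU hs)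
    rw [map_mul, show ⁅π b * π c, π m⁆ = π b * ⁅π c, π m⁆ * (π b)⁻¹ * ⁅π b, π m⁆ by
      simp only [commutatorElement_def]; group]
    have h5 : ⁅π c, π m⁆ = 1 := commutatorElement_eq_one_iff_mul_comm.2
      (mem_centralizer_iff.1 (hUc (mem_top (π m))) _ (mem_map_of_mem π hc))
    rw [h5, mul_one, mul_inv_cancel, one_mul, ← map_commutatorElement]
    refine mem_map_of_mem π ?_
    rw [commutatorElement_def, mul_assoc, mul_assoc]
    exact mul_mem hb (by simpa [mul_assoc] using (mem_normalizer_iff.1 (hN hm) _).1 (inv_mem hb))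
  intro u hu
  have htop : B.map π ⊔ commutator (K ⧸ P) = ⊤ := by
    haveI : (B.map π ⊔ commutator (K ⧸ P)).Normal := ⟨fun x hx g => by
      rw [show g * x * g⁻¹ = ⁅g, x⁆ * x by simp [commutatorElement_def]]
      exact mul_mem (mem_sup_right (by
        rw [_root_.commutator_def]; exact commutator_mem_commutator (mem_top g) (mem_top x))) hx⟩
    haveI : ((B.map π ⊔ commutator (K ⧸ P)).comap π).Normal := Normal.comap inferInstance π
    refine top_le_iff.1 ?_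
    rw [← map_top_of_surjective π hπ, ← hgen, map_le_iff_le_comap]
    exact normalClosure_le_normal fun b hb => mem_sup_left (mem_map_of_mem π hb)
  have h6 : π u ∈ B.map π ⊔ commutator (K ⧸ P) := htop ▸ mem_top _
  obtain ⟨x, hx, y, hy, hxy⟩ := mem_sup_of_normal_right.1 h6
  have hxS : x ∈ (S' : Subgroup (K ⧸ P)) := hS' ▸ map_mono hBS hx
  have hyS : y ∈ (S' : Subgroup (K ⧸ P)) := by
    rw [show y = x⁻¹ * π u by rw [← hxy, inv_mul_cancel_left]]
    exact mul_mem (inv_mem hxS) (hS' ▸ mem_map_of_mem π (hUS hu))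
  obtain ⟨b, hb, hbu⟩ := hxy ▸ mul_mem hx (hfoc ⟨hy, hyS⟩)
  have h7 : b⁻¹ * u ∈ P := by
    rw [← QuotientGroup.eq_one_iff]
    show π (b⁻¹ * u) = 1
    rw [map_mul, map_inv, hbu, inv_mul_cancel]
  simpa using mul_mem hb (hPB h7)

namespace Env

variable {T : Sylow p G} {W : Type u} [AddCommGroup W] [Finite W] (d : Env T W)

/-- a rank-one piece -/
structure Piece (A₀ X₀ : Subgroup (G ⧸ cS p G)) where
  H : Subgroup G
  hB : Cfsg.baumannSubgroupOf p (T : Subgroup G) ≤ H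
  up : H.map (prj p G) ≤ (A₀ ⊔ X₀) ⊔ sSup d.glob.inSyl
  down : A₀ ⊔ X₀ ≤ H.map (prj p G)
  sylow : (T : Subgroup G) ⊓ H = Cfsg.baumannSubgroupOf p (T : Subgroup G)
  E : Subgroup G
  res : E = (Cfsg.pResidual p ↥H).map H.subtype
  gen : H ≤ E ⊔ Cfsg.baumannSubgroupOf p (T : Subgroup G)
  shape : Cfsg.Lib.PushBlocks.LinShape p (Cfsg.baumannSubgroupOf p (T : Subgroup G)) E
  good : p = 2 → ∃ x ∈ Cfsg.baumannSubgroupOf p (T : Subgroup G), x ∉ cS p G ∧
    ∀ s ∈ Cfsg.baumannSubgroupOf p (T : Subgroup G), ⁅x, s⁆ ∈ Cfsg.pCoreOf p E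
  cs : cS p G ⊓ H ≤ Cfsg.pCore p G ⊓ Cfsg.baumannSubgroupOf p (T : Subgroup G)
  core : Cfsg.pCoreOf p E = E ⊓ cS p G

omit d in
/-- the natural section of a piece, seen by the whole overgroup -/
def Piece.NatData {d : Env T W} {A₀ X₀ : Subgroup (G ⧸ cS p G)} (pc : d.Piece A₀ X₀) : Prop :=
  (∃ (F : Type) (_ : Field F) (_ : Fintype F) (n : ℕ), 1 ≤ n ∧ Fintype.card F = p ^ n ∧
    ∃ (ρ : ↥pc.H →* Matrix.SpecialLinearGroup (Fin 2) F) (l : G → (Fin 2 → F)),
      ρ.ker = Cfsg.pCore p ↥pc.H ∧ Function.Surjective ρ ∧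
      (∀ b : ↥pc.H, (b : G) ∈ Cfsg.baumannSubgroupOf p (T : Subgroup G) →
        ∃ x, ρ b = Cfsg.Lib.Known.AutPSL2.uS x) ∧
      (∀ x, ∃ b : ↥pc.H, (b : G) ∈ Cfsg.baumannSubgroupOf p (T : Subgroup G) ∧
        ρ b = Cfsg.Lib.Known.AutPSL2.uS x) ∧
      (∀ a ∈ Cfsg.omegaOneCenter p (Cfsg.pCoreOf p pc.E), ∀ b ∈ Cfsg.omegaOneCenter p (Cfsg.pCoreOf p pc.E),
        l (a * b) = l a + l b) ∧
      (∀ w, ∃ a ∈ Cfsg.omegaOneCenter p (Cfsg.pCoreOf p pc.E), l a = w) ∧
      (∀ a ∈ Cfsg.omegaOneCenter p (Cfsg.pCoreOf p pc.E), l a = 0 ↔ a ∈ centralizer (pc.E : Set G)) ∧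
      ∀ g : ↥pc.H, ∀ a ∈ Cfsg.omegaOneCenter p (Cfsg.pCoreOf p pc.E),
        l ((g : G) * a * (g : G)⁻¹) = (ρ g : Matrix (Fin 2) (Fin 2) F).mulVec (l a)) ∧
  (p = 2 → ∃ x ∈ Cfsg.baumannSubgroupOf p (T : Subgroup G), x ∉ (Cfsg.pCore p ↥pc.H).map pc.H.subtype ∧
    ∀ s ∈ Cfsg.baumannSubgroupOf p (T : Subgroup G), ⁅x, s⁆ ∈ Cfsg.pCoreOf p pc.E) ∧
  Cfsg.baumannSubgroupOf p (T : Subgroup G) ≤
    Cfsg.thompsonSubgroupOf p (T : Subgroup G) ⊔ (Cfsg.pCore p ↥pc.H).map pc.H.subtype ∧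
  (∀ x ∈ (Cfsg.pCore p ↥pc.H).map pc.H.subtype, ∀ y ∈ Cfsg.pCoreOf p pc.E, ∀ a ∈ pc.H,
    a * ⁅y, x⁆ = ⁅y, x⁆ * a) ∧
  (Cfsg.pCore p ↥pc.H).map pc.H.subtype ≤ Cfsg.baumannSubgroupOf p (T : Subgroup G)

include d

theorem exists_piece' (h : Hyps T) {A₀ X₀ : Subgroup (G ⧸ cS p G)} (hA : A₀ ∈ d.glob.inSyl)
    (hX : X₀ ∈ d.glob.outer) (hnc : ¬ Comm A₀ X₀) : ∃ pc : d.Piece A₀ X₀, pc.NatData := by
  classical
  set B := Cfsg.baumannSubgroupOf p (T : Subgroup G) with hBdef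
  set π := prj p G with hπdef
  set W₀ := sSup d.glob.inSyl with hW₀
  set L := A₀ ⊔ X₀ with hL
  have hπ : Function.Surjective π := QuotientGroup.mk'_surjective _
  have hBimg : B.map π = W₀ := d.baumann_image
  have hAW : A₀ ≤ W₀ := le_sSup hA
  -- the minimal overgroup
  obtain ⟨H, ⟨hBH, hHup, hdown⟩, hmin⟩ := Set.exists_min_image
    {H : Subgroup G | B ≤ H ∧ H.map π ≤ L ⊔ W₀ ∧ L ≤ H.map π} (fun H => Nat.card H) (Set.toFinite _)
    ⟨(L ⊔ W₀).comap π, map_le_iff_le_comap.1 (hBimg.le.trans le_sup_right), map_comap_le π _,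
      (map_comap_eq_self_of_surjective hπ _).symm ▸ le_sup_left⟩
  have hminimal : ∀ K : Subgroup G, B ≤ K → K ≤ H → L ≤ K.map π → K = H := fun K hBK hKH hLK =>
    Subgroup.eq_of_le_of_card_ge hKH (hmin K ⟨hBK, (map_mono hKH).trans hHup, hLK⟩)
  have hWc : ∀ w ∈ W₀, FFSLTwo.cj w A₀ = A₀ := fun w hw => by
    refine eq_of_le_of_card_ge ?_ (card_cj _ _).ge
    rintro _ ⟨a, ha, rfl⟩
    show w * a * w⁻¹ ∈ A₀
    rw [d.glob.inner_abelian w hw a (hAW ha), mul_inv_cancel_right]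
    exact ha
  have hmove : ∃ x ∈ L, FFSLTwo.cj x A₀ ≠ A₀ := by
    obtain ⟨x, hx, hx1⟩ := d.ff.exists_ne_one hX.1
    exact ⟨x, mem_sup_right hx, d.ff.cj_ne hX.1 hA.1 (fun hc => hnc hc.symm) hx hx1⟩
  have hpair : ∀ {k}, k ∈ L → FFSLTwo.cj k A₀ ≠ A₀ → A₀ ⊔ FFSLTwo.cj k A₀ = L :=
    fun hk hne => d.ff.sup_cj hA.1 hX.1 hnc hk hne
  -- the maximal subgroup over `B`
  have hmax : ∀ K : Subgroup G, B ≤ K → K ≤ H → K ≠ H → K.map π ≤ normalizer (A₀ : Set (G ⧸ cS p G)) := by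
    intro K hBK hKH hne k hk
    have hnorm : ∀ k ∈ K.map π, FFSLTwo.cj k A₀ = A₀ := by
      intro k hk
      by_contra hkA
      have h1 := hHup (map_mono hKH hk)
      rw [← SetLike.mem_coe, coe_mul_of_right_le_normalizer_left _ _
        (d.glob.inner_normalizes hA hX hnc)] at h1
      obtain ⟨l, hl, w, hw, rfl⟩ := h1
      have he : FFSLTwo.cj (l * w) A₀ = FFSLTwo.cj l A₀ := by rw [← cj_mul, hWc w hw]
      rw [he] at hkA
      refine hne (hminimal K hBK hKH ?_)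
      rw [← hpair hl hkA, ← he]
      have hAK : A₀ ≤ K.map π := hAW.trans (hBimg.ge.trans (map_mono hBK))
      refine _root_.sup_le hAK ?_
      rintro _ ⟨a, ha, rfl⟩
      exact mul_mem (mul_mem hk (hAK ha)) (inv_mem hk)
    rw [mem_normalizer_iff]
    intro z
    refine ⟨fun hz => conj_eq_self (hnorm k hk) hz, fun hz => ?_⟩
    rw [← hnorm k hk, mem_cj] at hz
    simpa [mul_assoc] using hz
  have hHnot : ¬ H.map π ≤ normalizer (A₀ : Set (G ⧸ cS p G)) := fun hle => by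
    obtain ⟨x, hx, hne⟩ := hmove
    exact hne (mem_normalizer_iff_map_conj_eq.1 (hle (hdown hx)))
  -- no characteristic subgroup of `B` is normalised
  have hTN : ∀ D : Subgroup G, D ≤ B → (D.subgroupOf B).Characteristic →
      (T : Subgroup G) ≤ normalizer (D : Set G) := fun D hD hch =>
    Subgroup.le_normalizer.trans ((normalizer_le_baumann _).trans (normalizer_le_char hD hch))
  have hchar : ∀ D : Subgroup G, D ≤ B → D ≠ ⊥ → (D.subgroupOf B).Characteristic →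
      ¬ H ≤ normalizer (D : Set G) := by
    intro D hD hne hch hle
    have hM := d.le_M h.min (hTN D hD hch) fun ht => h.nochar D hD hne hch (normalizer_eq_top_iff.1 ht)
    exact hX.2 (le_sup_right.trans (hdown.trans (map_mono (hle.trans hM))))
  -- Sylow subgroups
  set Q := Cfsg.pCore p G
  have hQn : Q.Normal := pCore_normal
  have hpimg : ∀ R : Subgroup G, IsPGroup p R → B ≤ R → R ≤ H → R ≤ (T : Subgroup G) ⊓ H := by
    intro R hR hBR hRH
    refine le_inf ?_ hRH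
    have h1 : R.map π = W₀ := d.glob.sylow_pair_sup hA hX hnc (hR.map _)
      (hBimg.ge.trans (map_mono hBR)) ((map_mono hRH).trans hHup)
    intro r hr
    obtain ⟨b, hb, hbr⟩ := hBimg.ge (h1.le (mem_map_of_mem π hr))
    obtain ⟨S, hS⟩ := hR.exists_le_sylow
    have h2 : b⁻¹ * r ∈ (S : Subgroup G) ⊓ cS p G :=
      ⟨hS (mul_mem (inv_mem (hBR hb)) hr), d.prj_eq_one.1 (by rw [map_mul, map_inv, hbr, inv_mul_cancel])⟩
    rw [d.sylow_inf_cS h.min S] at h2
    simpa using (T : Subgroup G).mul_mem hb.1 (Cfsg.Lib.Coprime.pCore_le_sylow p T h2)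
  have hBT : B ≤ (T : Subgroup G) := baumann_le T
  have hSBQ : (T : Subgroup G) ⊓ H ≤ B ⊔ (Q ⊓ H) := by
    intro r hr
    have h1 : ((T : Subgroup G) ⊓ H).map π = W₀ := d.glob.sylow_pair_sup hA hX hnc ((T.2.to_le inf_le_left).map _)
      (hBimg.ge.trans (map_mono (le_inf hBT hBH))) ((map_mono inf_le_right).trans hHup)
    obtain ⟨b, hb, hbr⟩ := hBimg.ge (h1.le (mem_map_of_mem π hr))
    have h2 : b⁻¹ * r ∈ (T : Subgroup G) ⊓ cS p G :=
      ⟨(T : Subgroup G).mul_mem ((T : Subgroup G).inv_mem (hBT hb)) hr.1, d.prj_eq_one.1 (by rw [map_mul, map_inv, hbr, inv_mul_cancel])⟩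
    rw [d.sylow_inf_cS h.min T] at h2
    simpa using mul_mem_sup hb (show b⁻¹ * r ∈ Q ⊓ H from ⟨h2, H.mul_mem (H.inv_mem (hBH hb)) hr.2⟩)
  obtain ⟨S, hS⟩ : ∃ S : Sylow p ↥H, (S : Subgroup ↥H) = ((T : Subgroup G) ⊓ H).subgroupOf H := by
    obtain ⟨S, hS⟩ := ((T.2.to_le (inf_le_left : (T : Subgroup G) ⊓ H ≤ T)).comap_subtype (K := H)).exists_le_sylow
    refine ⟨S, le_antisymm (fun r hr => ?_) hS⟩
    refine mem_subgroupOf.2 (hpimg _ (S.2.map H.subtype) (fun b hb => ⟨⟨b, hBH hb⟩, hS (mem_subgroupOf.2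
      ⟨hBT hb, hBH hb⟩), rfl⟩) (map_subtype_le _) (mem_map_of_mem H.subtype hr))
  -- generation by conjugates of `B`
  set Bh := B.subgroupOf H with hBh
  have hgen : normalClosure (Bh : Set ↥H) = ⊤ := by
    set N := normalClosure (Bh : Set ↥H)
    have hBN : B ≤ N.map H.subtype := fun b hb => ⟨⟨b, hBH hb⟩, subset_normalClosure hb, rfl⟩
    suffices hL : L ≤ (N.map H.subtype).map π by
      have e := congrArg (Subgroup.comap H.subtype) (hminimal _ hBN (map_subtype_le _) hL)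
      rw [comap_map_eq_self_of_injective H.subtype_injective] at e
      rw [e]
      exact subgroupOf_self H
    obtain ⟨x, hx, hne⟩ := hmove
    obtain ⟨k, hk, rfl⟩ := hdown hx
    rw [← hpair hx hne]
    refine _root_.sup_le (hAW.trans (hBimg.ge.trans (map_mono hBN))) ?_
    rintro _ ⟨a, ha, rfl⟩
    obtain ⟨b, hb, rfl⟩ := hBimg.ge (hAW ha)
    refine ⟨k * b * k⁻¹, ⟨⟨k, hk⟩ * ⟨b, hBH hb⟩ * ⟨k, hk⟩⁻¹, ?_, rfl⟩, by simp⟩
    exact normalClosure_normal.conj_mem _ (subset_normalClosure (show (⟨b, hBH hb⟩ : ↥H) ∈ Bh from hb)) _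
  -- `Q ⊓ H ≤ B`
  have hUB : Q ⊓ H ≤ B := by
    haveI := d.p0_normal h.min
    haveI : ((Q ⊓ B).subgroupOf H).Normal := inferInstance
    haveI := hQn
    haveI : ((Q ⊓ H).subgroupOf H).Normal := by rw [inf_subgroupOf_right]; infer_instance
    have key := le_of_normal_closure (P := (Q ⊓ B).subgroupOf H) (B := B.subgroupOf H) (U := (Q ⊓ H).subgroupOf H) S
      (comap_mono inf_le_right) (hS ▸ comap_mono (le_inf hBT hBH))
      (hS ▸ comap_mono (le_inf (inf_le_left.trans (Cfsg.Lib.Coprime.pCore_le_sylow p T)) inf_le_right))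
      (by
        rw [hS, ← subgroupOf_sup hBH inf_le_right]
        exact comap_mono hSBQ)
      (by
        refine map_le_iff_le_comap.1 ?_
        rw [map_commutator]
        refine (commutator_mono (map_comap_le _ _) (map_comap_le _ _)).trans (le_inf ?_ ?_)
        · rw [show Q = (T : Subgroup G) ⊓ cS p G from (d.sylow_inf_cS h.min T).symm]
          refine le_inf ((commutator_mono hBT hBT).trans (commutator_le_self _)) (commutator_le.2 fun a ha b hb => ?_)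
          refine d.prj_eq_one.1 ?_
          rw [map_commutatorElement, commutatorElement_eq_one_iff_mul_comm]
          exact d.glob.inner_abelian _ (hBimg.le (mem_map_of_mem π ha)) _ (hBimg.le (mem_map_of_mem π hb))
        · exact commutator_le_self _)
      (by
        refine map_le_iff_le_comap.1 ?_
        rw [map_commutator]
        exact (commutator_mono ((map_comap_le _ _).trans inf_le_left) (map_comap_le _ _)).trans d.core_comm_baumann)
      hgen ?_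
    · intro x hx
      exact mem_subgroupOf.1 (key (show (⟨x, hx.2⟩ : ↥H) ∈ (Q ⊓ H).subgroupOf H from hx))
    intro m hm
    have hle : FFSLTwo.cj (m : G) B ≤ (T : Subgroup G) := by
      rintro _ ⟨b, hb, rfl⟩
      have h1 := (mem_normalizer_iff.1 hm ⟨b, hBH hb⟩).1 (hS ▸ (mem_subgroupOf.2 ⟨hBT hb, hBH hb⟩))
      rw [hS] at h1
      exact (mem_subgroupOf.1 h1).1
    have he : (m : G) ∈ normalizer (B : Set G) := by
      have h2 := Cfsg.Lib.BlockPair.baumann_eq ((m : G) • T) T (by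
        rw [Sylow.coe_subgroup_smul]
        exact (Cfsg.Lib.BlockBasic.map_baumannSubgroupOf (p := p) (MulAut.conj (m : G)) (T : Subgroup G)) ▸ hle)
      rw [Sylow.coe_subgroup_smul] at h2
      rw [mem_normalizer_iff_map_conj_eq]
      show B.map (MulAut.conj (m : G)).toMonoidHom = B
      rw [hBdef, Cfsg.Lib.BlockBasic.map_baumannSubgroupOf]
      exact h2
    rw [mem_normalizer_iff]
    exact fun z => mem_normalizer_iff.1 he (z : G)
  have hsyl : (T : Subgroup G) ⊓ H = B :=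
    le_antisymm (hSBQ.trans (_root_.sup_le le_rfl hUB)) (le_inf hBT hBH)
  rw [hsyl] at hS
  -- the natural representation
  obtain ⟨F, iF, iFt, ρ, Ψ, hF, hΨs, hΨ0, hΨ⟩ := d.ff.natural hA.1 hX.1 hnc
  have hrest : ∀ w ∈ W₀, ∃ a ∈ A₀, ∀ v, Ψ (d.φ w v) = Ψ (d.φ a v) := by
    have hR : W₀ ≤ A₀ ⊔ sSup {X ∈ d.glob.inSyl | X ≠ A₀} := _root_.sSup_le fun X hX' => by
      by_cases hXA : X = A₀
      · exact hXA ▸ le_sup_left
      · exact le_sup_of_le_right (le_sSup ⟨hX', hXA⟩)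
    intro w hw
    have h1 := hR hw
    have hc : Comm (sSup {X ∈ d.glob.inSyl | X ≠ A₀}) A₀ := fun a ha b hb =>
      d.glob.inner_abelian a (sSup_le_sSup (fun X (hX : X ∈ {X ∈ d.glob.inSyl | X ≠ A₀}) => hX.1) ha) b (hAW hb)
    rw [← SetLike.mem_coe, coe_mul_of_right_le_normalizer_left _ _ (le_trans
      (fun r hr => mem_centralizer_iff.2 fun a ha => (hc r hr a ha).symm) (centralizer_le_normalizer _))] at h1
    obtain ⟨a, ha, r, hr, rfl⟩ := h1
    refine ⟨a, ha, fun v => ?_⟩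
    have hr0 : dd d.φ r v ∈ fixA d.φ A₀ ⊓ fixA d.φ X₀ := by
      let Kx : Subgroup (G ⧸ cS p G) :=
        { carrier := {r | ∀ v, dd d.φ r v ∈ fixA d.φ A₀ ⊓ fixA d.φ X₀ ∧ r ∈ centralizer ((A₀ ⊔ X₀ : Subgroup (G ⧸ cS p G)) : Set (G ⧸ cS p G))}
          one_mem' := fun v => ⟨by rw [dd_apply, phi_one, sub_self]; exact zero_mem _, one_mem _⟩
          mul_mem' := fun {a b} ha hb v => ⟨by
            rw [show dd d.φ (a * b) v = dd d.φ a (d.φ b v) + dd d.φ b v by
              rw [dd_apply, dd_apply, dd_apply, phi_mul]; abel]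
            exact add_mem (ha _).1 (hb v).1, mul_mem (ha v).2 (hb v).2⟩
          inv_mem' := fun {a} ha v => ⟨by
            rw [show dd d.φ a⁻¹ v = -dd d.φ a (d.φ a⁻¹ v) by rw [dd_apply, dd_apply, phi_cancel_inv]; abel]
            exact neg_mem (ha _).1, inv_mem (ha v).2⟩ }
      have hle : sSup {X ∈ d.glob.inSyl | X ≠ A₀} ≤ Kx := _root_.sSup_le fun Z hZ z hz v =>
        ⟨⟨(d.ff.comm_mem hZ.1.1 hA.1 (d.glob.inSyl_comm hZ.1 hA) hz v).2,
          (d.ff.comm_mem hZ.1.1 hX.1 (d.glob.other_comm hA hZ.1 hX hnc hZ.2) hz v).2⟩,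
          mem_centralizer_iff.2 fun y hy => (d.glob.rest_comm hA hX hnc z (le_sSup hZ hz) y hy).symm⟩
      exact (hle hr v).1
    rw [phi_mul, phi_eq_add r v, map_add (d.φ a), map_add Ψ, (show d.φ a (dd d.φ r v) = dd d.φ r v from hr0.1 a ha),
      (hΨ0 _).2 hr0, add_zero]
  have hmat : ∀ g : ↥H, ∃! m : Matrix.SpecialLinearGroup (Fin 2) F, ∀ v,
      Ψ (d.φ (π g) v) = (m : Matrix (Fin 2) (Fin 2) F).mulVec (Ψ v) := by
    intro g
    have h1 := hHup (mem_map_of_mem π g.2)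
    rw [← SetLike.mem_coe, coe_mul_of_right_le_normalizer_left _ _ (d.glob.inner_normalizes hA hX hnc)] at h1
    obtain ⟨l, hl, w, hw, hlw⟩ := h1
    obtain ⟨a, ha, haw⟩ := hrest w hw
    refine ⟨ρ ⟨l, hl⟩ * ρ ⟨a, le_sup_left (b := X₀) ha⟩, fun v => ?_, fun m hm => ?_⟩
    · rw [← hlw, phi_mul, hΨ ⟨l, hl⟩, haw, hΨ ⟨a, le_sup_left (b := X₀) ha⟩, Matrix.mulVec_mulVec,
        Matrix.SpecialLinearGroup.coe_mul]
    · refine Subtype.ext (Matrix.ext_of_mulVec_single fun i => ?_)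
      obtain ⟨v, hv⟩ := hΨs (Pi.single i 1)
      rw [← hv, ← hm v, ← hlw, phi_mul, hΨ ⟨l, hl⟩, haw, hΨ ⟨a, le_sup_left (b := X₀) ha⟩, Matrix.mulVec_mulVec,
        Matrix.SpecialLinearGroup.coe_mul]
  choose mf hmf huniq using hmat
  let ψ₁ : ↥H →* Matrix.SpecialLinearGroup (Fin 2) F := MonoidHom.mk' mf fun a b => (huniq (a * b) _ fun v => by
    rw [Subgroup.coe_mul, map_mul π, phi_mul, hmf, hmf, Matrix.mulVec_mulVec, Matrix.SpecialLinearGroup.coe_mul]).symm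
  have hψ₁ : Function.Surjective ψ₁ := by
    intro m
    obtain ⟨l, rfl⟩ := ρ.surjective m
    obtain ⟨k, hk, hkl⟩ := hdown l.2
    exact ⟨⟨k, hk⟩, (huniq ⟨k, hk⟩ _ fun v => by
      show Ψ (d.φ (π k) v) = _
      rw [hkl]; exact hΨ l v).symm⟩
  let ψ₂ := (QuotientGroup.mk' (center (Matrix.SpecialLinearGroup (Fin 2) F))).comp ψ₁
  have hψ₂ : Function.Surjective ψ₂ := (QuotientGroup.mk'_surjective _).comp hψ₁
  obtain ⟨n, hn⟩ := IsPGroup.iff_card.1 (isPGroup_el (d.ff.el hA.1))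
  rw [d.ff.card hA.1] at hn
  have hn1 : 1 ≤ n := Nat.pos_of_ne_zero fun h0 => by
    have := d.ff.one_lt
    rw [h0, pow_zero] at hn
    omega
  -- characteristic `p`
  have hP₀core : (Q ⊓ B).subgroupOf H ≤ Cfsg.pCore p ↥H := by
    haveI := d.p0_normal h.min
    exact le_sSup ⟨inferInstance,
      ((Cfsg.Lib.Components.isPGroup_pCore p).to_le inf_le_left).comap_subtype⟩
  have hcp : centralizer (Cfsg.pCore p ↥H : Set ↥H) ≤ Cfsg.pCore p ↥H := by
    intro x hx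
    refine hP₀core (mem_subgroupOf.2 (d.p0_centralizer h (mem_centralizer_iff.2 fun y hy => ?_)))
    exact congrArg Subtype.val (mem_centralizer_iff.1 hx ⟨y, hBH hy.2⟩ (hP₀core (mem_subgroupOf.2 hy)))
  -- one maximal subgroup
  have huniqM : ∃! M : Subgroup ↥H, IsCoatom M ∧ (S : Subgroup ↥H) ≤ M := by
    set M₀ := ((normalizer (A₀ : Set (G ⧸ cS p G))).comap π).subgroupOf H with hM₀
    have hle : ∀ K : Subgroup ↥H, (S : Subgroup ↥H) ≤ K → K ≠ ⊤ → K ≤ M₀ := by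
      intro K hSK hK x hx
      refine mem_subgroupOf.2 (mem_comap.2 (hmax (K.map H.subtype) (fun b hb => ⟨⟨b, hBH hb⟩,
        hSK (hS ▸ mem_subgroupOf.2 hb), rfl⟩) (map_subtype_le _) (fun he => hK ?_)
        (mem_map_of_mem π (mem_map_of_mem H.subtype hx))))
      refine map_injective H.subtype_injective ?_
      rw [he, ← MonoidHom.range_eq_map, range_subtype]
    have hSM : (S : Subgroup ↥H) ≤ M₀ := fun b hb => by
      rw [hS] at hb
      refine mem_subgroupOf.2 (mem_comap.2 (mem_normalizer_iff_map_conj_eq.2 ?_))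
      exact hWc _ (hBimg.le (mem_map_of_mem π hb))
    have hM₀ne : M₀ ≠ ⊤ := fun ht => hHnot (by
      rintro _ ⟨x, hx, rfl⟩
      exact mem_comap.1 (mem_subgroupOf.1 (ht ▸ mem_top (⟨x, hx⟩ : ↥H))))
    refine ⟨M₀, ⟨⟨hM₀ne, fun K hK => ?_⟩, hSM⟩, fun K ⟨hK, hSK⟩ => ?_⟩
    · by_contra hne
      exact hK.not_ge (hle K (hSM.trans hK.le) hne)
    · rcases eq_or_lt_of_le (hle K hSK hK.1) with he | hlt
      · exact he
      · exact absurd (hK.2 _ hlt) hM₀ne
  obtain ⟨st, hstS, hst⟩ := Cfsg.Lib.BGN.P.exists_sit S hcp huniqM ψ₂.ker n hn1 (hF.trans hn)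
    ⟨QuotientGroup.quotientKerEquivOfSurjective ψ₂ hψ₂⟩ (by
    intro D hD hDc hnorm
    set D' := (D.map (S : Subgroup ↥H).subtype).map H.subtype with hD'
    have hD'B : D' ≤ B := by
      rintro _ ⟨x, ⟨s, -, rfl⟩, rfl⟩
      exact mem_subgroupOf.1 (hS.le s.2)
    refine hchar D' hD'B (fun hb => hD ?_) ?_ ?_
    · rw [hD', map_eq_bot_iff_of_injective _ H.subtype_injective,
        map_eq_bot_iff_of_injective _ (S : Subgroup ↥H).subtype_injective] at hb
      exact hb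
    · let eB : ↥(S : Subgroup ↥H) ≃* ↥B := (MulEquiv.subgroupCongr hS).trans (subgroupOfEquivOfLe hBH)
      have hDB : D'.subgroupOf B = D.map eB.toMonoidHom := by
        ext x
        rw [mem_subgroupOf]
        constructor
        · rintro ⟨_, ⟨s, hs, rfl⟩, hsx⟩
          exact ⟨s, hs, Subtype.ext hsx⟩
        · rintro ⟨s, hs, rfl⟩
          exact ⟨_, ⟨s, hs, rfl⟩, rfl⟩
      rw [hDB]
      refine characteristic_iff_map_le.2 fun α => ?_
      rintro _ ⟨_, ⟨s, hs, rfl⟩, rfl⟩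
      refine ⟨eB.symm (α (eB s)), ?_, eB.apply_symm_apply _⟩
      exact characteristic_iff_map_le.1 hDc ((eB.trans α).trans eB.symm) (mem_map_of_mem _ hs)
    · intro x hx
      rw [mem_normalizer_iff]
      intro z
      constructor
      · rintro ⟨y, hy, rfl⟩
        exact ⟨⟨x, hx⟩ * y * ⟨x, hx⟩⁻¹, hnorm.conj_mem y hy _, rfl⟩
      · rintro ⟨y, hy, hyz⟩
        refine ⟨⟨x, hx⟩⁻¹ * y * ⟨x, hx⟩, by simpa using hnorm.conj_mem y hy (⟨x, hx⟩ : ↥H)⁻¹, ?_⟩
        have hyz' : (y : G) = x * z * x⁻¹ := hyz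
        show x⁻¹ * (y : G) * x = z
        rw [hyz']; group)
  obtain ⟨hshape, ρs, hstd, hcf, hgood⟩ := Cfsg.Lib.PushBlocks.single st hst
  have hstS' : st.S = B.subgroupOf H := by rw [← hS, ← hstS]
  have hshape' : Cfsg.Lib.PushBlocks.LinShape p B ((Cfsg.pResidual p ↥H).map H.subtype) := by
    have h1 := Cfsg.Lib.PushBlocks.linShape_map H.subtype H.subtype_injective hshape
    rwa [hstS', map_subgroupOf_eq_of_le hBH] at h1
  -- the kernel of the action
  have hBA : ∀ x ∈ (S : Subgroup ↥H), ∃ a, ∃ ha : a ∈ A₀, ψ₁ x = ρ ⟨a, le_sup_left (b := X₀) ha⟩ := fun x hx => by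
    rw [hS] at hx
    obtain ⟨a, ha, hv⟩ := hrest _ (hBimg.le (mem_map_of_mem π (mem_subgroupOf.1 hx)))
    exact ⟨a, ha, (huniq x _ fun v => (hv v).trans (hΨ ⟨a, _⟩ v)).symm⟩
  have hcore1 : Cfsg.pCore p ↥H ≤ ψ₁.ker := by
    intro x hx
    obtain ⟨a, ha, hax⟩ := hBA x (Cfsg.Lib.Coprime.pCore_le_sylow p S hx)
    rw [MonoidHom.mem_ker, hax]
    obtain ⟨y, hy, hne⟩ := hmove
    obtain ⟨k, hk, rfl⟩ := hdown hy
    obtain ⟨b, hb, hbx⟩ := hBA (⟨k, hk⟩⁻¹ * x * ⟨k, hk⟩) (Cfsg.Lib.Coprime.pCore_le_sylow p S (by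
      simpa using (inferInstance : (Cfsg.pCore p ↥H).Normal).conj_mem x hx (⟨k, hk⟩ : ↥H)⁻¹))
    have hk' : ψ₁ ⟨k, hk⟩ = ρ ⟨π k, hy⟩ := (huniq ⟨k, hk⟩ _ fun v => hΨ ⟨π k, hy⟩ v).symm
    rw [map_mul, map_mul, map_inv, hax, hk', ← map_inv, ← map_mul, ← map_mul] at hbx
    have h1 : (π k)⁻¹ * a * π k = b := congrArg Subtype.val (ρ.injective hbx)
    have h2 : a ∈ A₀ ⊓ FFSLTwo.cj (π k) A₀ := ⟨ha, mem_cj.2 (h1 ▸ hb)⟩
    rw [d.ff.inf_eq_bot hA.1 (d.ff.conj _ hA.1) hne.symm, mem_bot] at h2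
    subst h2
    exact map_one ρ
  have hker : ψ₁.ker = Cfsg.pCore p ↥H := by
    refine (Subgroup.eq_of_le_of_card_ge hcore1 (le_of_eq ?_)).symm
    rw [← hstd.ker]
    have e1 := Subgroup.card_eq_card_quotient_mul_card_subgroup ψ₁.ker
    have e2 := Subgroup.card_eq_card_quotient_mul_card_subgroup ρs.ker
    rw [Nat.card_congr (QuotientGroup.quotientKerEquivOfSurjective ψ₁ hψ₁).toEquiv] at e1
    rw [Nat.card_congr (QuotientGroup.quotientKerEquivOfSurjective ρs hstd.surj).toEquiv, e1] at e2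
    exact Nat.eq_of_mul_eq_mul_left Nat.card_pos e2
  have hcsH : cS p G ⊓ H ≤ Q ⊓ B := fun x hx => by
    have h1 : (⟨x, hx.2⟩ : ↥H) ∈ Cfsg.pCore p ↥H := by
      rw [← hker, MonoidHom.mem_ker]
      refine (huniq ⟨x, hx.2⟩ 1 fun v => ?_).symm
      rw [show π x = 1 from d.prj_eq_one.2 hx.1, phi_one, Matrix.SpecialLinearGroup.coe_one, Matrix.one_mulVec]
    have h2 := Cfsg.Lib.Coprime.pCore_le_sylow p S h1
    rw [hS] at h2
    exact ⟨(d.sylow_inf_cS h.min T).le ⟨hBT (mem_subgroupOf.1 h2), hx.1⟩, mem_subgroupOf.1 h2⟩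
  have hEL : ((Cfsg.pResidual p ↥H).map H.subtype).map π ≤ L := by
    rw [Subgroup.map_map, map_le_iff_le_comap]
    refine (closure_le _).2 fun g hg => ?_
    show π (g : G) ∈ L
    set K := L ⊔ W₀
    haveI : (L.subgroupOf K).Normal := normal_subgroupOf_of_le_normalizer
      (_root_.sup_le Subgroup.le_normalizer (d.glob.inner_normalizes hA hX hnc))
    have hq : IsPGroup p (↥K ⧸ L.subgroupOf K) := by
      intro z
      obtain ⟨⟨y, hy⟩, rfl⟩ := QuotientGroup.mk'_surjective (L.subgroupOf K) z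
      have hy' := hy
      rw [← SetLike.mem_coe, coe_mul_of_right_le_normalizer_left _ _ (d.glob.inner_normalizes hA hX hnc)] at hy'
      obtain ⟨l, hl, w, hw, rfl⟩ := hy'
      have hlK : l ∈ K := mem_sup_left hl
      obtain ⟨i, hi⟩ := (T.mapSurjective hπ).2 ⟨w, d.glob.sup_le hw⟩
      have hi' : w ^ p ^ i = 1 := congrArg Subtype.val hi
      refine ⟨i, ?_⟩
      rw [show (⟨l * w, hy⟩ : ↥K) = ⟨l, hlK⟩ * ⟨w, mem_sup_right hw⟩ from rfl, map_mul,
        show QuotientGroup.mk' (L.subgroupOf K) ⟨l, hlK⟩ = 1 from (QuotientGroup.eq_one_iff _).2 hl, one_mul,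
        ← map_pow, show (⟨w, mem_sup_right hw⟩ : ↥K) ^ p ^ i = 1 from Subtype.ext hi', map_one]
    have hgK : π (g : G) ∈ K := hHup (mem_map_of_mem π g.2)
    exact mem_subgroupOf.1 (Cfsg.Lib.Transfer.mem_of_isPGroup_quotient_of_coprime (L.subgroupOf K) hq
      (x := ⟨π (g : G), hgK⟩) (by
        rw [Subgroup.orderOf_mk]
        exact Nat.Coprime.coprime_dvd_left ((orderOf_map_dvd π _).trans (Subgroup.orderOf_coe g).dvd) hg))
  have hcoreE : Cfsg.pCoreOf p ((Cfsg.pResidual p ↥H).map H.subtype) =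
      (Cfsg.pResidual p ↥H).map H.subtype ⊓ cS p G := by
    rw [← Cfsg.Lib.PushBlocks.map_pCoreOf_inj H.subtype H.subtype_injective, hstd.pCoreOf_res, ← hker]
    refine le_antisymm ?_ fun x hx => ?_
    · rintro _ ⟨y, ⟨hy, hyk⟩, rfl⟩
      refine ⟨mem_map_of_mem H.subtype hy, d.prj_eq_one.1 ?_⟩
      have h1 : π (y : G) ∈ L := hEL (mem_map_of_mem π (mem_map_of_mem H.subtype hy))
      have h2 := (huniq y _ fun v => hΨ ⟨π (y : G), h1⟩ v)
      have hy1 : mf y = 1 := hyk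
      have h3 : ρ ⟨π (y : G), h1⟩ = 1 := h2.trans hy1
      exact congrArg Subtype.val (ρ.injective (h3.trans (map_one ρ).symm))
    · obtain ⟨⟨y, hy, rfl⟩, hc⟩ := hx
      exact ⟨y, ⟨hy, hker.ge (hker ▸ hP₀core (mem_subgroupOf.2 (hcsH ⟨hc, y.2⟩)))⟩, rfl⟩
  refine ⟨{ H := H, hB := hBH, cs := hcsH, core := hcoreE, up := hHup, down := hdown, sylow := hsyl,
            E := (Cfsg.pResidual p ↥H).map H.subtype, res := rfl, gen := ?_, shape := hshape', good := ?_ },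
          ?_, ?_, ?_, ?_, ?_⟩
  · intro x hx
    have h1 : (⟨x, hx⟩ : ↥H) ∈ Cfsg.pResidual p ↥H ⊔ (S : Subgroup ↥H) := by
      rw [Cfsg.Lib.Transfer.pResidual_sup_sylow]; exact mem_top _
    have h2 := mem_map_of_mem H.subtype h1
    rwa [Subgroup.map_sup, hS, map_subgroupOf_eq_of_le hBH] at h2
  · intro hp2
    obtain ⟨x, hx, hxQ, hxs⟩ := hgood hp2
    rw [hstS'] at hx hxs
    refine ⟨x, mem_subgroupOf.1 hx, fun hc => hxQ (hP₀core (mem_subgroupOf.2 ⟨?_, mem_subgroupOf.1 hx⟩)),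
      fun s hs => ?_⟩
    · exact (d.sylow_inf_cS h.min T).le ⟨hBT (mem_subgroupOf.1 hx), hc⟩
    · have h1 := mem_map_of_mem H.subtype (hxs ⟨s, hBH hs⟩ (mem_subgroupOf.2 hs))
      rw [Cfsg.Lib.PushBlocks.map_pCoreOf_inj H.subtype H.subtype_injective, map_commutatorElement] at h1
      exact h1
  · obtain ⟨l, hadd, hsurj, hker', hequi⟩ := hstd.nat
    set U := Cfsg.omegaOneCenter p (Cfsg.pCoreOf p (Cfsg.Lib.PushBlocks.res p ↥H))
    have hU : Cfsg.omegaOneCenter p (Cfsg.pCoreOf p ((Cfsg.pResidual p ↥H).map H.subtype)) = U.map H.subtype := by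
      rw [Cfsg.Lib.PushBlocks.map_omegaOneCenter_inj H.subtype H.subtype_injective,
        Cfsg.Lib.PushBlocks.map_pCoreOf_inj H.subtype H.subtype_injective]
    let l' : G → (Fin 2 → F) := fun g => if hg : g ∈ H then l ⟨g, hg⟩ else 0
    have hl' : ∀ x : ↥H, l' (x : G) = l x := fun x => dif_pos x.2
    refine ⟨F, inferInstance, inferInstance, n, hn1, hF.trans hn, ρs, l', hstd.ker, hstd.surj, fun b hb => ?_,
      fun x => ?_, ?_, fun w => ?_, ?_, ?_⟩
    · exact hstd.up b (hstS'.ge (mem_subgroupOf.2 hb))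
    · obtain ⟨b, hb, hbx⟩ := hstd.up_surj x
      exact ⟨b, mem_subgroupOf.1 (hstS'.le hb), hbx⟩
    · rw [hU]
      rintro _ ⟨a, ha, rfl⟩ _ ⟨b, hb, rfl⟩
      show l' ((a * b : ↥H) : G) = l' (a : G) + l' (b : G)
      rw [hl', hl', hl']
      exact hadd a (hcf.1 ha) b (hcf.1 hb)
    · haveI := Cfsg.Lib.PushBlocks.res_normal (p := p) (G := ↥H)
      haveI := st.W_normal
      haveI := st.C_normal
      obtain ⟨a, ha, hla⟩ := hsurj w
      obtain ⟨u, hu, c, hc, rfl⟩ := mem_sup_of_normal_right.1 (hstd.U0_sup.ge ha)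
      refine ⟨(u : G), hU ▸ mem_map_of_mem H.subtype (hcf.2.1 hu), ?_⟩
      rw [hl', ← hla, hadd u (commutator_le_left _ _ hu) c hc.1, (hker' c hc.1).2 hc, add_zero]
    · rw [hU]
      rintro _ ⟨a, ha, rfl⟩
      show l' (a : G) = 0 ↔ _
      rw [hl', hker' a (hcf.1 ha)]
      have h1 := hstd.inf_centralizer hcf.1
      constructor
      · intro hc
        have h2 : a ∈ centralizer ((Cfsg.Lib.PushBlocks.res p ↥H : Subgroup ↥H) : Set ↥H) :=
          (h1.ge ⟨ha, hc⟩).2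
        refine mem_centralizer_iff.2 ?_
        rintro _ ⟨e, he, rfl⟩
        exact congrArg Subtype.val (mem_centralizer_iff.1 h2 e he)
      · intro hc
        exact (h1.le ⟨ha, mem_centralizer_iff.2 fun e he => Subtype.ext
          (mem_centralizer_iff.1 hc (e : G) (mem_map_of_mem H.subtype he))⟩).2
    · rw [hU]
      rintro g _ ⟨a, ha, rfl⟩
      show l' ((g * a * g⁻¹ : ↥H) : G) = _
      rw [hl']
      show l (g * a * g⁻¹) = (ρs g : Matrix (Fin 2) (Fin 2) F).mulVec (l' (a : G))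
      rw [hl', hequi g a (hcf.1 ha)]
  · intro hp2
    obtain ⟨x, hx, hxQ, hxs⟩ := hgood hp2
    rw [hstS'] at hx hxs
    refine ⟨x, mem_subgroupOf.1 hx, fun hc => hxQ ((mem_map_iff_mem H.subtype_injective).1 hc), fun s hs => ?_⟩
    have h1 := mem_map_of_mem H.subtype (hxs ⟨s, hBH hs⟩ (mem_subgroupOf.2 hs))
    rw [Cfsg.Lib.PushBlocks.map_pCoreOf_inj H.subtype H.subtype_injective, map_commutatorElement] at h1
    exact h1
  · intro b hb
    obtain ⟨a, ha, hax⟩ := hBA ⟨b, hBH hb⟩ (hS.ge (mem_subgroupOf.2 hb))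
    obtain ⟨j, hj, hja⟩ := d.thompson_image.ge (le_sSup hA ha)
    have hjB : j ∈ B := Cfsg.Lib.BlockBasic.thompson_le_baumann _ hj
    have h1 : ψ₁ ⟨j, hBH hjB⟩ = ρ ⟨a, le_sup_left (b := X₀) ha⟩ := (huniq ⟨j, hBH hjB⟩ _ fun v => by
      show Ψ (d.φ (π j) v) = _
      rw [show π j = a from hja]
      exact hΨ ⟨a, _⟩ v).symm
    have h2 : (⟨j, hBH hjB⟩ : ↥H)⁻¹ * ⟨b, hBH hb⟩ ∈ Cfsg.pCore p ↥H := by
      rw [← hker, MonoidHom.mem_ker, map_mul, map_inv, h1, hax, inv_mul_cancel]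
    simpa using mul_mem_sup hj (mem_map_of_mem H.subtype h2)
  · intro x hx y hy a ha
    rw [← Cfsg.Lib.PushBlocks.map_pCoreOf_inj H.subtype H.subtype_injective] at hy
    obtain ⟨x', hx', rfl⟩ := hx
    obtain ⟨y', hy', rfl⟩ := hy
    exact congrArg Subtype.val (mem_center_iff.1 (hcf.2.2 x' hx' y' hy') ⟨a, ha⟩)
  · rintro _ ⟨x, hx, rfl⟩
    exact mem_subgroupOf.1 (hS.le (Cfsg.Lib.Coprime.pCore_le_sylow p S hx))

theorem exists_piece (h : Hyps T) {A₀ X₀ : Subgroup (G ⧸ cS p G)} (hA : A₀ ∈ d.glob.inSyl)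
    (hX : X₀ ∈ d.glob.outer) (hnc : ¬ Comm A₀ X₀) : Nonempty (d.Piece A₀ X₀) :=
  ⟨(d.exists_piece' h hA hX hnc).choose⟩

end Env

end Cfsg.Lib.PushMin
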