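import Cfsg.Agent.PushUpBlocks.SingleLinear
import Cfsg.Agent.PGroups.SpecialCoprime
import Cfsg.Agent.PGroups.Basic

/-!
Pushing up for a rank-one quotient, two natural factors: the residual has the shape of an exceptional block.
-/

set_option autoImplicit false
set_option linter.unusedSectionVars false
set_option linter.style.haveILetI false

namespace Cfsg.Lib.PushBlocks

open Subgroup Matrix Cfsg.Lib.BGN Cfsg.Lib.BGN.P Cfsg.Lib.Known.AutPSL2
open scoped commutatorElement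

universe u

variable {p : ℕ} [hp : Fact p.Prime] {G : Type u} [Group G] [Finite G] {F : Type} [Field F] [Fintype F]

/-- in a section centralised by the core the commutators with the residual are inverted by an inverting element -/
theorem inverted_comm {M N : Subgroup G} [M.Normal] [N.Normal] {t : G}
    (hpow : ∀ w ∈ M, w ^ 4 = w) (hab : ∀ a ∈ M, ∀ b ∈ M, ⁅a, b⁆ ∈ N)
    (hQ : ∀ a ∈ M, ∀ z ∈ Cfsg.pCore p G, ⁅a, z⁆ ∈ N) (ht2 : t * t ∈ Cfsg.pCore p G)
    (htg : ∀ g, t * g * t⁻¹ * g⁻¹ ∈ Cfsg.pCore p G)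
    (hfix : ∀ k ∈ M, ⁅t, k⁆ ∈ N → ∀ e ∈ res p G, ⁅k, e⁆ ∈ N) :
    ∀ x ∈ ⁅M, res p G⁆, t * x * t⁻¹ * x ∈ N := by
  set q := QuotientGroup.mk' N with hqdef
  have hq1 : ∀ {x}, q x = 1 ↔ x ∈ N := fun {x} => QuotientGroup.eq_one_iff x
  have hc : ∀ a ∈ M, ∀ b ∈ M, Commute (q a) (q b) := fun a ha b hb => by
    rw [← commutatorElement_eq_one_iff_commute, ← map_commutatorElement]
    exact hq1.2 (hab a ha b hb)
  have hcQ : ∀ a ∈ M, ∀ z ∈ Cfsg.pCore p G, Commute (q a) (q z) := fun a ha z hz => by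
    rw [← commutatorElement_eq_one_iff_commute, ← map_commutatorElement]
    exact hq1.2 (hQ a ha z hz)
  have hMn : ∀ a ∈ M, ∀ g : G, g * a * g⁻¹ ∈ M := fun a ha g => Normal.conj_mem inferInstance a ha g
  have hMc : ∀ a ∈ M, ∀ g : G, ⁅a, g⁆ ∈ M := fun a ha g => by
    rw [commutatorElement_def, mul_assoc, mul_assoc]
    exact mul_mem ha (by simpa [mul_assoc] using hMn _ (inv_mem ha) g)
  let T : Subgroup G :=
    { carrier := {r | r ∈ M ∧ q (t * r * t⁻¹) = (q r)⁻¹}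
      one_mem' := ⟨one_mem _, by simp⟩
      mul_mem' := fun {a b} ha hb => ⟨mul_mem ha.1 hb.1, by
        rw [show t * (a * b) * t⁻¹ = (t * a * t⁻¹) * (t * b * t⁻¹) by group, map_mul q (t * a * t⁻¹), map_mul q a b,
          ha.2, hb.2,
          ← _root_.mul_inv_rev, (hc b hb.1 a ha.1).eq]⟩
      inv_mem' := fun {a} ha => ⟨inv_mem ha.1, by
        rw [show t * a⁻¹ * t⁻¹ = (t * a * t⁻¹)⁻¹ by group, map_inv, ha.2, map_inv]⟩ }
  have hle : ⁅M, res p G⁆ ≤ T := by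
    refine commutator_le.2 fun w hw g hg => ⟨hMc w hw g, ?_⟩
    set w' := t * w * t⁻¹ with hw'def
    have hw' : w' ∈ M := hMn w hw t
    set x₁ := w ^ 2 * (w' ^ 2)⁻¹ with hx₁
    set κ := w ^ 2 * w' ^ 2 with hκ
    have hx₁M : x₁ ∈ M := mul_mem (pow_mem hw _) (inv_mem (pow_mem hw' _))
    have hκM : κ ∈ M := mul_mem (pow_mem hw _) (pow_mem hw' _)
    have hA : Commute (q (w ^ 2)) (q (w' ^ 2)) := hc _ (pow_mem hw _) _ (pow_mem hw' _)
    have hsplit : q w = q x₁ * q κ := by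
      have h4 : q w = q (w ^ 2) * q (w ^ 2) := by rw [← map_mul, ← pow_add, hpow w hw]
      rw [h4, hx₁, hκ, map_mul, map_mul, map_inv]
      calc q (w ^ 2) * q (w ^ 2) = q (w ^ 2) * ((q (w' ^ 2))⁻¹ * q (w' ^ 2) * q (w ^ 2)) := by
            rw [inv_mul_cancel, one_mul]
        _ = q (w ^ 2) * ((q (w' ^ 2))⁻¹ * (q (w ^ 2) * q (w' ^ 2))) := by rw [hA.eq]; group
        _ = _ := by group
    have htt : q (t * w' * t⁻¹) = q w := by
      rw [show t * w' * t⁻¹ = t * t * w * (t * t)⁻¹ by simp only [hw'def]; group, map_mul, map_mul, map_inv,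
        ← (hcQ w hw _ ht2).eq, mul_inv_cancel_right]
    have hti : q (t * x₁ * t⁻¹) = (q x₁)⁻¹ := by
      rw [show t * x₁ * t⁻¹ = w' ^ 2 * ((t * w' * t⁻¹) ^ 2)⁻¹ by simp only [hx₁, hw'def, conj_pow]; group]
      rw [map_mul, map_inv, map_pow q (t * w' * t⁻¹), htt, hx₁, map_mul, map_inv, ← map_pow, _root_.mul_inv_rev,
        inv_inv]
    have htκ : ⁅t, κ⁆ ∈ N := by
      refine hq1.1 ?_
      rw [commutatorElement_def, map_mul, map_inv, mul_inv_eq_one,
        show t * κ * t⁻¹ = w' ^ 2 * (t * w' * t⁻¹) ^ 2 by simp only [hκ, hw'def, conj_pow]; group,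
        map_mul, map_pow q (t * w' * t⁻¹), htt, hκ, map_mul, ← map_pow, hA.eq]
    have hκg : q ⁅κ, g⁆ = 1 := hq1.2 (hfix κ hκM htκ g hg)
    have hwg : q ⁅w, g⁆ = q ⁅x₁, g⁆ := by
      rw [map_commutatorElement, hsplit, show ⁅q x₁ * q κ, q g⁆ = q x₁ * ⁅q κ, q g⁆ * (q x₁)⁻¹ * ⁅q x₁, q g⁆ by
        simp only [commutatorElement_def]; group, ← map_commutatorElement q κ g, hκg, mul_one, mul_inv_cancel,
        one_mul, map_commutatorElement]
    set n₀ := t * g * t⁻¹ * g⁻¹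
    have hn₀ : n₀ ∈ Cfsg.pCore p G := htg g
    have h1 : q (t * ⁅x₁, g⁆ * t⁻¹) = (q ⁅x₁, g⁆)⁻¹ := by
      have hi : ⁅(q x₁)⁻¹, q g⁆ = (q ⁅x₁, g⁆)⁻¹ := by
        rw [show ⁅(q x₁)⁻¹, q g⁆ = (q x₁)⁻¹ * ⁅q x₁, q g⁆⁻¹ * q x₁ by simp only [commutatorElement_def]; group,
          ← map_commutatorElement, ← map_inv, ← map_inv, (hc _ (inv_mem hx₁M) _ (inv_mem (hMc x₁ hx₁M g))).eq,
          map_inv q x₁, inv_mul_cancel_right, map_inv]
      have h2 : ⁅(q x₁)⁻¹, q n₀⁆ = 1 :=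
        commutatorElement_eq_one_iff_commute.2 (hcQ x₁ hx₁M n₀ hn₀).inv_left
      rw [show t * ⁅x₁, g⁆ * t⁻¹ = ⁅t * x₁ * t⁻¹, n₀ * g⁆ by
        simp only [n₀, commutatorElement_def]; group, map_commutatorElement q (t * x₁ * t⁻¹), hti, map_mul q n₀ g,
        show ⁅(q x₁)⁻¹, q n₀ * q g⁆ = ⁅(q x₁)⁻¹, q n₀⁆ * (q n₀ * ⁅(q x₁)⁻¹, q g⁆ * (q n₀)⁻¹) by
          simp only [commutatorElement_def]; group, h2, one_mul, hi, ← map_inv q ⁅x₁, g⁆,
        ← (hcQ _ (inv_mem (hMc x₁ hx₁M g)) n₀ hn₀).eq, mul_inv_cancel_right]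
    calc q (t * ⁅w, g⁆ * t⁻¹) = q t * q ⁅w, g⁆ * (q t)⁻¹ := by rw [map_mul, map_mul, map_inv]
      _ = q t * q ⁅x₁, g⁆ * (q t)⁻¹ := by rw [hwg]
      _ = (q ⁅x₁, g⁆)⁻¹ := by rw [← map_inv, ← map_mul, ← map_mul, h1]
      _ = (q ⁅w, g⁆)⁻¹ := by rw [hwg]
  intro x hx
  refine hq1.1 ?_
  rw [map_mul, (hle hx).2, inv_mul_cancel]

/-- an element fixed and inverted is trivial -/
theorem mem_of_fixed_inverted {M N : Subgroup G} [N.Normal] {t x : G} (hpow : ∀ w ∈ M, w ^ 4 = w) (hx : x ∈ M)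
    (h1 : ⁅x, t⁆ ∈ N) (h2 : t * x * t⁻¹ * x ∈ N) : x ∈ N := by
  have h3 : x * x ∈ N := by
    have := N.mul_mem h1 h2
    rw [show ⁅x, t⁆ * (t * x * t⁻¹ * x) = x * x by simp only [commutatorElement_def]; group] at this
    exact this
  rw [← hpow x hx, show x ^ 4 = x * x * (x * x) by rw [pow_succ, pow_succ, pow_two, mul_assoc (x * x)]]
  exact mul_mem h3 h3

namespace Std

variable {d : Sit p G F} {ρ : G →* Matrix.SpecialLinearGroup (Fin 2) F} (hs : Std d ρ)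
include hs

section Dist2

variable (e : d.Dist2) (hnM : Nat' ρ e.WB e.K) (htriv : Triv p e.WB (Cfsg.pCore p G)) (hp3 : p = 3)
include e hnM htriv hp3

omit hnM htriv in
theorem WB_pow4 {w : G} (hw : w ∈ e.WB) : w ^ 4 = w := by
  have h := d.WB_pow e (by omega) hw
  rw [show (4 : ℕ) = p + 1 by omega, pow_succ, h, one_mul]

omit hnM htriv in
theorem exists_inverting : ∃ t : G, t ∈ res p G ∧ ρ t = negOne ∧ t * t ∈ Cfsg.pCore p G ∧
    ∀ g, t * g * t⁻¹ * g⁻¹ ∈ Cfsg.pCore p G := by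
  obtain ⟨g, hg⟩ := hs.surj negOne
  obtain ⟨k, m, hm, hkm⟩ := Nat.exists_eq_pow_mul_and_not_dvd (orderOf_pos g).ne' p hp.out.ne_one
  have hcop : (orderOf (g ^ p ^ k)).Coprime p := by
    rw [orderOf_pow_of_dvd (pow_ne_zero _ hp.out.ne_zero) ⟨m, hkm⟩, hkm,
      Nat.mul_div_cancel_left _ (pow_pos hp.out.pos _)]
    exact ((hp.out.coprime_iff_not_dvd).2 hm).symm
  have ht : ρ (g ^ p ^ k) = negOne := by
    rw [map_pow, hg]
    obtain ⟨i, hi⟩ := (hp.out.odd_of_ne_two (by omega : p ≠ 2)).pow (n := k)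
    refine sl_ext ?_
    rw [Matrix.SpecialLinearGroup.coe_pow]
    show (-1 : Matrix (Fin 2) (Fin 2) F) ^ (p ^ k) = -1
    rw [hi, pow_succ, pow_mul, neg_one_sq, one_pow, one_mul]
  refine ⟨_, Cfsg.Lib.Transfer.mem_pResidual_of_coprime hcop, ht, hs.mem_core ?_, fun x => hs.mem_core ?_⟩
  · rw [map_mul, ht]
    exact sl_ext (by rw [cmul, cone]; show (-1 : Matrix (Fin 2) (Fin 2) F) * -1 = 1; simp)
  · have hneg : negOne * ρ x = ρ x * negOne := sl_ext (by
      rw [cmul, cmul]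
      show -1 * (ρ x : Matrix (Fin 2) (Fin 2) F) = (ρ x : Matrix (Fin 2) (Fin 2) F) * -1
      simp)
    rw [map_mul, map_mul, map_mul, map_inv, map_inv, ht, hneg, mul_inv_cancel_right, mul_inv_cancel]

omit hnM htriv in
theorem U0_inf_C : ⁅d.W, res p G⁆ ⊓ d.C = ⊥ := by
  haveI := d.W_normal
  obtain ⟨t, -, ht, ht2, htg⟩ := hs.exists_inverting e hp3
  have hpow : ∀ w ∈ d.W, w ^ 4 = w := fun w hw => hs.WB_pow4 e hp3 (e.ZMW (e.KZM (e.WK hw)))
  rw [eq_bot_iff]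
  intro x hx
  refine mem_of_fixed_inverted (t := t) hpow hx.2.1 ?_ (inverted_comm hpow ?_ ?_ ht2 htg ?_ x hx.1)
  · rw [mem_bot, commutatorElement_eq_one_iff_mul_comm]
    exact (mem_center_iff.1 hx.2.2 t).symm
  · exact fun a ha b hb => mem_bot.2 (commutatorElement_eq_one_iff_mul_comm.2 (d.W_comm ha hb))
  · exact fun a ha z hz => mem_bot.2 (commutatorElement_eq_one_iff_mul_comm.2
      (mem_centralizer_iff.1 (d.core_le_centralizer hz) a ha))
  intro k hk htk x _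
  rw [mem_bot, commutatorElement_eq_one_iff_mul_comm] at htk ⊢
  have h1 := d.inverted hs.nat ht hk
  rw [htk, mul_inv_cancel_right] at h1
  have h2 : k ∈ d.C := by
    rw [← hpow k hk, show k ^ 4 = k * k * (k * k) by rw [pow_succ, pow_succ, pow_two, mul_assoc (k * k)]]
    exact mul_mem h1 h1
  exact (mem_center_iff.1 h2.2 x).symm

omit hp3 in
theorem WB_sup : ⁅e.WB, res p G⁆ ⊔ e.K = e.WB := by
  haveI := e.nWB
  haveI := e.nK
  refine hs.comm_sup hnM fun K' hK' hle hnot => ?_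
  haveI := hK'
  rcases (hnM.chief hs.surj (e.KZM.trans e.ZMW)).1.2.2.2 (K' ⊔ e.K) inferInstance le_sup_right
    (_root_.sup_le hle (e.KZM.trans e.ZMW)) with h | h
  · exact absurd (le_sup_left.trans h.le) hnot
  · exact h

omit hs hnM htriv hp3 in
theorem K_comm {k w : G} (hk : k ∈ e.K) (hw : w ∈ e.WB) : Commute k w := e.DW k (e.KD hk) w hw

omit hs hnM htriv hp3 in
theorem WB'_le_C : ⁅e.WB, e.WB⁆ ≤ d.C := commutator_le.2 fun a ha b hb => e.WQ a ha b (e.WBQ hb)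

omit hs hnM htriv hp3 in
theorem WB_comm_Q {w z : G} (hw : w ∈ e.WB) (hz : z ∈ Cfsg.pCore p G) : ⁅w, z⁆ ∈ ⁅e.WB, e.WB⁆ := by
  obtain ⟨w', hw', k, hk, rfl⟩ := e.decQ z hz
  rw [d.comm_mul_right, show ⁅w, k⁆ = 1 from commutatorElement_eq_one_iff_mul_comm.2 (e.DW k hk w hw).symm,
    mul_one, mul_inv_cancel, mul_one]
  exact commutator_mem_commutator hw hw'

omit hp3 in
theorem WB'_eq : ⁅⁅e.WB, res p G⁆, ⁅e.WB, res p G⁆⁆ = ⁅e.WB, e.WB⁆ := by
  haveI := e.nWB
  haveI := e.nK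
  haveI := res_normal (p := p) (G := G)
  refine le_antisymm (commutator_mono (commutator_le_left _ _) (commutator_le_left _ _))
    (commutator_le.2 fun a ha b hb => ?_)
  obtain ⟨u, hu, k, hk, rfl⟩ := mem_sup_of_normal_right.1 ((hs.WB_sup e hnM htriv).ge ha)
  obtain ⟨u', hu', k', hk', rfl⟩ := mem_sup_of_normal_right.1 ((hs.WB_sup e hnM htriv).ge hb)
  have c1 : Commute k (u' * k') := K_comm e hk hb
  have c2 : Commute u k' := (K_comm e hk' (commutator_le_left e.WB (res p G) hu)).symm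
  rw [show ⁅u * k, u' * k'⁆ = (u * ⁅k, u' * k'⁆ * u⁻¹) * ⁅u, u' * k'⁆ by
      simp only [commutatorElement_def]; group,
    commutatorElement_eq_one_iff_commute.2 c1, mul_one, mul_inv_cancel, one_mul, d.comm_mul_right,
    commutatorElement_eq_one_iff_commute.2 c2, mul_one, mul_inv_cancel, mul_one]
  exact commutator_mem_commutator hu hu'

omit hp3 in
theorem WB'_le : ⁅e.WB, e.WB⁆ ≤ ⁅e.WB, res p G⁆ := by
  haveI := e.nWB
  haveI := res_normal (p := p) (G := G)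
  rw [← hs.WB'_eq e hnM htriv]
  exact commutator_le_left _ _

omit hnM hp3 in
theorem K_comm_res : ⁅e.K, res p G⁆ ≤ ⁅d.W, res p G⁆ := by
  haveI := d.W_normal
  haveI := res_normal (p := p) (G := G)
  exact triv_iff.1 (Triv.trans (d.c.S.2.to_le d.W_le_S) (triv_iff.2 le_rfl) fun g _ x hx => e.fixK x hx g)

theorem inf_K : ⁅e.WB, res p G⁆ ⊓ e.K = ⁅d.W, res p G⁆ ⊔ ⁅e.WB, e.WB⁆ := by
  haveI := e.nWB
  haveI := e.nK
  haveI := d.W_normal
  haveI := d.C_normal
  haveI := res_normal (p := p) (G := G)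
  set E := res p G
  set N := ⁅d.W, E⁆ ⊔ ⁅e.WB, e.WB⁆
  have hNK : N ≤ e.K :=
    _root_.sup_le ((commutator_le_left d.W E).trans e.WK) ((WB'_le_C e).trans (inf_le_left.trans e.WK))
  refine le_antisymm ?_ (le_inf (_root_.sup_le (commutator_mono (e.WK.trans (e.KZM.trans e.ZMW)) le_rfl)
    (hs.WB'_le e hnM htriv)) hNK)
  obtain ⟨t, htE, ht, ht2, htg⟩ := hs.exists_inverting e hp3
  have hpow : ∀ w ∈ e.WB, w ^ 4 = w := fun w hw => hs.WB_pow4 e hp3 hw
  intro x hx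
  refine mem_of_fixed_inverted (t := t) hpow (e.ZMW (e.KZM hx.2))
    (mem_sup_left (hs.K_comm_res e htriv (commutator_mem_commutator hx.2 htE)))
    (inverted_comm hpow ?_ ?_ ht2 htg ?_ x hx.1)
  · exact fun a ha b hb => mem_sup_right (commutator_mem_commutator ha hb)
  · exact fun a ha z hz => mem_sup_right (WB_comm_Q e ha hz)
  intro k hk htk g hg
  have hkK : k ∈ e.K := by
    obtain ⟨l, hadd, -, hker, hequi⟩ := hnM
    have hc : t * k * t⁻¹ ∈ e.WB := Normal.conj_mem inferInstance k hk t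
    have h1 : t * k * t⁻¹ * k ∈ e.K := by
      refine (hker _ (mul_mem hc hk)).1 ?_
      rw [hadd _ hc _ hk, hequi t k hk, ht]
      show (-1 : Matrix (Fin 2) (Fin 2) F) *ᵥ l k + l k = 0
      rw [Matrix.neg_mulVec, Matrix.one_mulVec, neg_add_cancel]
    refine mem_of_fixed_inverted (t := t) hpow hk ?_ h1
    rw [← commutatorElement_inv]
    exact inv_mem (hNK htk)
  exact mem_sup_left (hs.K_comm_res e htriv (commutator_mem_commutator hkK hg))

omit hnM hp3 in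
theorem Q_comm_res : ⁅Cfsg.pCore p G, res p G⁆ ≤ ⁅e.WB, res p G⁆ := by
  haveI := e.nWB
  haveI := res_normal (p := p) (G := G)
  exact triv_iff.1 (Triv.trans ((Cfsg.Lib.Components.isPGroup_pCore p).to_le e.WBQ) (triv_iff.2 le_rfl) htriv)

omit hnM hp3 in
theorem res_fix_D' : ⁅e.D, e.D⁆ ≤ centralizer (res p G : Set G) := by
  haveI := e.nD
  haveI := e.nWB
  refine commutator_le.2 fun x hx y hy => mem_centralizer_iff.2 fun g hg => ?_
  have hmv : ∀ x ∈ e.D, ∃ c ∈ e.D, c ∈ e.WB ∧ g * x * g⁻¹ = c * x := fun x hx => by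
    refine ⟨g * x * g⁻¹ * x⁻¹, mul_mem (Normal.conj_mem inferInstance x hx g) (inv_mem hx), ?_, by group⟩
    have := inv_mem (commutator_le_left e.WB (res p G)
      (hs.Q_comm_res e htriv (commutator_mem_commutator (e.DQ hx) hg)))
    rwa [commutatorElement_inv, commutatorElement_def] at this
  obtain ⟨c, hcD, hcW, hc⟩ := hmv x hx
  obtain ⟨c', hcD', hcW', hc'⟩ := hmv y hy
  have a1 : Commute c (c' * y) := (show Commute (c' * y) c from e.DW _ (mul_mem hcD' hy) c hcW).symm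
  have a2 : Commute x c' := e.DW x hx c' hcW'
  have a3 : Commute c' ⁅x, y⁆ :=
    (show Commute ⁅x, y⁆ c' from e.DW _ (commutator_le_left e.D e.D (commutator_mem_commutator hx hy)) c' hcW').symm
  have a4 : Commute c ⁅x, y⁆ :=
    (show Commute ⁅x, y⁆ c from e.DW _ (commutator_le_left e.D e.D (commutator_mem_commutator hx hy)) c hcW).symm
  have h1 : g * ⁅x, y⁆ * g⁻¹ = ⁅x, y⁆ := by
    rw [d.comm_conj, hc, hc', show ⁅c * x, c' * y⁆ = c * ⁅x, c' * y⁆ * c⁻¹ * ⁅c, c' * y⁆ by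
        simp only [commutatorElement_def]; group,
      commutatorElement_eq_one_iff_commute.2 a1, mul_one, d.comm_mul_right,
      commutatorElement_eq_one_iff_commute.2 a2, one_mul, a3.eq, mul_inv_cancel_right, a4.eq, mul_inv_cancel_right]
  calc g * ⁅x, y⁆ = g * ⁅x, y⁆ * g⁻¹ * g := by group
    _ = ⁅x, y⁆ * g := by rw [h1]

omit hs hnM htriv hp3 in
/-- elements of the abelian complement commute with the derived group -/
theorem A2_fix_D' {a : G} (ha : a ∈ e.A2) : ⁅e.D, e.D⁆ ≤ centralizer ({a} : Set G) := by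
  haveI := e.nD
  refine commutator_le.2 fun x hx y hy => mem_centralizer_singleton_iff.2 ?_
  have hDS : e.D ≤ d.S := e.DQ.trans d.c.core_le
  have hx' : ∀ {x}, x ∈ e.D → ∃ c ∈ d.Z, a * x * a⁻¹ = c * x := fun {x} hx =>
    ⟨⁅x, a⁆⁻¹, inv_mem (e.DA2 x hx a ha), by rw [commutatorElement_def]; group⟩
  obtain ⟨c, hc, e1⟩ := hx' hx
  obtain ⟨c', hc', e2⟩ := hx' hy
  have hxy : ⁅x, y⁆ ∈ d.S := hDS (commutator_le_left e.D e.D (commutator_mem_commutator hx hy))
  have hfx : a * ⁅x, y⁆ * a⁻¹ = ⁅x, y⁆ := by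
    rw [d.comm_conj, e1, e2, show ⁅c * x, c' * y⁆ =
      c * (x * c' * x⁻¹) * (⁅x, y⁆ * (y * c⁻¹ * y⁻¹) * ⁅x, y⁆⁻¹) * (⁅x, y⁆ * c'⁻¹ * ⁅x, y⁆⁻¹) * ⁅x, y⁆ by
        simp only [commutatorElement_def]; group,
      d.Z_fix hc' (hDS hx), d.Z_fix (inv_mem hc) (hDS hy), d.Z_fix (inv_mem hc) hxy,
      d.Z_fix (inv_mem hc') hxy, show c * c' = c' * c from d.W_comm hc.1 hc'.1]
    group
  calc ⁅x, y⁆ * a = a * ⁅x, y⁆ * a⁻¹ * a := by rw [hfx]
    _ = a * ⁅x, y⁆ := by group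

omit hs hnM htriv hp3 in
/-- the derived group of the Sylow subgroup -/
theorem S'_le : ⁅d.S, d.S⁆ ≤ e.ZM ⊔ ⁅e.D, e.D⁆ := by
  haveI := e.nD
  have hA2le : e.A2 ≤ d.S := le_sup_left.trans e.A2S.le
  have hDS : e.D ≤ d.S := e.DQ.trans d.c.core_le
  have hWS : e.WB ≤ d.S := e.WBQ.trans d.c.core_le
  have hZZM : d.Z ≤ e.ZM := fun c hc => e.KZM (e.WK hc.1)
  have hZMn : d.S ≤ normalizer (e.ZM : Set G) := le_normalizer_of_forall fun s hs => by
    rintro _ ⟨x, hx, rfl⟩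
    show s * x * s⁻¹ ∈ e.ZM
    rw [show s * x * s⁻¹ = ⁅x, s⁆⁻¹ * x by simp only [commutatorElement_def]; group]
    exact mul_mem (hZZM (inv_mem (e.fixZ x hx s hs))) hx
  set N₁ := e.ZM ⊔ ⁅e.D, e.D⁆
  have hN₁n : d.S ≤ normalizer (N₁ : Set G) := le_normalizer_of_forall fun s hs => by
    simp only [N₁]
    rw [cj_sup, cj_eq_of_mem (hZMn hs), cj_eq_of_mem ((normalizer_eq_top (H := ⁅e.D, e.D⁆)).ge (mem_top s))]
  haveI : (N₁.subgroupOf d.S).Normal := normal_subgroupOf_of_le_normalizer hN₁n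
  set r := QuotientGroup.mk' (N₁.subgroupOf d.S)
  have hrc : ∀ (x z : ↥d.S), ⁅(x : G), (z : G)⁆ ∈ N₁ → Commute (r x) (r z) := fun x z h => by
    rw [← commutatorElement_eq_one_iff_commute, ← map_commutatorElement]
    exact (QuotientGroup.eq_one_iff _).2 (mem_subgroupOf.2 h)
  have hinv : ∀ {a b : G}, ⁅b, a⁆ ∈ N₁ → ⁅a, b⁆ ∈ N₁ := fun {a b} h => by
    rw [← commutatorElement_inv]; exact inv_mem h
  have h1 : ∀ {a b : G}, a * b = b * a → ⁅a, b⁆ ∈ N₁ := fun {a b} h => by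
    rw [commutatorElement_eq_one_iff_mul_comm.2 h]; exact one_mem _
  refine commutator_le.2 fun s hs t ht => ?_
  obtain ⟨a, ha, w, hw, k, hk, rfl⟩ := d.mem_S₂ e hs
  obtain ⟨a', ha', w', hw', k', hk', rfl⟩ := d.mem_S₂ e ht
  let A' : ↥d.S := ⟨a, hA2le ha⟩
  let W' : ↥d.S := ⟨w, hWS hw⟩
  let K' : ↥d.S := ⟨k, hDS hk⟩
  let A₂' : ↥d.S := ⟨a', hA2le ha'⟩
  let W₂' : ↥d.S := ⟨w', hWS hw'⟩
  let K₂' : ↥d.S := ⟨k', hDS hk'⟩
  have c1 : Commute (r A') (r A₂') := hrc _ _ (h1 (e.A2ab a ha a' ha'))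
  have c2 : Commute (r A') (r W₂') := hrc _ _ (hinv (mem_sup_left (e.move w' hw' a (hA2le ha))))
  have c3 : Commute (r A') (r K₂') := hrc _ _ (hinv (mem_sup_left (hZZM (e.DA2 k' hk' a ha))))
  have c4 : Commute (r W') (r A₂') := hrc _ _ (mem_sup_left (e.move w hw a' (hA2le ha')))
  have c5 : Commute (r W') (r W₂') := hrc _ _ (mem_sup_left (hZZM (d.C_le (e.WQ w hw w' (e.WBQ hw')))))
  have c6 : Commute (r W') (r K₂') := hrc _ _ (mem_sup_left (hZZM (d.C_le (e.WQ w hw k' (e.DQ hk')))))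
  have c7 : Commute (r K') (r A₂') := hrc _ _ (mem_sup_left (hZZM (e.DA2 k hk a' ha')))
  have c8 : Commute (r K') (r W₂') := hrc _ _ (h1 (e.DW k hk w' hw'))
  have c9 : Commute (r K') (r K₂') := hrc _ _ (mem_sup_right (commutator_mem_commutator hk hk'))
  have hc : Commute (r (A' * (W' * K'))) (r (A₂' * (W₂' * K₂'))) := by
    simp only [map_mul]
    exact (c1.mul_right (c2.mul_right c3)).mul_left ((c4.mul_right (c5.mul_right c6)).mul_left
      (c7.mul_right (c8.mul_right c9)))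
  have h := commutatorElement_eq_one_iff_commute.2 hc
  rw [← map_commutatorElement] at h
  exact mem_subgroupOf.1 ((QuotientGroup.eq_one_iff _).1 h)

omit hnM htriv in
/-- the centraliser of the derived group of the Sylow subgroup lies in the core -/
theorem cent_S'_le : d.S ⊓ centralizer ((⁅d.S, d.S⁆ : Subgroup G) : Set G) ≤ Cfsg.pCore p G := by
  haveI : CharP F p := charP_of_card_eq_prime_pow d.c.hF
  haveI := d.c.core_normal
  haveI := res_normal (p := p) (G := G)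
  set X := d.S ⊓ centralizer ((⁅d.S, d.S⁆ : Subgroup G) : Set G)
  by_contra hnot
  obtain ⟨x, hx, hxQ⟩ := SetLike.not_le_iff_exists.1 hnot
  let Xs : AddSubgroup F :=
    { carrier := {y | ∃ r ∈ X, ρ r = uS y}
      zero_mem' := ⟨1, one_mem _, by rw [map_one, uS_zero]⟩
      add_mem' := by
        rintro a b ⟨r, hr, e⟩ ⟨r', hr', e'⟩
        exact ⟨r * r', mul_mem hr hr', by rw [map_mul, e, e', ← uS_add]⟩
      neg_mem' := by
        rintro a ⟨r, hr, e⟩
        refine ⟨r⁻¹, inv_mem hr, ?_⟩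
        rw [map_inv, e]
        exact (eq_inv_of_mul_eq_one_left (by rw [← uS_add, neg_add_cancel, uS_zero])).symm }
  obtain ⟨y, hy⟩ := hs.up x hx.1
  have hy0 : y ≠ 0 := fun h => hxQ (hs.mem_core (by rw [hy, h, uS_zero]))
  have hall : ∀ a, a ∈ Xs := by
    rcases le_or_gt (Fintype.card F) 3 with h3 | h3
    · haveI : Fact (Nat.card F).Prime := ⟨by
        have h1 := Fintype.one_lt_card (α := F)
        rw [Nat.card_eq_fintype_card]
        obtain h2 | h2 : Fintype.card F = 2 ∨ Fintype.card F = 3 := by omega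
        · rw [h2]; exact Nat.prime_two
        · rw [h2]; exact Nat.prime_three⟩
      have hX : Xs = ⊤ := Xs.eq_bot_or_eq_top_of_prime_card.resolve_left fun hb =>
        hy0 (AddSubgroup.mem_bot.1 (hb ▸ (show y ∈ Xs from ⟨x, hx, hy⟩)))
      exact fun a => hX.ge (AddSubgroup.mem_top a)
    · refine eq_top_of_squares (p := p) (fun l z hz => ?_) (show y ∈ Xs from ⟨x, hx, hy⟩) hy0
      rcases eq_or_ne l 0 with rfl | hl
      · rw [zero_mul, zero_mul]; exact Xs.zero_mem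
      obtain ⟨r, hr, hrz⟩ := hz
      obtain ⟨h, hh⟩ := hs.surj (tS l)
      have hS : ∀ s ∈ d.S, h * s * h⁻¹ ∈ d.S := fun s hs' => by
        obtain ⟨w, hw⟩ := hs.up s hs'
        exact hs.mem_S (x := l * l * w) (by rw [map_mul, map_mul, map_inv, hh, hw, tS_conj_uS hl])
      have hcj : cj h d.S = d.S := Subgroup.eq_of_le_of_card_ge
        (by rintro _ ⟨s, hs', rfl⟩; exact hS s hs') (card_cj _ _).ge
      refine ⟨h * r * h⁻¹, ⟨hS r hr.1, mem_centralizer_iff.2 fun m hm => ?_⟩,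
        by rw [map_mul, map_mul, map_inv, hh, hrz, tS_conj_uS hl]⟩
      have hm' : h⁻¹ * m * h ∈ ⁅d.S, d.S⁆ := by
        have := mem_cj.1 (show m ∈ cj h ⁅d.S, d.S⁆ by rwa [cj_comm, hcj])
        exact this
      have e1 := mem_centralizer_iff.1 hr.2 _ hm'
      calc m * (h * r * h⁻¹) = h * (h⁻¹ * m * h * r) * h⁻¹ := by group
        _ = h * (r * (h⁻¹ * m * h)) * h⁻¹ := by rw [e1]
        _ = h * r * h⁻¹ * m := by group
  obtain ⟨a, ha, b, hb, -, hne⟩ := e.crit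
  have haS : a ∈ d.S := e.A2S.le (mem_sup_left ha)
  have hbS : b ∈ d.S := d.c.core_le (e.WBQ hb)
  obtain ⟨z, hz⟩ := hs.up a haS
  obtain ⟨r, hr, hrz⟩ := hall z
  have hk : r⁻¹ * a ∈ Cfsg.pCore p G := hs.mem_core (by rw [map_mul, map_inv, hz, hrz, inv_mul_cancel])
  refine hne ?_
  set m := ⁅a, b⁆
  have hmZ : m ∈ e.ZM := by rw [← inv_mem_iff, commutatorElement_inv]; exact e.move b hb a haS
  have hrm : ⁅r, m⁆ = 1 := commutatorElement_eq_one_iff_mul_comm.2
    (mem_centralizer_iff.1 hr.2 m (commutator_mem_commutator haS hbS)).symm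
  have hkm : ⁅r⁻¹ * a, m⁆ ∈ d.C := by
    rw [← commutatorElement_inv]; exact inv_mem (e.WQ m (e.ZMW hmZ) _ hk)
  haveI := d.C_normal
  rw [show a = r * (r⁻¹ * a) by group, show ⁅r * (r⁻¹ * a), m⁆ = r * ⁅r⁻¹ * a, m⁆ * r⁻¹ * ⁅r, m⁆ by
    simp only [commutatorElement_def]; group, hrm, mul_one]
  exact Normal.conj_mem inferInstance _ hkm r

omit hnM in
/-- the fixed elements of the derived group of `D` commute -/
theorem D1_comm (hd : NoChar d.c) {k k' : G} (hk : k ∈ e.D) (hk' : k' ∈ e.D)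
    (hkc : k ∈ centralizer ((⁅e.D, e.D⁆ : Subgroup G) : Set G)) (hkc' : k' ∈ centralizer ((⁅e.D, e.D⁆ : Subgroup G) : Set G)) :
    Commute k k' := by
  haveI := e.nWB
  haveI := e.nD
  set X := d.S ⊓ centralizer ((⁅d.S, d.S⁆ : Subgroup G) : Set G) with hX
  have hmem : ∀ k ∈ e.D, k ∈ centralizer ((⁅e.D, e.D⁆ : Subgroup G) : Set G) → k ∈ X := fun k hk hkc => by
    refine ⟨d.c.core_le (e.DQ hk), ?_⟩
    have h : e.ZM ⊔ ⁅e.D, e.D⁆ ≤ centralizer ({k} : Set G) := _root_.sup_le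
      (fun z hz => mem_centralizer_singleton_iff.2 (e.DW k hk z (e.ZMW hz)).symm)
      (fun z hz => mem_centralizer_singleton_iff.2 (mem_centralizer_iff.1 hkc z hz))
    exact mem_centralizer_iff.2 fun m hm => mem_centralizer_singleton_iff.1 (h (S'_le e hm))
  set Xs : Subgroup ↥d.S := centralizer ((⁅(⊤ : Subgroup ↥d.S), (⊤ : Subgroup ↥d.S)⁆ : Subgroup ↥d.S) : Set ↥d.S)
    with hXs
  haveI : Xs.Characteristic := inferInstanceAs (centralizer _).Characteristic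
  have htm : (⁅(⊤ : Subgroup ↥d.S), (⊤ : Subgroup ↥d.S)⁆).map d.S.subtype = ⁅d.S, d.S⁆ := by
    rw [map_commutator, d.top_map]
  have hXmap : Xs.map d.S.subtype = X := by
    ext z
    constructor
    · rintro ⟨z, hz, rfl⟩
      refine ⟨z.2, mem_centralizer_iff.2 ?_⟩
      rw [← htm]
      rintro _ ⟨m, hm, rfl⟩
      exact congrArg Subtype.val (mem_centralizer_iff.1 hz m hm)
    · intro hz
      exact ⟨⟨z, hz.1⟩, mem_centralizer_iff.2 fun m hm => Subtype.ext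
        (mem_centralizer_iff.1 hz.2 _ (htm ▸ mem_map_of_mem d.S.subtype hm)), rfl⟩
  haveI : (⁅Xs, Xs⁆).Characteristic := inferInstance
  have hTmap : (⁅Xs, Xs⁆).map d.S.subtype = ⁅X, X⁆ := by rw [map_commutator, hXmap]
  have hfix : ⁅X, X⁆ ≤ centralizer (res p G : Set G) := by
    refine (commutator_mono (hs.cent_S'_le e hp3) (hs.cent_S'_le e hp3)).trans (commutator_le.2 fun z hz z' hz' => ?_)
    obtain ⟨w, hw, k, hk, rfl⟩ := e.decQ z hz
    obtain ⟨w', hw', k', hk', rfl⟩ := e.decQ z' hz'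
    have hkk : ⁅k, k'⁆ ∈ ⁅e.D, e.D⁆ := commutator_mem_commutator hk hk'
    have a1 : Commute k w' := e.DW k hk w' hw'
    have a2 : Commute ⁅k, k'⁆ w' := e.DW _ (commutator_le_left _ _ hkk) w' hw'
    have a3 : Commute ⁅k, k'⁆ w := e.DW _ (commutator_le_left _ _ hkk) w hw
    have a4 : ⁅w, w' * k'⁆ ∈ d.C := e.WQ w hw _ hz'
    rw [show ⁅w * k, w' * k'⁆ = w * ⁅k, w' * k'⁆ * w⁻¹ * ⁅w, w' * k'⁆ by simp only [commutatorElement_def]; group,
      d.comm_mul_right, commutatorElement_eq_one_iff_commute.2 a1, one_mul, a2.symm.eq, mul_inv_cancel_right,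
      a3.symm.eq, mul_inv_cancel_right]
    exact mul_mem (hs.res_fix_D' e htriv hkk) (mem_centralizer_iff.2 fun g _ => mem_center_iff.1 (mem_inf.1 a4).2 g)
  have hn : ((⁅Xs, Xs⁆).map d.S.subtype).Normal := by
    rw [← normalizer_eq_top_iff, eq_top_iff, ← Cfsg.Lib.Transfer.pResidual_sup_sylow d.c.S]
    refine _root_.sup_le (le_normalizer_of_forall fun g hg => ?_) (le_normalizer_of_forall fun s hs' => ?_)
    · rintro _ ⟨m, hm, rfl⟩
      have e1 := mem_centralizer_iff.1 (hfix (hTmap.le hm)) g hg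
      show g * m * g⁻¹ ∈ _
      rw [e1, mul_inv_cancel_right]
      exact hm
    · rintro _ ⟨_, ⟨m, hm, rfl⟩, rfl⟩
      exact ⟨_, (inferInstance : (⁅Xs, Xs⁆).Normal).conj_mem m hm ⟨s, hs'⟩, rfl⟩
  have hbot := d.char_bot hd hn
  rw [hbot, Subgroup.map_bot] at hTmap
  exact commutatorElement_eq_one_iff_commute.1 (mem_bot.1 (hTmap.symm ▸
    commutator_mem_commutator (hmem k hk hkc) (hmem k' hk' hkc')))

theorem res_inf_core₂ (hd : NoChar d.c) : res p G ⊓ Cfsg.pCore p G = ⁅e.WB, res p G⁆ := by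
  haveI := res_normal (p := p) (G := G)
  haveI := d.c.core_normal
  haveI := e.nWB
  haveI := e.nK
  haveI := e.nD
  haveI : (⁅e.WB, res p G⁆).Normal := inferInstance
  set E := res p G
  set Q0 := ⁅e.WB, E⁆
  refine le_antisymm ?_ (le_inf (commutator_le_right e.WB E) ((commutator_le_left e.WB E).trans e.WBQ))
  have hfix : ∀ u ∈ Cfsg.pCore p G, ∀ g ∈ E, ⁅u, g⁆ ∈ Q0 := fun u hu g hg =>
    hs.Q_comm_res e htriv (commutator_mem_commutator hu hg)
  refine le_of_central d.c.S ?_ (inf_le_right.trans d.c.core_le) inf_le_left fun u hu g hg => hfix u hu.2 g hg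
  set q := QuotientGroup.mk' Q0
  have hq1 : ∀ {x}, q x = 1 ↔ x ∈ Q0 := fun {x} => QuotientGroup.eq_one_iff x
  have hdec : ∀ s ∈ E ⊓ d.S, ∃ a ∈ e.A2, ∃ k ∈ e.D, k ∈ centralizer ((⁅e.D, e.D⁆ : Subgroup G) : Set G) ∧ q s = q a * q k ∧
      s ∈ E := by
    rintro s ⟨hsE, hsS⟩
    obtain ⟨a, ha, w, hw, k, hk, rfl⟩ := d.mem_S₂ e hsS
    obtain ⟨u, hu, k0, hk0, rfl⟩ := mem_sup_of_normal_right.1 ((hs.WB_sup e hnM htriv).ge hw)
    refine ⟨a, ha, k0 * k, mul_mem (e.KD hk0) hk, mem_centralizer_iff.2 fun m hm => ?_, ?_, hsE⟩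
    · have hu' : u ∈ e.WB := commutator_le_left _ _ hu
      have c1 : Commute m (a * (u * k0 * k)) := (mem_centralizer_iff.1 (hs.res_fix_D' e htriv hm) _ hsE).symm
      have c2 : Commute m a := mem_centralizer_singleton_iff.1 (A2_fix_D' e ha hm)
      have c3 : Commute m u := e.DW m (commutator_le_left _ _ hm) u hu'
      have := (c3.inv_right).mul_right ((c2.inv_right).mul_right c1)
      rwa [show u⁻¹ * (a⁻¹ * (a * (u * k0 * k))) = k0 * k by group] at this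
    · simp only [map_mul, hq1.2 hu, one_mul]
  refine commutator_le.2 fun s hs' t ht => ?_
  obtain ⟨a, ha, k, hk, hkc, hsk, hsE⟩ := hdec s hs'
  obtain ⟨a', ha', k', hk', hkc', htk, htE⟩ := hdec t ht
  have hQE : ∀ k ∈ e.D, ∀ g ∈ E, Commute (q k) (q g) := fun k hk g hg => by
    rw [← commutatorElement_eq_one_iff_commute, ← map_commutatorElement]
    exact hq1.2 (hfix k (e.DQ hk) g hg)
  have ckk : Commute (q k) (q k') := (hs.D1_comm e htriv hp3 hd hk hk' hkc hkc').map q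
  have caa : Commute (q a) (q a') := (show Commute a a' from e.A2ab a ha a' ha').map q
  have ck'a : Commute (q k') (q a) := by
    have h := (hQE k' hk' s hsE).mul_right ckk.symm.inv_right
    rwa [hsk, mul_inv_cancel_right] at h
  have cka' : Commute (q k) (q a') := by
    have h := (hQE k hk t htE).mul_right ckk.inv_right
    rwa [htk, mul_inv_cancel_right] at h
  have hc : Commute (q s) (q t) := by
    rw [hsk, htk]
    exact (caa.mul_right ck'a.symm).mul_left (cka'.mul_right ckk)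
  refine hq1.1 ?_
  rw [map_commutatorElement, commutatorElement_eq_one_iff_commute]
  exact hc

theorem exc_core (hd : NoChar d.c) : Cfsg.pCoreOf p (res p G) = ⁅e.WB, res p G⁆ := by
  rw [hs.pCoreOf_res, hs.res_inf_core₂ e hnM htriv hp3 hd]

theorem card_comm_ge : p ^ d.c.n ≤ Nat.card ↥⁅d.W, d.S⁆ := by
  haveI := d.W_normal
  obtain ⟨l, hadd, hsurj, hker, hequi⟩ := hs.nat
  obtain ⟨s, hsS, hs1⟩ := hs.up_surj 1
  choose w hw hlw using fun y : F => hsurj ![0, y]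
  let f : F → ↥⁅d.W, d.S⁆ := fun y => ⟨⁅w y, s⁆, commutator_mem_commutator (hw y) hsS⟩
  rw [← d.c.hF, ← Nat.card_eq_fintype_card]
  refine Nat.card_le_card_of_injective f fun y y' h => ?_
  have key : ∀ y, l ⁅w y, s⁆ 0 = -y := fun y => by
    have hsw : s * (w y)⁻¹ * s⁻¹ ∈ d.W := Normal.conj_mem inferInstance _ (inv_mem (hw y)) s
    have hli : l (w y)⁻¹ = -l (w y) := by
      refine eq_neg_of_add_eq_zero_left ?_
      rw [← hadd _ (inv_mem (hw y)) _ (hw y), inv_mul_cancel]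
      exact (hker 1 (one_mem _)).2 (one_mem _)
    rw [show ⁅w y, s⁆ = w y * (s * (w y)⁻¹ * s⁻¹) by simp only [commutatorElement_def]; group,
      hadd _ (hw y) _ hsw, hequi s _ (inv_mem (hw y)), hs1, hli, hlw, coe_uS]
    simp [Matrix.mulVec, dotProduct, Fin.sum_univ_two]
  have h' : ⁅w y, s⁆ = ⁅w y', s⁆ := congrArg Subtype.val h
  exact neg_injective ((key y).symm.trans ((congrArg (fun x => l x 0) h').trans (key y')))

omit htriv in
theorem WB'_card_le : Nat.card ↥⁅e.WB, e.WB⁆ ≤ p ^ d.c.n := by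
  haveI := e.nWB
  haveI := e.nK
  obtain ⟨l, hadd, hsurj, hker, hequi⟩ := hnM
  choose sec hsec hlsec using hsurj
  have hcen : ∀ {a b}, a ∈ e.WB → b ∈ e.WB → ⁅a, b⁆ ∈ center G := fun {a b} ha hb =>
    (mem_inf.1 (e.WQ a ha b (e.WBQ hb))).2
  have hfix : ∀ {a b}, a ∈ e.WB → b ∈ e.WB → ∀ g : G, g * ⁅a, b⁆ * g⁻¹ = ⁅a, b⁆ := fun {a b} ha hb g => by
    rw [mem_center_iff.1 (hcen ha hb) g, mul_inv_cancel_right]
  let φ : (Fin 2 → F) → (Fin 2 → F) → G := fun v v' => ⁅sec v, sec v'⁆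
  have hφ : ∀ {a b}, a ∈ e.WB → b ∈ e.WB → ⁅a, b⁆ = φ (l a) (l b) := fun {a b} ha hb => by
    have hsplit : ∀ a ∈ e.WB, ∃ k ∈ e.K, a = sec (l a) * k := fun a ha => by
      refine ⟨(sec (l a))⁻¹ * a, (hker _ (mul_mem (inv_mem (hsec _)) ha)).1 ?_, by group⟩
      have h := hadd _ (hsec (l a)) _ (mul_mem (inv_mem (hsec (l a))) ha)
      rw [mul_inv_cancel_left, hlsec, left_eq_add] at h
      exact h
    obtain ⟨k, hk, hak⟩ := hsplit a ha
    obtain ⟨k', hk', hbk⟩ := hsplit b hb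
    have c1 : Commute k b := K_comm e hk hb
    have c2 : Commute (sec (l a)) k' := (K_comm e hk' (hsec _)).symm
    conv_lhs => rw [hak]
    rw [show ⁅sec (l a) * k, b⁆ = sec (l a) * ⁅k, b⁆ * (sec (l a))⁻¹ * ⁅sec (l a), b⁆ by
      simp only [commutatorElement_def]; group, commutatorElement_eq_one_iff_commute.2 c1, mul_one, mul_inv_cancel,
      one_mul]
    conv_lhs => rw [hbk]
    rw [d.comm_mul_right, commutatorElement_eq_one_iff_commute.2 c2, mul_one, mul_inv_cancel, mul_one]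
  have addr : ∀ u v v', φ u (v + v') = φ u v * φ u v' := fun u v v' => by
    have h : l (sec v * sec v') = v + v' := by rw [hadd _ (hsec _) _ (hsec _), hlsec, hlsec]
    have h1 := hφ (hsec u) (mul_mem (hsec v) (hsec v'))
    rw [h, hlsec, d.comm_mul_right, hfix (hsec u) (hsec v')] at h1
    exact h1.symm
  have addl : ∀ u u' v, φ (u + u') v = φ u v * φ u' v := fun u u' v => by
    have h : l (sec u * sec u') = u + u' := by rw [hadd _ (hsec _) _ (hsec _), hlsec, hlsec]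
    have h1 := hφ (mul_mem (hsec u) (hsec u')) (hsec v)
    rw [h, hlsec, show ⁅sec u * sec u', sec v⁆ = sec u * ⁅sec u', sec v⁆ * (sec u)⁻¹ * ⁅sec u, sec v⁆ by
      simp only [commutatorElement_def]; group, hfix (hsec u') (hsec v)] at h1
    rw [← h1]
    exact mem_center_iff.1 (hcen (hsec u) (hsec v)) _ |>.trans rfl
  have inv : ∀ (m : Matrix.SpecialLinearGroup (Fin 2) F) (u v : Fin 2 → F),
      φ ((m : Matrix (Fin 2) (Fin 2) F) *ᵥ u) ((m : Matrix (Fin 2) (Fin 2) F) *ᵥ v) = φ u v := fun m u v => by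
    obtain ⟨g, rfl⟩ := hs.surj m
    have h := hφ (Normal.conj_mem inferInstance _ (hsec u) g) (Normal.conj_mem inferInstance _ (hsec v) g)
    rw [hequi g _ (hsec u), hequi g _ (hsec v), hlsec, hlsec] at h
    rw [← h, ← d.comm_conj, hfix (hsec u) (hsec v)]
  have hzero : ∀ u, φ u 0 = 1 ∧ φ 0 u = 1 := fun u => by
    have h1 := addr u 0 0
    have h2 := addl 0 0 u
    rw [add_zero, left_eq_mul] at h1 h2
    exact ⟨h1, h2⟩
  have hdiag : ∀ x y : F, φ ![x, 0] ![0, y] = φ ![1, 0] ![0, x * y] := fun x y => by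
    rcases eq_or_ne x 0 with rfl | hx
    · rw [show (![0, 0] : Fin 2 → F) = 0 by funext i; fin_cases i <;> rfl, (hzero _).2,
        show (![0, (0 : F) * y] : Fin 2 → F) = 0 by funext i; fin_cases i <;> simp, (hzero _).1]
    · rw [← inv (tS x) ![1, 0] ![0, x * y]]
      congr 1 <;> funext i <;> fin_cases i <;>
        simp [coe_tS hx, Matrix.mulVec, dotProduct, Fin.sum_univ_two, hx]
  have h11 : ∀ x y : F, φ ![x, 0] ![y, 0] = 1 := fun x y => by
    have h := inv (uS y) ![x, 0] ![0, 1]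
    have e1 : ((uS y : Matrix.SpecialLinearGroup (Fin 2) F) : Matrix (Fin 2) (Fin 2) F) *ᵥ ![x, 0] = ![x, 0] := by
      funext i; fin_cases i <;> simp [coe_uS, Matrix.mulVec, dotProduct, Fin.sum_univ_two]
    have e2 : ((uS y : Matrix.SpecialLinearGroup (Fin 2) F) : Matrix (Fin 2) (Fin 2) F) *ᵥ ![0, 1] =
        ![y, 0] + ![0, 1] := by
      funext i; fin_cases i <;> simp [coe_uS, Matrix.mulVec, dotProduct, Fin.sum_univ_two]
    rw [e1, e2, addr, mul_eq_right] at h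
    exact h
  have h22 : ∀ x y : F, φ ![0, x] ![0, y] = 1 := fun x y => by
    have h := inv (vS y) ![0, x] ![1, 0]
    have e1 : ((vS y : Matrix.SpecialLinearGroup (Fin 2) F) : Matrix (Fin 2) (Fin 2) F) *ᵥ ![0, x] = ![0, x] := by
      funext i; fin_cases i <;> simp [coe_vS, Matrix.mulVec, dotProduct, Fin.sum_univ_two]
    have e2 : ((vS y : Matrix.SpecialLinearGroup (Fin 2) F) : Matrix (Fin 2) (Fin 2) F) *ᵥ ![1, 0] =
        ![0, y] + ![1, 0] := by
      funext i; fin_cases i <;> simp [coe_vS, Matrix.mulVec, dotProduct, Fin.sum_univ_two]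
    rw [e1, e2, addr, mul_eq_right] at h
    exact h
  let c : Multiplicative F →* G := MonoidHom.mk' (fun t => φ ![1, 0] ![0, t.toAdd]) fun s t => by
    rw [← addr]
    congr 1
    funext i; fin_cases i <;> simp [toAdd_mul]
  have hanti : ∀ u v, φ u v = (φ v u)⁻¹ := fun u v => (commutatorElement_inv _ _).symm
  have hle : ⁅e.WB, e.WB⁆ ≤ c.range := commutator_le.2 fun a ha b hb => by
    rw [hφ ha hb]
    have hsplit : ∀ v : Fin 2 → F, v = ![v 0, 0] + ![0, v 1] := fun v => by funext i; fin_cases i <;> simp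
    rw [hsplit (l a), hsplit (l b), addl, addr, addr, h11, h22, one_mul, mul_one,
      hanti ![0, l a 1] ![l b 0, 0], hdiag (l a 0) (l b 1), hdiag (l b 0) (l a 1)]
    exact mul_mem ⟨Multiplicative.ofAdd _, rfl⟩ (inv_mem ⟨Multiplicative.ofAdd _, rfl⟩)
  refine (card_le_of_le hle).trans ?_
  rw [← d.c.hF, ← Nat.card_eq_fintype_card, ← Nat.card_congr (Multiplicative.toAdd (α := F))]
  exact Nat.card_le_card_of_surjective c.rangeRestrict c.rangeRestrict_surjective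

theorem WB'_card (hsh : d.Shift e) : Nat.card ↥⁅e.WB, e.WB⁆ = p ^ d.c.n :=
  le_antisymm (hs.WB'_card_le e hnM hp3) ((hs.card_comm_ge e hnM htriv hp3).trans (hsh.card_comm.trans
    (card_le_of_le (commutator_le.2 fun _ hw _ hz => WB_comm_Q e hw hz))))

theorem omega_core (hsh : d.Shift e) :
    Cfsg.omegaOneCenter p ⁅e.WB, res p G⁆ = ⁅d.W, res p G⁆ ⊔ ⁅e.WB, e.WB⁆ := by
  haveI := e.nWB
  haveI := e.nK
  haveI := res_normal (p := p) (G := G)
  set E := res p G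
  set Q0 := ⁅e.WB, E⁆
  rw [← hs.inf_K e hnM htriv hp3]
  have hsup := hs.WB_sup e hnM htriv
  refine le_antisymm ((closure_le _).2 ?_) fun x hx => subset_closure ⟨⟨hx.1, mem_centralizer_iff.2 fun y hy =>
    (K_comm e hx.2 (commutator_le_left _ _ hy)).symm⟩, d.WB_pow e (by omega) (e.ZMW (e.KZM hx.2))⟩
  rintro x ⟨⟨hxQ, hxc⟩, -⟩
  refine ⟨hxQ, ?_⟩
  have hxW : x ∈ e.WB ⊓ centralizer (e.WB : Set G) := by
    refine ⟨commutator_le_left _ _ hxQ, mem_centralizer_iff.2 fun y hy => ?_⟩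
    obtain ⟨u, hu, k, hk, rfl⟩ := mem_sup_of_normal_right.1 (hsup.ge hy)
    exact ((show Commute u x from mem_centralizer_iff.1 hxc u hu).mul_left
      (K_comm e hk (commutator_le_left _ _ hxQ))).eq
  have hKle : e.K ≤ e.WB ⊓ centralizer (e.WB : Set G) := le_inf (e.KZM.trans e.ZMW) fun k hk =>
    mem_centralizer_iff.2 fun y hy => (K_comm e hk hy).symm
  rcases (hnM.chief hs.surj (e.KZM.trans e.ZMW)).1.2.2.2 (e.WB ⊓ centralizer (e.WB : Set G)) inferInstance hKle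
    inf_le_left with h | h
  · exact h.le hxW
  · exfalso
    have hb : ⁅e.WB, e.WB⁆ = ⊥ := le_bot_iff.1 (commutator_le.2 fun a ha b hb => mem_bot.2
      (commutatorElement_eq_one_iff_mul_comm.2 (mem_centralizer_iff.1 (h.ge hb).2 a ha)))
    have := hs.WB'_card e hnM htriv hp3 hsh
    rw [hb, card_bot] at this
    exact d.one_lt_q.ne this

theorem omega_inf_cent :
    (⁅d.W, res p G⁆ ⊔ ⁅e.WB, e.WB⁆) ⊓ centralizer (res p G : Set G) = ⁅e.WB, e.WB⁆ := by
  haveI := d.W_normal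
  haveI := d.C_normal
  haveI := e.nWB
  haveI := res_normal (p := p) (G := G)
  have hle : ⁅d.W, res p G⁆ ⊔ ⁅e.WB, e.WB⁆ ≤ d.W :=
    _root_.sup_le (commutator_le_left _ _) ((WB'_le_C e).trans inf_le_left)
  rw [hs.inf_centralizer hle]
  refine le_antisymm ?_ (le_inf le_sup_right (WB'_le_C e))
  rintro x ⟨hx, hxC⟩
  obtain ⟨u, hu, z, hz, rfl⟩ := mem_sup_of_normal_right.1 hx
  have huC : u ∈ d.C := by
    have := d.C.mul_mem hxC (d.C.inv_mem (WB'_le_C e hz))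
    rwa [mul_inv_cancel_right] at this
  rw [mem_bot.1 ((hs.U0_inf_C e hp3).le ⟨hu, huC⟩), one_mul]
  exact hz

/-- the residual has the shape of an exceptional block -/
theorem exceptional_shape (hd : NoChar d.c) (hsh : d.Shift e) : LinShape p d.S (res p G) := by
  haveI := d.W_normal
  haveI := d.C_normal
  haveI := e.nWB
  haveI := e.nK
  haveI := res_normal (p := p) (G := G)
  haveI : (⁅e.WB, res p G⁆).Normal := inferInstance
  set E := res p G with hE
  set Q0 := ⁅e.WB, E⁆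
  set WE := ⁅d.W, E⁆ ⊔ ⁅e.WB, e.WB⁆
  have hcore := hs.exc_core e hnM htriv hp3 hd
  have hom := hs.omega_core e hnM htriv hp3 hsh
  have hinf := hs.omega_inf_cent e hnM htriv hp3
  have hWEW : WE ≤ d.W := _root_.sup_le (commutator_le_left _ _) ((WB'_le_C e).trans inf_le_left)
  have hEc : E ⊓ centralizer (E : Set G) = ⁅e.WB, e.WB⁆ := by
    refine le_antisymm ?_ (le_inf ((hs.WB'_le e hnM htriv).trans (commutator_le_right _ _)) (hinf.ge.trans inf_le_right))
    rintro x ⟨hxE, hxc⟩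
    have hρ : ρ x = 1 := by
      have hxW : ∀ w ∈ d.W, x * w * x⁻¹ = w := fun w hw => by
        obtain ⟨u, hu, c, hc, rfl⟩ := mem_sup_of_normal_right.1 (hs.U0_sup.ge hw)
        have c1 : Commute x u := (mem_centralizer_iff.1 hxc u (commutator_le_right d.W E hu)).symm
        have c2 : Commute x c := mem_center_iff.1 (mem_inf.1 hc).2 x
        rw [(c1.mul_right c2).eq, mul_inv_cancel_right]
      obtain ⟨l, -, hsurj, -, hequi⟩ := hs.nat
      refine sl_ext ?_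
      rw [cone]
      refine Matrix.ext_of_mulVec_single fun i => ?_
      obtain ⟨a, ha, hla⟩ := hsurj (Pi.single i 1)
      rw [Matrix.one_mulVec, ← hla, ← hequi x a ha, hxW a ha]
    have hxQ : x ∈ Q0 := (hs.res_inf_core₂ e hnM htriv hp3 hd).le ⟨hxE, hs.mem_core hρ⟩
    have hxom : x ∈ WE := hom.le (subset_closure ⟨⟨hxQ, mem_centralizer_iff.2 fun y hy =>
      mem_centralizer_iff.1 hxc y (commutator_le_right e.WB E hy)⟩,
      d.WB_pow e (by omega) (commutator_le_left e.WB E hxQ)⟩)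
    exact hinf.le ⟨hxom, hxc⟩
  refine ⟨hs.residual, hs.comm_S, ?_, F, inferInstance, inferInstance, d.c.n, d.c.hF, hs.quotient_equiv, ?_,
    Or.inr ⟨hp3, ?_, ?_, ?_, ?_, ?_, ?_⟩⟩
  · rw [hcore]
    exact res_comm_absorb ((Cfsg.Lib.Components.isPGroup_pCore p).to_le e.WBQ)
  · rw [hcore, hom, hinf]
    have h : WE ⊓ d.C = ⁅e.WB, e.WB⁆ := by rw [← hs.inf_centralizer hWEW, hinf]
    have h' := hs.acts hs.nat hWEW (hs.U0_sup.ge.trans (sup_le_sup_right le_sup_left _)) inf_le_left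
    rw [h] at h'
    exact h'
  · rw [hcore, hom, ← hs.inf_K e hnM htriv hp3]
    exact hs.acts hnM (commutator_le_left _ _) (hs.WB_sup e hnM htriv).ge (e.KZM.trans e.ZMW)
  · rw [hcore, hom, hinf, hs.WB'_eq e hnM htriv]
  · rw [hcore, hom, hinf]
    have hQp : IsPGroup p ↥Q0 := (Cfsg.Lib.Components.isPGroup_pCore p).to_le ((commutator_le_left _ _).trans e.WBQ)
    have hfr : frattini ↥Q0 = commutator ↥Q0 := le_antisymm
      (Cfsg.Lib.PGroups.SpecialCoprime.frattini_le_of_elementary (p := p) _ (fun g => by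
        have h : g ^ p = 1 := Subtype.ext (d.WB_pow e (by omega) (commutator_le_left e.WB E g.2))
        rw [h]; exact one_mem _) le_rfl)
      (Cfsg.Lib.PGroups.commutator_le_frattini hQp)
    rw [hfr, map_subtype_commutator, hs.WB'_eq e hnM htriv]
  · rw [hcore, hom, hinf, hEc]
  · rw [hEc, hs.WB'_card e hnM htriv hp3 hsh]
    exact congrArg (· ^ _) hp3
  · intro b hb hbc hq
    rw [hcore, hEc] at hq
    rw [hcore, hom] at hbc
    -- the element lies outside the core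
    have hbQ : b ∉ Cfsg.pCore p G := fun h => hbc (mem_centralizer_iff.2 fun w hw =>
      mem_centralizer_iff.1 (d.core_le_centralizer h) w (hWEW hw))
    obtain ⟨a, ha, q, hqQ, rfl⟩ := mem_sup_of_normal_right.1 (e.A2S.ge hb)
    have haQ : a ∉ Cfsg.pCore p G := fun h => hbQ (mul_mem h hqQ)
    have haS : a ∈ d.S := e.A2S.le (mem_sup_left ha)
    set Z0 := ⁅e.WB, e.WB⁆
    have hZC : Z0 ≤ d.C := WB'_le_C e
    have hcen : ∀ {x}, x ∈ Z0 → ∀ g : G, g * x * g⁻¹ = x := fun {x} hx g => by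
      rw [mem_center_iff.1 (mem_inf.1 (hZC hx)).2 g, mul_inv_cancel_right]
    haveI : Z0.Normal := inferInstance
    set qq := QuotientGroup.mk' Z0
    have hq1 : ∀ {x}, qq x = 1 ↔ x ∈ Z0 := fun {x} => QuotientGroup.eq_one_iff x
    -- the core fixes the module modulo the centre
    have hQfix : ∀ w ∈ e.WB, qq ⁅w, a * q⁆ = qq ⁅w, a⁆ := fun w hw => by
      rw [d.comm_mul_right, hcen (WB_comm_Q e hw hqQ) a, map_mul, hq1.2 (WB_comm_Q e hw hqQ), mul_one]
    have hmv : ∀ w ∈ e.WB, ⁅w, a⁆ ∈ e.WB := fun w hw => e.ZMW (e.move w hw a haS)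
    have hQ0 : ∀ u ∈ Q0, ⁅⁅u, a⁆, a⁆ ∈ Z0 := fun u hu => by
      have huW : u ∈ e.WB := commutator_le_left _ _ hu
      have h1 := hq (commutator_mem_commutator (commutator_mem_commutator hu (mem_zpowers (a * q)))
        (mem_zpowers (a * q)))
      refine hq1.1 ?_
      rw [map_commutatorElement, ← hQfix u huW, ← map_commutatorElement]
      have hw' : ⁅u, a * q⁆ ∈ e.WB := e.ZMW (e.move u huW _ hb)
      rw [← hQfix _ hw']
      exact hq1.2 h1
    have hK : ∀ k ∈ e.K, ⁅⁅k, a⁆, a⁆ = 1 := fun k hk => commutatorElement_eq_one_iff_mul_comm.2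
      (mem_centralizer_iff.1 (e.DA2 k (e.KD hk) a ha).2 a haS).symm
    have hall : ∀ w ∈ e.WB, ⁅⁅w, a⁆, a⁆ ∈ d.C := fun w hw => by
      obtain ⟨u, hu, k, hk, rfl⟩ := mem_sup_of_normal_right.1 ((hs.WB_sup e hnM htriv).ge hw)
      have huW : u ∈ e.WB := commutator_le_left _ _ hu
      have hka : ⁅k, a⁆ ∈ e.K := e.WK (e.fixK k hk a)
      have c1 : Commute u ⁅k, a⁆ := (K_comm e hka huW).symm
      have hX : ⁅u * k, a⁆ = ⁅k, a⁆ * ⁅u, a⁆ := by
        rw [show ⁅u * k, a⁆ = u * ⁅k, a⁆ * u⁻¹ * ⁅u, a⁆ by simp only [commutatorElement_def]; group, c1.eq,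
          mul_inv_cancel_right]
      have c2 : ⁅k, a⁆ * ⁅⁅u, a⁆, a⁆ * ⁅k, a⁆⁻¹ = ⁅⁅u, a⁆, a⁆ := hcen (hQ0 u hu) _
      rw [hX, show ⁅⁅k, a⁆ * ⁅u, a⁆, a⁆ = ⁅k, a⁆ * ⁅⁅u, a⁆, a⁆ * ⁅k, a⁆⁻¹ * ⁅⁅k, a⁆, a⁆ by
        simp only [commutatorElement_def]; group, c2, hK k hk, mul_one]
      exact hZC (hQ0 u hu)
    refine haQ (hs.mem_core ?_)
    obtain ⟨l, hadd, hsurj, hker, hequi⟩ := hs.nat
    refine sl_ext ?_
    rw [cone]
    refine Matrix.ext_of_mulVec_single fun i => ?_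
    obtain ⟨v, hv, hlv⟩ := hsurj (Pi.single i 1)
    obtain ⟨x, hx, hxv⟩ := hsh.critAll a ha haQ v hv
    have h1 : ⁅a, v⁆ ∈ d.C := by
      rw [← hxv, show ⁅a, ⁅a, x⁆⁆ = ⁅x, a⁆⁻¹ * ⁅⁅x, a⁆, a⁆ * ⁅x, a⁆⁻¹⁻¹ by
        simp only [commutatorElement_def]; group]
      exact Normal.conj_mem inferInstance _ (hall x hx) _
    have h2 : a * v * a⁻¹ ∈ d.W := Normal.conj_mem inferInstance v hv a
    have h3 := hadd _ (d.W.mul_mem h2 (inv_mem hv)) v hv
    rw [inv_mul_cancel_right, show a * v * a⁻¹ * v⁻¹ = ⁅a, v⁆ from (commutatorElement_def a v).symm,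
      (hker _ (mem_inf.1 h1).1).2 h1, zero_add, hequi a v hv] at h3
    rw [Matrix.one_mulVec, ← hlv]
    exact h3

end Dist2

end Std

end Cfsg.Lib.PushBlocks
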