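import Cfsg.Agent.PushUpBlocks.SingleCommon

/-!
Pushing up for a rank-one quotient, one natural factor: the residual has the shape of a linear block.
-/

set_option autoImplicit false
set_option linter.unusedSectionVars false
set_option linter.style.haveILetI false

namespace Cfsg.Lib.PushBlocks

open Subgroup Matrix Cfsg.Lib.BGN Cfsg.Lib.BGN.P Cfsg.Lib.Known.AutPSL2
open scoped commutatorElement

universe u

variable {p : ℕ} [hp : Fact p.Prime] {G : Type u} [Group G] [Finite G] {F : Type} [Field F] [Fintype F]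

theorem omega_self {X : Subgroup G} (hc : ∀ a ∈ X, ∀ b ∈ X, a * b = b * a) (hpow : ∀ a ∈ X, a ^ p = 1) :
    Cfsg.omegaOneCenter p X = X :=
  le_antisymm ((closure_le _).2 fun _ hy => hy.1.1) fun x hx =>
    subset_closure ⟨⟨hx, mem_centralizer_iff.2 fun y hy => hc y hy x hx⟩, hpow x hx⟩

omit hp [Finite G] [Group G] [Fintype F] in
theorem tS_conj_uS {l : F} (hl : l ≠ 0) (x : F) :
    tS l * uS x * (tS l)⁻¹ = (uS (l * l * x) : Matrix.SpecialLinearGroup (Fin 2) F) := by
  rw [mul_inv_eq_iff_eq_mul]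
  refine sl_ext ?_
  rw [cmul, cmul, coe_tS hl, coe_uS, coe_uS]
  ext i j
  fin_cases i <;> fin_cases j <;> simp [Matrix.mul_apply, Fin.sum_univ_two] <;> field_simp

omit hp [Finite G] [Group G] in
/-- for a field with at most three elements the derived group of `SL₂` has no transvection -/
theorem small_no_uS (h : Fintype.card F ≤ 3) {x : F}
    (hx : (uS x : Matrix.SpecialLinearGroup (Fin 2) F) ∈ commutator (Matrix.SpecialLinearGroup (Fin 2) F)) :
    x = 0 := by
  by_contra hne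
  set Cm := commutator (Matrix.SpecialLinearGroup (Fin 2) F) with hCm
  let X : AddSubgroup F :=
    { carrier := {y | uS y ∈ Cm}
      zero_mem' := by show uS 0 ∈ Cm; rw [uS_zero]; exact one_mem _
      add_mem' := fun {a b} ha hb => by show uS (a + b) ∈ Cm; rw [uS_add]; exact mul_mem ha hb
      neg_mem' := fun {a} ha => by
        show uS (-a) ∈ Cm
        have e : (uS (-a) : Matrix.SpecialLinearGroup (Fin 2) F) = (uS a)⁻¹ :=
          eq_inv_of_mul_eq_one_left (by rw [← uS_add, neg_add_cancel, uS_zero])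
        rw [e]; exact inv_mem ha }
  have hcard := Fintype.one_lt_card (α := F)
  haveI : Fact (Nat.card F).Prime := ⟨by
    rw [Nat.card_eq_fintype_card]
    obtain h2 | h2 : Fintype.card F = 2 ∨ Fintype.card F = 3 := by omega
    · rw [h2]; exact Nat.prime_two
    · rw [h2]; exact Nat.prime_three⟩
  have hX : X = ⊤ := X.eq_bot_or_eq_top_of_prime_card.resolve_left fun hb =>
    hne (AddSubgroup.mem_bot.1 (hb ▸ (show x ∈ X from hx)))
  have hu : ∀ y, uS y ∈ Cm := fun y => (hX.ge (AddSubgroup.mem_top y) : y ∈ X)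
  have htop : Cm = ⊤ := by
    refine sl_closure_eq_top Cm hu fun y => ?_
    have h1 := (inferInstance : Cm.Normal).conj_mem _ (hu (-y)) (wS 1)
    rw [wS_mul_uS (one_ne_zero), mul_inv_cancel_right] at h1
    simpa using h1
  have h60 : Nat.card (Matrix.SpecialLinearGroup (Fin 2) F) < 60 := by
    rw [Cfsg.Lib.Classical.SLTwoTori.card_SL2]
    obtain h2 | h2 : Fintype.card F = 2 ∨ Fintype.card F = 3 := by omega
    all_goals rw [h2]; norm_num
  haveI : Group.IsSolvable (Matrix.SpecialLinearGroup (Fin 2) F) :=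
    Cfsg.Lib.Presentations.isSolvable_of_card_lt_sixty _ _ rfl h60
  haveI : Nontrivial (Matrix.SpecialLinearGroup (Fin 2) F) := ⟨uS 1, 1, fun h' => one_ne_zero (uS_inj (h'.trans uS_zero.symm))⟩
  exact (Group.IsSolvable.commutator_lt_top_of_nontrivial _).ne htop

/-- squares generate the additive group -/
theorem eq_top_of_squares [CharP F p] {X : AddSubgroup F} (hsq : ∀ l x, x ∈ X → l * l * x ∈ X) {x : F} (hx : x ∈ X)
    (hne : x ≠ 0) (a : F) : a ∈ X := by
  obtain rfl | hp2 := eq_or_ne p 2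
  · obtain ⟨l, hl⟩ := FiniteField.isSquare_of_char_two (ringChar.eq F 2) (a / x)
    have := hsq l x hx
    rwa [← hl, div_mul_cancel₀ _ hne] at this
  · have h2 : (2 : F) ≠ 0 := fun h => by
      have h' : p ∣ 2 := (CharP.cast_eq_zero_iff F p 2).1 (by exact_mod_cast h)
      exact hp2 ((Nat.prime_dvd_prime_iff_eq hp.out Nat.prime_two).1 h')
    have h4 : (4 : F) ≠ 0 := by rw [show (4 : F) = 2 * 2 by norm_num]; exact mul_ne_zero h2 h2
    have e : a = (a / x + 1) / 2 * ((a / x + 1) / 2) * x - (a / x - 1) / 2 * ((a / x - 1) / 2) * x := by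
      field_simp; ring
    rw [e]
    exact X.sub_mem (hsq _ x hx) (hsq _ x hx)

namespace Std

variable {d : Sit p G F} {ρ : G →* Matrix.SpecialLinearGroup (Fin 2) F} (hs : Std d ρ)
include hs

/-- commutators with the module lie in its noncentral part -/
theorem W_comm_mem {w : G} (hw : w ∈ d.W) (g : G) : ⁅w, g⁆ ∈ ⁅d.W, res p G⁆ := by
  haveI := res_normal (p := p) (G := G)
  haveI := d.W_normal
  haveI := d.C_normal
  haveI : (⁅d.W, res p G⁆).Normal := inferInstance
  obtain ⟨u, hu, c, hc, rfl⟩ := mem_sup_of_normal_right.1 (hs.U0_sup.ge hw)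
  have hcc : ⁅c, g⁆ = 1 := commutatorElement_eq_one_iff_mul_comm.2 (mem_center_iff.1 (mem_inf.1 hc).2 g).symm
  rw [show ⁅u * c, g⁆ = (u * ⁅c, g⁆ * u⁻¹) * ⁅u, g⁆ by simp only [commutatorElement_def]; group, hcc, mul_one,
    mul_inv_cancel, one_mul, commutatorElement_def, mul_assoc, mul_assoc]
  exact mul_mem hu (by simpa [mul_assoc] using Normal.conj_mem (inferInstance : (⁅d.W, res p G⁆).Normal) _ (inv_mem hu) g)

section Out

variable {A : Subgroup G} (hA : d.Out A) (hd : NoChar d.c)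
include hA hd

omit hd in
theorem triv_U0 : Triv p ⁅d.W, res p G⁆ (Cfsg.pCore p G) := by
  haveI := res_normal (p := p) (G := G)
  haveI := d.W_normal
  exact Triv.trans (d.c.S.2.to_le d.W_le_S) (triv_iff.2 le_rfl) (d.out_triv hA)

/-- an element outside the core with small commutators -/
theorem exists_good : ∃ x ∈ d.S, x ∉ Cfsg.pCore p G ∧ ∀ s ∈ d.S, ⁅x, s⁆ ∈ ⁅d.W, res p G⁆ := by
  haveI := res_normal (p := p) (G := G)
  haveI := d.W_normal
  haveI := d.c.core_normal
  haveI : (⁅d.W, res p G⁆).Normal := inferInstance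
  by_contra hno
  push Not at hno
  set q := p ^ d.c.n
  set T1 : Subgroup ↥d.S :=
    closure {x : ↥d.S | Nat.card ↥d.S ≤ q * Nat.card ↥(centralizer ({x} : Set ↥d.S))} with hT1
  haveI hchar : T1.Characteristic := by
    rw [characteristic_iff_map_le]
    intro α
    rw [hT1, MonoidHom.map_closure]
    refine closure_mono ?_
    rintro _ ⟨x, hx, rfl⟩
    refine le_trans (hx : _ ≤ _) (Nat.mul_le_mul_left q ?_)
    rw [← card_map_of_injective (f := α.toMonoidHom) α.injective (K := centralizer ({x} : Set ↥d.S))]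
    refine card_le_of_le ?_
    rintro _ ⟨y, hy, rfl⟩
    refine mem_centralizer_singleton_iff.2 ?_
    show α y * α x = α x * α y
    rw [← map_mul, ← map_mul, mem_centralizer_singleton_iff.1 hy]
  have hQ : T1.map d.S.subtype ≤ Cfsg.pCore p G := by
    rw [hT1, MonoidHom.map_closure, closure_le]
    rintro _ ⟨⟨x, hxS⟩, hx, rfl⟩
    by_contra hxQ
    obtain ⟨s, hs', hbad⟩ := hno x hxS hxQ
    set Cx := (centralizer ({(⟨x, hxS⟩ : ↥d.S)} : Set ↥d.S)).map d.S.subtype
    have hcard : Nat.card ↥d.S ≤ q * Nat.card ↥Cx := by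
      rw [card_map_of_injective d.S.subtype_injective]
      exact hx
    have hinf : Cx ⊓ d.W ≤ d.Z := by
      rintro _ ⟨⟨y, hy, rfl⟩, hyW⟩
      refine ⟨hyW, d.fix_le hxS hxQ ⟨hyW, mem_centralizer_singleton_iff.2 ?_⟩⟩
      exact congrArg Subtype.val (mem_centralizer_singleton_iff.1 hy)
    have hsup : Cx ⊔ d.W = d.S := by
      refine Subgroup.eq_of_le_of_card_ge (_root_.sup_le (map_subtype_le _) d.W_le_S) ?_
      have h1 := card_mul_le_sup Cx d.W
      rw [d.card_W] at h1
      have h2 : Nat.card ↥d.S * Nat.card ↥d.Z ≤ Nat.card ↥(Cx ⊔ d.W) * Nat.card ↥d.Z :=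
        calc Nat.card ↥d.S * Nat.card ↥d.Z ≤ q * Nat.card ↥Cx * Nat.card ↥d.Z := Nat.mul_le_mul_right _ hcard
          _ = Nat.card ↥Cx * (q * Nat.card ↥d.Z) := by ring
          _ ≤ _ := h1
          _ ≤ _ := Nat.mul_le_mul_left _ (card_le_of_le hinf)
      exact Nat.le_of_mul_le_mul_right h2 Nat.card_pos
    obtain ⟨c, hc, w, hw, rfl⟩ := mem_sup_of_normal_right.1 (hsup.ge hs')
    refine hbad ?_
    obtain ⟨c', hc', rfl⟩ := hc
    have hcx : ⁅x, (c' : G)⁆ = 1 :=
      commutatorElement_eq_one_iff_mul_comm.2 (congrArg Subtype.val (mem_centralizer_singleton_iff.1 hc')).symm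
    show ⁅x, (c' : G) * w⁆ ∈ _
    rw [d.comm_mul_right, hcx, one_mul]
    refine Normal.conj_mem inferInstance _ ?_ _
    rw [← commutatorElement_inv]
    exact inv_mem (hs.W_comm_mem hw x)
  have hW : d.W ≤ T1.map d.S.subtype := fun w hw => by
    refine ⟨⟨w, d.W_le_S hw⟩, subset_closure ?_, rfl⟩
    show Nat.card ↥d.S ≤ q * _
    rw [d.card_S]
    refine Nat.mul_le_mul_left q ?_
    rw [← Nat.card_congr (subgroupOfEquivOfLe d.c.core_le).toEquiv]
    refine card_le_of_le fun z hz => mem_centralizer_singleton_iff.2 (Subtype.ext ?_)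
    exact (mem_centralizer_iff.1 (d.core_le_centralizer (mem_subgroupOf.1 hz)) w hw).symm
  have hS : d.S ≤ normalizer ((T1.map d.S.subtype : Subgroup G) : Set G) := le_normalizer_of_forall fun s hs' => by
    rintro _ ⟨_, ⟨y, hy, rfl⟩, rfl⟩
    exact ⟨_, (inferInstance : T1.Normal).conj_mem y hy ⟨s, hs'⟩, rfl⟩
  have hn : (T1.map d.S.subtype).Normal :=
    d.normal_of_between (N := ⁅d.W, res p G⁆) ((commutator_le_left d.W (res p G)).trans hW) hQ hS (hs.triv_U0 hA)
  have hbot := d.char_bot hd hn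
  have h1 := d.card_W
  rw [hbot, Subgroup.map_bot] at hW
  rw [le_bot_iff.1 hW, card_bot] at h1
  exact d.one_lt_q.ne' (Nat.eq_one_of_mul_eq_one_right h1.symm)

theorem res_inf_core : res p G ⊓ Cfsg.pCore p G = ⁅d.W, res p G⁆ := by
  haveI := res_normal (p := p) (G := G)
  haveI := d.W_normal
  haveI := d.c.core_normal
  haveI : (⁅d.W, res p G⁆).Normal := inferInstance
  haveI : CharP F p := charP_of_card_eq_prime_pow d.c.hF
  set E := res p G
  set U0 := ⁅d.W, E⁆
  refine le_antisymm ?_ (le_inf (commutator_le_right d.W E) ((commutator_le_left d.W E).trans d.W_le_core))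
  have hfix : ∀ u ∈ Cfsg.pCore p G, ∀ e ∈ E, ⁅u, e⁆ ∈ U0 := fun u hu e he =>
    triv_iff.1 (hs.triv_U0 hA) (commutator_mem_commutator hu he)
  refine le_of_central d.c.S ?_ (inf_le_right.trans d.c.core_le) inf_le_left fun u hu e he => hfix u hu.2 e he
  rcases le_or_gt (Fintype.card F) 3 with h3 | h3
  · refine commutator_le.2 fun s hs' t ht => hfix s ?_ t ht.1
    obtain ⟨x, hx⟩ := hs.up s hs'.2
    refine hs.mem_core ?_
    have h0 : (uS x : Matrix.SpecialLinearGroup (Fin 2) F) ∈ commutator (Matrix.SpecialLinearGroup (Fin 2) F) :=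
      hx ▸ hs.res_map.le (mem_map_of_mem ρ hs'.1)
    rw [hx, small_no_uS h3 h0, uS_zero]
  -- the residual maps onto
  have htop : ∀ m, ∃ e ∈ E, ρ e = m := fun m => by
    have : m ∈ commutator (Matrix.SpecialLinearGroup (Fin 2) F) := by
      rw [Cfsg.Lib.Known.sl2_commutator_eq_top F h3]; exact mem_top m
    exact hs.res_map.ge this
  set S₀ := E ⊓ d.S with hS₀
  set R₀ := S₀ ⊓ fixN S₀ U0 with hR₀
  let X : AddSubgroup F :=
    { carrier := {y | ∃ r ∈ R₀, ρ r = uS y}
      zero_mem' := ⟨1, one_mem _, by rw [map_one, uS_zero]⟩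
      add_mem' := by
        rintro a b ⟨r, hr, e⟩ ⟨r', hr', e'⟩
        exact ⟨r * r', mul_mem hr hr', by rw [map_mul, e, e', ← uS_add]⟩
      neg_mem' := by
        rintro a ⟨r, hr, e⟩
        refine ⟨r⁻¹, inv_mem hr, ?_⟩
        rw [map_inv, e]
        exact (eq_inv_of_mul_eq_one_left (by rw [← uS_add, neg_add_cancel, uS_zero])).symm }
  have hsq : ∀ l y, y ∈ X → l * l * y ∈ X := by
    intro l y hy
    rcases eq_or_ne l 0 with rfl | hl
    · rw [zero_mul, zero_mul]; exact X.zero_mem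
    obtain ⟨r, ⟨⟨hrE, hrS⟩, hrfix⟩, hr⟩ := hy
    obtain ⟨e, he, hel⟩ := htop (tS l)
    have hρ : ρ (e * r * e⁻¹) = uS (l * l * y) := by
      rw [map_mul, map_mul, map_inv, hel, hr, tS_conj_uS hl]
    refine ⟨e * r * e⁻¹, ⟨⟨Normal.conj_mem inferInstance r hrE e, hs.mem_S hρ⟩, fun z hz => ?_⟩, hρ⟩
    have hz' : e⁻¹ * z * e ∈ S₀ := by
      refine ⟨E.mul_mem (E.mul_mem (E.inv_mem he) hz.1) he, ?_⟩
      obtain ⟨w, hw⟩ := hs.up z hz.2
      have := tS_conj_uS (F := F) (inv_ne_zero hl) w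
      refine hs.mem_S (x := l⁻¹ * l⁻¹ * w) ?_
      have hti : (tS l⁻¹ : Matrix.SpecialLinearGroup (Fin 2) F) = (tS l)⁻¹ := by
        refine eq_inv_of_mul_eq_one_left ?_
        rw [tS_mul (inv_ne_zero hl) hl, inv_mul_cancel₀ hl]
        exact sl_ext (by rw [coe_tS one_ne_zero, cone]; simp [one_fin_two])
      rw [hti, inv_inv] at this
      rw [map_mul, map_mul, map_inv, hel, hw, this]
    rw [show ⁅z, e * r * e⁻¹⁆ = e * ⁅e⁻¹ * z * e, r⁆ * e⁻¹ by simp only [commutatorElement_def]; group]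
    exact Normal.conj_mem inferInstance _ (hrfix _ hz') e
  obtain ⟨x, hxS, hxQ, hxgood⟩ := hs.exists_good hA hd
  obtain ⟨y, hy⟩ := hs.up x hxS
  have hy0 : y ≠ 0 := fun h => hxQ (hs.mem_core (by rw [hy, h, uS_zero]))
  obtain ⟨r, hrE, hr⟩ := htop (uS y)
  have hrS : r ∈ d.S := hs.mem_S hr
  have hk : x⁻¹ * r ∈ Cfsg.pCore p G := hs.mem_core (by rw [map_mul, map_inv, hy, hr, inv_mul_cancel])
  have hrR : r ∈ R₀ := by
    refine ⟨⟨hrE, hrS⟩, fun z hz => ?_⟩
    rw [show r = x * (x⁻¹ * r) by group, d.comm_mul_right]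
    refine mul_mem ?_ (Normal.conj_mem inferInstance _ ?_ x)
    · rw [← commutatorElement_inv]; exact inv_mem (hxgood z hz.2)
    · rw [← commutatorElement_inv]; exact inv_mem (hfix _ hk z hz.1)
  have hall := eq_top_of_squares (p := p) hsq (show y ∈ X from ⟨r, hrR, hr⟩) hy0
  refine commutator_le.2 fun a ha b hb => ?_
  obtain ⟨z, hz⟩ := hs.up b hb.2
  obtain ⟨r', hr', hr'z⟩ := hall z
  have hk' : r'⁻¹ * b ∈ Cfsg.pCore p G := hs.mem_core (by rw [map_mul, map_inv, hz, hr'z, inv_mul_cancel])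
  rw [show b = r' * (r'⁻¹ * b) by group, d.comm_mul_right]
  refine mul_mem (hr'.2 a ha) (Normal.conj_mem inferInstance _ ?_ r')
  rw [← commutatorElement_inv]
  exact inv_mem (hfix _ hk' a ha.1)

theorem linear_core : Cfsg.pCoreOf p (res p G) = ⁅d.W, res p G⁆ := by rw [hs.pCoreOf_res, hs.res_inf_core hA hd]

omit hA hd in
theorem omega_U0 : Cfsg.omegaOneCenter p ⁅d.W, res p G⁆ = ⁅d.W, res p G⁆ := by
  haveI := res_normal (p := p) (G := G)
  haveI := d.W_normal
  have hle := commutator_le_left d.W (res p G)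
  exact omega_self (fun a ha b hb => d.W_comm (hle ha) (hle hb)) fun a ha => d.W_pow (hle ha)

/-- the residual has the shape of a linear block -/
theorem linear_shape : LinShape p d.S (res p G) := by
  haveI := res_normal (p := p) (G := G)
  haveI := d.W_normal
  haveI := d.C_normal
  haveI : (⁅d.W, res p G⁆).Normal := inferInstance
  refine ⟨hs.residual, hs.comm_S, ?_, F, inferInstance, inferInstance, d.c.n, d.c.hF, hs.quotient_equiv, ?_, Or.inl ?_⟩
  · rw [hs.linear_core hA hd]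
    exact res_comm_absorb (d.c.S.2.to_le d.W_le_S)
  · rw [hs.linear_core hA hd, hs.omega_U0, hs.inf_centralizer (commutator_le_left _ _)]
    exact hs.acts hs.nat (commutator_le_left _ _) hs.U0_sup.ge inf_le_left
  · rw [hs.linear_core hA hd, hs.omega_U0]

/-- an element outside the core with commutators in the core of the block -/
theorem linear_good : ∃ x ∈ d.S, x ∉ Cfsg.pCore p G ∧ ∀ s ∈ d.S, ⁅x, s⁆ ∈ Cfsg.pCoreOf p (res p G) := by
  rw [hs.linear_core hA hd]
  exact hs.exists_good hA hd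

end Out

end Std

end Cfsg.Lib.PushBlocks
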