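import Cfsg.Agent.PushUpBlocks.SymData
import Cfsg.Agent.AltCover.Flip

/-!
Pushing up in a minimal parabolic group: no double cover appears in a class.
-/

set_option autoImplicit false
set_option linter.unusedSectionVars false
set_option linter.style.haveILetI false

namespace Cfsg.Lib.PushMin

open Subgroup Cfsg.Lib.FFSLTwo Cfsg.Lib.FFModule
open scoped commutatorElement

universe u

variable {G : Type u} [Group G] {p : ℕ} [Finite G] [hp : Fact p.Prime]

namespace Env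

variable {T : Sylow p G} {W : Type u} [AddCommGroup W] [Finite W] {d : Env T W}
variable {A₀ X₀ : Subgroup (G ⧸ cS p G)}

theorem img_sup_le (A B : Subgroup (G ⧸ cS p G)) : img d.φ (A ⊔ B) ≤ img d.φ A ⊔ img d.φ B := by
  rw [← sSup_pair]
  refine img_sSup_le fun x hx a ha v => ?_
  rcases hx with rfl | rfl
  · exact AddSubgroup.mem_sup_left (dd_mem_img ha v)
  · exact AddSubgroup.mem_sup_right (dd_mem_img ha v)

/-- inner elements fixing the right images are trivial -/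
theorem inner_eq_one (Xof : Subgroup (G ⧸ cS p G) → Subgroup (G ⧸ cS p G))
    (hXof : ∀ A ∈ d.glob.inSyl, Xof A ∈ d.glob.outer ∧ ¬ Comm A (Xof A)) (s : Finset (Subgroup (G ⧸ cS p G))) :
    (∀ A ∈ s, A ∈ d.glob.inSyl) → ∀ r ∈ s.sup id,
      (∀ A ∈ s, ∀ v, dd d.φ r v ∈ fixA d.φ (Xof A)) → r = 1 := by
  classical
  induction s using Finset.induction_on with
  | empty =>
    intro _ r hr _
    simpa using hr
  | @insert A s hAs ih =>
    intro hs r hr hfix
    have hA := hs A (Finset.mem_insert_self _ _)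
    have hs' : ∀ B ∈ s, B ∈ d.glob.inSyl := fun B hB => hs B (Finset.mem_insert_of_mem hB)
    have hn : s.sup id ≤ normalizer (A : Set (G ⧸ cS p G)) := Finset.sup_le fun B hB => by
      refine le_trans (fun b hb => mem_centralizer_iff.2 fun a ha => ?_) (centralizer_le_normalizer _)
      exact d.glob.inSyl_comm hA (hs' B hB) a ha b hb
    rw [Finset.sup_insert, id_eq, ← SetLike.mem_coe, coe_mul_of_right_le_normalizer_left _ _ hn] at hr
    obtain ⟨a, ha, r', hr', rfl⟩ := hr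
    have hr'fix : ∀ v, dd d.φ r' v ∈ fixA d.φ (Xof A) := by
      intro v
      refine (?_ : img d.φ (sSup (s : Set (Subgroup (G ⧸ cS p G)))) ≤ fixA d.φ (Xof A))
        (dd_mem_img ((Finset.sup_id_eq_sSup s).le hr') v)
      refine img_sSup_le fun B hB b hb w => (d.ff.comm_mem (hs' B hB).1 (hXof A hA).1.1 ?_ hb w).2
      exact d.glob.other_comm hA (hs' B hB) (hXof A hA).1 (hXof A hA).2 fun he => hAs (he ▸ hB)
    have ha1 : a = 1 := by
      by_contra ha1
      obtain ⟨v, hv⟩ := d.ff.exists_ne_zero hA.1 ha ha1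
      have h0 := hfix A (Finset.mem_insert_self _ _) (d.φ r'⁻¹ v)
      show False
      have e : dd d.φ (a * r') (d.φ r'⁻¹ v) = dd d.φ a v + dd d.φ r' (d.φ r'⁻¹ v) := by
        rw [dd_apply, dd_apply, dd_apply, phi_mul, phi_cancel_inv]; abel
      have h0' : dd d.φ (a * r') (d.φ r'⁻¹ v) ∈ fixA d.φ (Xof A) := h0
      rw [e] at h0'
      have h1 := (fixA d.φ (Xof A)).sub_mem h0' (hr'fix (d.φ r'⁻¹ v))
      rw [add_sub_cancel_right] at h1
      exact hv (d.ff.nc_zero hA.1 (hXof A hA).1.1 (hXof A hA).2 ha h1)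
    subst ha1
    show (1 : G ⧸ cS p G) * r' = 1
    rw [one_mul]
    exact ih hs' r' hr' fun B hB v => by
      have := hfix B (Finset.mem_insert_of_mem hB) v
      simpa using this

variable (h : Hyps T) (hA : A₀ ∈ d.glob.inSyl) (hX : X₀ ∈ d.glob.outer) (hnc : ¬ Comm A₀ X₀)
variable (pc : d.Piece A₀ X₀) (S : d.SymData X₀)
include h hA hX hnc pc S

/-- the element supplied by the piece lies over its inner member -/
theorem good_image : ∃ x ∈ Cfsg.baumannSubgroupOf p (T : Subgroup G), prj p G x ∈ A₀ ∧ prj p G x ≠ 1 ∧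
    ∀ s ∈ Cfsg.baumannSubgroupOf p (T : Subgroup G), ⁅x, s⁆ ∈ pc.rad := by
  classical
  obtain ⟨x, hx, hxc, hxs⟩ := pc.good S.p_two
  obtain ⟨-, -, hQW⟩ := conj_core h hA hX hnc pc S.p_two (base_mem h hA hX hnc pc S.p_two).1
  refine ⟨x, hx, ?_, fun he => hxc (d.prj_eq_one.1 he), fun s hs => ?_⟩
  swap
  · exact commutator_mono le_rfl (base_le h hA hX hnc pc S.p_two) (hQW (hxs s hs))
  set w := prj p G x
  have hw : w ∈ sSup d.glob.inSyl := d.baumann_image.le (mem_map_of_mem _ hx)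
  have himgE : pc.E.map (prj p G) ≤ A₀ ⊔ X₀ := by
    rw [E_image h hA hX hnc pc, ← d.glob.pair_eq hA hX hnc]
    exact resOf_le_pair h hA hX hnc pc hA
  have hwimg : ∀ v, dd d.φ w v ∈ img d.φ A₀ ⊔ img d.φ X₀ := by
    intro v
    obtain ⟨y, rfl⟩ := d.exists_vec v
    obtain ⟨hm, he⟩ := d.dd_eq x y
    rw [he]
    obtain ⟨hm', himg⟩ := commutator_le_imgG d himgE (hQW (hxs y (vS_le_baumann d h y.2)))
    exact img_sup_le A₀ X₀ himg
  have hwfix : ∀ v, dd d.φ w v ∈ fixA d.φ A₀ := fun v => by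
    refine (?_ : img d.φ (sSup d.glob.inSyl) ≤ fixA d.φ A₀) (dd_mem_img hw v)
    exact img_sSup_le fun B hB b hb u => (d.ff.comm_mem hB.1 hA.1 (d.glob.inSyl_comm hB hA) hb u).2
  -- only the part along the inner member remains
  obtain ⟨x₀, hx₀, hx₀1, hx₀all, -⟩ := d.ff.transvection hX.1 S.q_two
  have hwA : ∀ v, dd d.φ w v ∈ img d.φ A₀ := by
    intro v
    obtain ⟨c, hc, e, he, hce⟩ := AddSubgroup.mem_sup.1 (hwimg v)
    have hA0fix : img d.φ A₀ ≤ fixA d.φ A₀ := by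
      rw [← sSup_singleton (a := A₀)]
      exact img_sSup_le fun B hB b hb u => by
        rw [Set.mem_singleton_iff.1 hB] at hb
        rw [sSup_singleton]
        exact d.ff.dd_mem hA.1 hb u
    have hefix : e ∈ fixA d.φ A₀ := by
      have := (fixA d.φ A₀).sub_mem (hwfix v) (hA0fix hc)
      rwa [← hce, add_sub_cancel_left] at this
    obtain ⟨u, rfl⟩ : e ∈ (dd d.φ x₀ : W →+ W).range := by
      refine (?_ : img d.φ X₀ ≤ _) he
      rw [← sSup_singleton (a := X₀)]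
      refine img_sSup_le fun B hB b hb u => ?_
      rw [Set.mem_singleton_iff.1 hB] at hb
      rcases hx₀all b hb with rfl | rfl
      · rw [dd_apply, phi_one, sub_self]; exact zero_mem _
      · exact ⟨u, rfl⟩
    have h0 : dd d.φ x₀ u = 0 := d.ff.nc_zero hX.1 hA.1 (fun hc' => hnc hc'.symm) hx₀ hefix
    rw [← hce]
    show c + dd d.φ x₀ u ∈ _
    rw [h0, add_zero]
    exact hc
  set Xof : Subgroup (G ⧸ cS p G) → Subgroup (G ⧸ cS p G) := fun A =>
    if hAi : A ∈ d.glob.inSyl then Classical.choose (d.glob.exists_outer_nc hAi.1) else ⊥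
  have hXof : ∀ A ∈ d.glob.inSyl, Xof A ∈ d.glob.outer ∧ ¬ Comm A (Xof A) := fun A hAi => by
    simp only [Xof, dif_pos hAi]
    exact Classical.choose_spec (d.glob.exists_outer_nc hAi.1)
  haveI : Fintype d.glob.inSyl := Fintype.ofFinite _
  set s := (d.glob.inSyl.toFinset).erase A₀ with hs
  have hsmem : ∀ B ∈ s, B ∈ d.glob.inSyl ∧ B ≠ A₀ := fun B hB =>
    ⟨Set.mem_toFinset.1 (Finset.mem_of_mem_erase hB), (Finset.mem_erase.1 hB).1⟩
  have hn : s.sup id ≤ normalizer (A₀ : Set (G ⧸ cS p G)) := Finset.sup_le fun B hB => by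
    refine le_trans (fun b hb => mem_centralizer_iff.2 fun a ha => ?_) (centralizer_le_normalizer _)
    exact d.glob.inSyl_comm hA (hsmem B hB).1 a ha b hb
  have hw' : w ∈ A₀ ⊔ s.sup id := by
    refine (_root_.sSup_le fun B hB => ?_ : sSup d.glob.inSyl ≤ _) hw
    by_cases hBA : B = A₀
    · exact hBA ▸ le_sup_left
    · exact le_trans (Finset.le_sup (f := id) (Finset.mem_erase.2 ⟨hBA, Set.mem_toFinset.2 hB⟩)) le_sup_right
  rw [← SetLike.mem_coe, coe_mul_of_right_le_normalizer_left _ _ hn] at hw'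
  obtain ⟨a, ha, r, hr, har⟩ := hw'
  have har' : a * r = w := har
  have hr1 : r = 1 := by
    refine inner_eq_one Xof hXof s (fun B hB => (hsmem B hB).1) r hr fun B hB v => ?_
    have hAfix : img d.φ A₀ ≤ fixA d.φ (Xof B) := by
      rw [← sSup_singleton (a := A₀)]
      refine img_sSup_le fun C hC c hc u => ?_
      rw [Set.mem_singleton_iff.1 hC] at hc
      exact (d.ff.comm_mem hA.1 (hXof B (hsmem B hB).1).1.1
        (d.glob.other_comm (hsmem B hB).1 hA (hXof B (hsmem B hB).1).1 (hXof B (hsmem B hB).1).2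
          (hsmem B hB).2.symm) hc u).2
    have e : dd d.φ w v = dd d.φ a (d.φ r v) + dd d.φ r v := by
      rw [← har', dd_apply, dd_apply, dd_apply, phi_mul]; abel
    have h1 := (fixA d.φ (Xof B)).sub_mem (hAfix (hwA v)) (hAfix (dd_mem_img ha (d.φ r v)))
    rwa [e, add_sub_cancel_left] at h1
  rw [← har', hr1, mul_one]
  exact ha

/-- the images of the class form a perfect group -/
theorem blk_perfect [(pc.rad.subgroupOf pc.blk).Normal] :
    commutator (↥pc.blk ⧸ pc.rad.subgroupOf pc.blk) = ⊤ := by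
  classical
  set N := pc.rad.subgroupOf pc.blk
  set ρB := S.perm h hA hX hnc pc with hρB
  set K := commutator (↥pc.blk ⧸ N)
  have htop : Cfsg.pResidual p ↥pc.blk = ⊤ := by
    refine map_injective pc.blk.subtype_injective ?_
    rw [← MonoidHom.range_eq_map, range_subtype]
    exact blk_residual h hA hX hnc pc S.p_two
  rw [← top_le_iff, ← map_top_of_surjective _ (QuotientGroup.mk'_surjective N), ← htop, map_le_iff_le_comap]
  refine (closure_le _).2 fun g hg => ?_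
  show QuotientGroup.mk' N g ∈ K
  have hg' : (orderOf g).Coprime p := hg
  have hcomm : (commutator ↥pc.blk).map ρB = alternatingGroup (Fin (2 ^ S.n + 1)) := by
    rw [_root_.commutator_def, map_commutator, ← MonoidHom.range_eq_map, hρB, S.perm_range,
      commutator_alternatingGroup_eq_self S.five_le]
  obtain ⟨k, hk, hke⟩ : ρB g ∈ (commutator ↥pc.blk).map ρB := by
    rw [hcomm, ← S.perm_range h hA hX hnc pc]; exact ⟨g, rfl⟩
  have hz : (k⁻¹ * g : ↥pc.blk).1 ∈ cS p G := by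
    rw [← S.perm_eq_one h hA hX hnc pc, ← hρB, map_mul, map_inv, hke, inv_mul_cancel]
  obtain ⟨j, hj⟩ := Cfsg.Lib.Components.isPGroup_pCore (G := G) p
    ⟨_, blk_baumann_inf_cS h hA hX hnc pc S.p_two ⟨mem_sup_left (k⁻¹ * g).2, hz⟩⟩
  have hj' : ((k⁻¹ * g : ↥pc.blk) : G) ^ p ^ j = 1 := congrArg Subtype.val hj
  set π := QuotientGroup.mk' N
  have hkK : π k ∈ K := by
    have h1 := mem_map_of_mem π hk
    rw [_root_.commutator_def, map_commutator] at h1
    exact commutator_mono le_top le_top h1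
  have hcen : Commute (π k) (π (k⁻¹ * g)) := by
    rw [← commutatorElement_eq_one_iff_commute, ← map_commutatorElement]
    refine (QuotientGroup.eq_one_iff _).2 (mem_subgroupOf.2 ?_)
    have h1 := inv_mem (cS_comm h hA hX hnc pc S.p_two hz k.2)
    rw [commutatorElement_inv] at h1
    exact h1
  have hpowK : π g ^ p ^ j ∈ K := by
    have e : π g = π k * π (k⁻¹ * g) := by rw [← map_mul, mul_inv_cancel_left]
    have e1 : π (k⁻¹ * g) ^ p ^ j = 1 := by
      rw [← map_pow, show (k⁻¹ * g) ^ p ^ j = 1 from Subtype.ext hj', map_one]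
    rw [e, hcen.mul_pow, e1, mul_one]
    exact pow_mem hkK _
  obtain ⟨m, hm⟩ := exists_pow_eq_self_of_coprime
    (show (p ^ j).Coprime (orderOf (π g)) from
      ((hg'.coprime_dvd_left (orderOf_map_dvd π g)).pow_right j).symm)
  rw [← hm]
  exact pow_mem hpowK m

/-- the part in the centralizer of `V` is the module part -/
theorem blk_inf_cS_le : pc.blk ⊓ cS p G ≤ pc.rad := by
  classical
  obtain ⟨b, hb, hbA, hb1, hbs⟩ := good_image h hA hX hnc pc S
  obtain ⟨y, hy, A, hA1, hAX, hAy⟩ := S.second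
  have hne : A ≠ A₀ := fun he => hnc (he ▸ hAX)
  obtain ⟨a₂, ha₂, ha₂1⟩ := d.ff.exists_ne_one hA1.1
  obtain ⟨haS, hx', hxne, hρa⟩ := S.inner_swap hX hA (d.glob.mem_cls_self hX) hnc hbA hb1
  obtain ⟨ha₂S, hy', hyne, hρa₂⟩ := S.inner_swap hX hA1 hy hAy ha₂ ha₂1
  set P' := S.ι ⟨X₀, d.glob.mem_cls_self hX⟩
  set Q' := S.ι ⟨_, hx'⟩
  set R' := S.ι ⟨y, hy⟩
  set S' := S.ι ⟨_, hy'⟩
  have hx'c := (d.glob.inner_conj hA hX hnc hbA hb1).2.2.1
  have hy'c := (d.glob.inner_conj hA1 hy.1 hAy ha₂ ha₂1).2.2.1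
  have hpq : P' ≠ Q' := fun e => hxne (S.ι_inj e)
  have hrs : R' ≠ S' := fun e => hyne (S.ι_inj e)
  have hval : ∀ {u v : d.glob.cls X₀}, S.ι u = S.ι v → (u : Subgroup (G ⧸ cS p G)) = v :=
    fun e => congrArg Subtype.val (S.ι_inj e)
  have hdiff : ∀ {u v : Subgroup (G ⧸ cS p G)}, v ∈ d.glob.outer → ¬ Comm A₀ u → ¬ Comm A v → u ≠ v :=
    fun hv h1 h2 e => hne (d.glob.single hA1 hA hv h2 (e ▸ h1))
  have hpr : P' ≠ R' := fun e => hdiff hy.1 hnc hAy (hval e)
  have hps : P' ≠ S' := fun e => hdiff hy'.1 hnc hy'c (hval e)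
  have hqr : Q' ≠ R' := fun e => hdiff hy.1 hx'c hAy (hval e)
  have hqs : Q' ≠ S' := fun e => hdiff hy'.1 hx'c hy'c (hval e)
  set σ := Equiv.swap P' R' * Equiv.swap Q' S' with hσ
  obtain ⟨⟨g, hg⟩, hgσ⟩ := S.exists_elt h hA hX hnc pc (σ := σ) (Cfsg.Lib.Schur.Alt.swap_swap_mem hpr hqs)
  have hσconj : σ * Equiv.swap P' Q' * σ⁻¹ = Equiv.swap R' S' := by
    rw [← Equiv.swap_apply_apply, hσ, Equiv.Perm.mul_apply, Equiv.Perm.mul_apply, Equiv.swap_apply_left Q' S',
      Equiv.swap_apply_of_ne_of_ne hpq hps, Equiv.swap_apply_left P' R',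
      Equiv.swap_apply_of_ne_of_ne (Ne.symm hps) (Ne.symm hrs)]
  have hgS : prj p G g ∈ d.symOf X₀ := blk_image_le h hA hX hnc pc S.p_two (mem_map_of_mem _ hg)
  have hgb : prj p G g * prj p G b * (prj p G g)⁻¹ = a₂ := by
    have e : S.ρ (⟨_, hgS⟩ * ⟨_, haS⟩ * (⟨_, hgS⟩)⁻¹) = S.ρ ⟨a₂, ha₂S⟩ := by
      rw [map_mul, map_mul, map_inv, hρa, hρa₂, show S.ρ ⟨prj p G g, hgS⟩ = σ from hgσ, hσconj]
    exact congrArg Subtype.val (S.ρ.injective e)
  obtain ⟨b₂, hb₂, hb₂e⟩ := d.baumann_image.ge (le_sSup hA1 ha₂)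
  have hsq : prj p G b * prj p G b = 1 := by
    have h1 := (d.ff.el hA.1).2 _ hbA
    rw [show prj p G b ^ p = prj p G b ^ 2 from congrArg (prj p G b ^ ·) S.p_two, pow_two] at h1
    exact h1
  -- the comparison element
  set k := g * b⁻¹ * g⁻¹ * b₂⁻¹ with hk
  have hkc : k ∈ cS p G := by
    rw [← d.prj_eq_one, hk, map_mul, map_mul, map_mul, map_inv, map_inv, map_inv, hb₂e,
      inv_eq_of_mul_eq_one_right hsq, hgb, mul_inv_cancel]
  have hkmem : k ∈ pc.blk ⊔ Cfsg.baumannSubgroupOf p (T : Subgroup G) :=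
    mul_mem (mul_mem (mul_mem (mem_sup_left hg) (mem_sup_right (inv_mem hb))) (mem_sup_left (inv_mem hg)))
      (mem_sup_right (inv_mem hb₂))
  have hkT : k ∈ (T : Subgroup G) :=
    Cfsg.Lib.Coprime.pCore_le_sylow p T (blk_baumann_inf_cS h hA hX hnc pc S.p_two ⟨hkmem, hkc⟩)
  set D := ⁅b, g⁆ with hD
  have hDk : D = b * k * b₂ := by rw [hD, hk, commutatorElement_def]; group
  have hBn := baumann_normalizes h hA hX hnc pc S.p_two
  have hDblk : D ∈ pc.blk := by
    rw [hD, commutatorElement_def]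
    exact mul_mem ((mem_normalizer_iff.1 (hBn hb) g).1 hg) (inv_mem hg)
  have hUB : ∀ z ∈ Cfsg.baumannSubgroupOf p (T : Subgroup G), ∀ u ∈ pc.rad, z * u * z⁻¹ ∈ pc.rad :=
    fun z hz u hu => (mem_normalizer_iff.1 (baumann_normalizes_rad h hA hX hnc pc S.p_two hz) u).1 hu
  have hUE : ∀ z ∈ pc.blk, ∀ u ∈ pc.rad, z * u * z⁻¹ ∈ pc.rad :=
    fun z hz u hu => (mem_normalizer_iff.1 (blk_normalizes_rad h hA hX hnc pc S.p_two hz) u).1 hu
  have hUV : pc.rad ≤ vS p G := rad_le_vS h hA hX hnc pc S.p_two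
  have hyk : ∀ z ∈ yS p (T : Subgroup G), Commute k z := by
    intro z hz
    have hzC : z ∈ cS p G := pCore_le_cS (d.yS_le_core h.min hz)
    have hbz : Commute b z := (mem_centralizer_iff.1 hb.2 z hz).symm
    have hb₂z : Commute b₂ z := (mem_centralizer_iff.1 hb₂.2 z hz).symm
    -- commutators with the centralizer of `V` land in the module part
    have hl : ∀ {e c}, e ∈ pc.blk → c ∈ cS p G → ∃ u ∈ pc.rad, e * c * e⁻¹ = u * c := by
      intro e c he hc
      refine ⟨⁅e, c⁆, ?_, by rw [commutatorElement_def]; group⟩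
      rw [← commutatorElement_inv]
      exact inv_mem (cS_comm h hA hX hnc pc S.p_two hc he)
    obtain ⟨u₁, hu₁, e₁⟩ := hl (inv_mem hg) hzC
    obtain ⟨u₂, hu₂, e₂⟩ := hl hg hzC
    set s := k * z * k⁻¹ * z⁻¹ with hs
    have hsU : s ∈ pc.rad := by
      have e3 : k * z * k⁻¹ = (g * b⁻¹) * (g⁻¹ * z * g) * (g * b⁻¹)⁻¹ := by
        calc k * z * k⁻¹ = g * b⁻¹ * g⁻¹ * (b₂⁻¹ * z * b₂) * (g * b⁻¹ * g⁻¹)⁻¹ := by rw [hk]; group
          _ = g * b⁻¹ * g⁻¹ * z * (g * b⁻¹ * g⁻¹)⁻¹ := by rw [mul_assoc b₂⁻¹, ← hb₂z.eq, inv_mul_cancel_left]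
          _ = _ := by group
      have e4 : g⁻¹ * z * g = u₁ * z := by simpa using e₁
      have e5 : g * b⁻¹ * (u₁ * z) * (g * b⁻¹)⁻¹ = g * (b⁻¹ * u₁ * b) * g⁻¹ * (u₂ * z) := by
        rw [← e₂]
        calc g * b⁻¹ * (u₁ * z) * (g * b⁻¹)⁻¹ = g * (b⁻¹ * u₁ * b) * (b⁻¹ * z * b) * g⁻¹ := by group
          _ = g * (b⁻¹ * u₁ * b) * z * g⁻¹ := by rw [mul_assoc b⁻¹ z, ← hbz.eq, inv_mul_cancel_left]
          _ = _ := by group
      rw [hs, e3, e4, e5, ← mul_assoc, mul_inv_cancel_right]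
      exact mul_mem (hUE g hg _ (by simpa using hUB b⁻¹ (inv_mem hb) u₁ hu₁)) hu₂
    have hs1 : s = 1 := by
      refine S.rad_fixed h hA hX hnc pc hsU fun e he => ?_
      obtain ⟨α, hα, eα⟩ := hl he hkc
      obtain ⟨β, hβ, eβ⟩ := hl he hzC
      have hconj : e * s * e⁻¹ = s := by
        have c1 : Commute k β := (mem_centralizer_iff.1 hkc β (hUV hβ)).symm
        have c2 : Commute z α⁻¹ := (mem_centralizer_iff.1 hzC _ (hUV (inv_mem hα))).symm
        have c3 : ∀ u ∈ pc.rad, ∀ v ∈ pc.rad, Commute u v := fun u hu v hv =>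
          mem_centralizer_iff.1 (vS_le_cS (hUV hv)) u (hUV hu)
        calc e * s * e⁻¹ = (e * k * e⁻¹) * (e * z * e⁻¹) * (e * k * e⁻¹)⁻¹ * (e * z * e⁻¹)⁻¹ := by
              rw [hs]; group
          _ = α * (k * β) * z * k⁻¹ * α⁻¹ * z⁻¹ * β⁻¹ := by rw [eα, eβ]; group
          _ = α * β * (k * z * k⁻¹ * z⁻¹) * (z * α⁻¹) * z⁻¹ * β⁻¹ := by rw [c1.eq]; group
          _ = α * β * s * α⁻¹ * β⁻¹ := by rw [c2.eq, ← hs]; group
          _ = s := by
            rw [mul_assoc α β s, (c3 _ (mul_mem hα hβ) _ hsU |> fun (c : Commute (α * β) s) =>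
              show α * (β * s) = s * (α * β) by rw [← mul_assoc]; exact c.eq)]
            rw [(c3 α hα β hβ).eq]; group
      rw [← mul_inv_eq_iff_eq_mul]
      exact hconj
    rw [Commute, SemiconjBy, ← mul_inv_eq_iff_eq_mul, ← mul_inv_eq_one]
    exact hs1
  have hDB : D ∈ Cfsg.baumannSubgroupOf p (T : Subgroup G) := by
    refine ⟨?_, mem_centralizer_iff.2 fun z hz => ?_⟩
    · rw [hDk]
      exact (T : Subgroup G).mul_mem ((T : Subgroup G).mul_mem (baumann_le T hb) hkT) (baumann_le T hb₂)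
    · have h1 : Commute b z := (mem_centralizer_iff.1 hb.2 z hz).symm
      have h3 : Commute b₂ z := (mem_centralizer_iff.1 hb₂.2 z hz).symm
      rw [hDk]
      exact ((h1.mul_left (hyk z hz)).mul_left h3).eq.symm
  have hbb : b * b ∈ cS p G := by rw [← d.prj_eq_one, map_mul, hsq]
  have hDD : D * D ∈ pc.rad := by
    have e : D * D = ⁅b, D⁆⁻¹ * ⁅b * b, g⁆ := by simp only [hD, commutatorElement_def]; group
    rw [e]
    exact mul_mem (inv_mem (hbs D hDB)) (cS_comm h hA hX hnc pc S.p_two hbb hg)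
  -- the quotient
  haveI hN : (pc.rad.subgroupOf pc.blk).Normal :=
    normal_subgroupOf_of_le_normalizer (blk_normalizes_rad h hA hX hnc pc S.p_two)
  set N := pc.rad.subgroupOf pc.blk with hNdef
  let ρ' : ↥pc.blk ⧸ N →* Equiv.Perm (Fin (2 ^ S.n + 1)) :=
    QuotientGroup.lift N (S.perm h hA hX hnc pc) fun u hu =>
      (S.perm_eq_one h hA hX hnc pc u).2 (vS_le_cS (hUV (mem_subgroupOf.1 hu)))
  have hr : ρ'.range = alternatingGroup (Fin (2 ^ S.n + 1)) := by
    rw [← S.perm_range h hA hX hnc pc]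
    ext τ
    constructor
    · rintro ⟨z, rfl⟩
      obtain ⟨z, rfl⟩ := QuotientGroup.mk'_surjective N z
      exact ⟨z, rfl⟩
    · rintro ⟨z, rfl⟩
      exact ⟨QuotientGroup.mk' N z, rfl⟩
  have hc : ρ'.ker ≤ center (↥pc.blk ⧸ N) := by
    intro z hz
    obtain ⟨z, rfl⟩ := QuotientGroup.mk'_surjective N z
    refine mem_center_iff.2 fun w => ?_
    obtain ⟨w, rfl⟩ := QuotientGroup.mk'_surjective N w
    rw [← commutatorElement_eq_one_iff_mul_comm, ← map_commutatorElement]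
    refine (QuotientGroup.eq_one_iff _).2 (mem_subgroupOf.2 ?_)
    have h1 := inv_mem (cS_comm h hA hX hnc pc S.p_two ((S.perm_eq_one h hA hX hnc pc z).1 hz) w.2)
    rw [commutatorElement_inv] at h1
    exact h1
  have hperf := blk_perfect h hA hX hnc pc S
  have hn2 := Nat.pow_le_pow_right two_pos S.two_le
  have hev : 2 ∣ 2 ^ S.n := dvd_pow_self 2 (by have := S.two_le; omega)
  have hcard := Cfsg.Lib.Schur.Alt.card_ker_le (ρ := ρ') (by omega)
    (by omega) (by
      intro h7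
      have h6 : 2 ^ S.n = 6 := by omega
      have : S.n ≤ 2 ∨ 3 ≤ S.n := by omega
      rcases this with h2 | h3
      · have := Nat.pow_le_pow_right two_pos h2; omega
      · have := Nat.pow_le_pow_right two_pos h3; omega)
    hc hr (by rw [hperf]; exact le_top)
  intro z hz
  by_contra hzU
  set ζ := QuotientGroup.mk' N ⟨z, hz.1⟩ with hζ
  have hζ1 : ζ ≠ 1 := fun he => hzU (mem_subgroupOf.1 ((QuotientGroup.eq_one_iff _).1 he))
  have hζρ : ρ' ζ = 1 := (S.perm_eq_one h hA hX hnc pc ⟨z, hz.1⟩).2 hz.2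
  have hker : ∀ w, ρ' w = 1 → w = 1 ∨ w = ζ := by
    intro w hw
    by_contra hcon
    push Not at hcon
    have h1 : ({1, ζ, w} : Set (↥pc.blk ⧸ N)) ⊆ ρ'.ker := by
      rintro u (rfl | rfl | rfl)
      exacts [one_mem _, hζρ, hw]
    have h2 := Set.ncard_le_ncard h1 (Set.toFinite _)
    rw [Set.ncard_insert_of_notMem (by simp [hζ1.symm, hcon.1.symm]), Set.ncard_pair hcon.2.symm,
      ← Nat.card_coe_set_eq] at h2
    change _ ≤ Nat.card ρ'.ker at h2
    omega
  let C : Cfsg.Lib.AltCover.Cover (2 ^ S.n + 1) (↥pc.blk ⧸ N) :=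
    { ρ := ρ', z := ζ, hn := by omega, hc := hc, hr := hr, hz := hζ1, hρz := hζρ, hker := hker, hperf := hperf }
  let Dh : ↥pc.blk := ⟨D, hDblk⟩
  have hDρ : C.ρ (QuotientGroup.mk' N Dh) = Equiv.swap P' Q' * Equiv.swap R' S' := by
    show S.perm h hA hX hnc pc Dh = _
    have e : (⟨prj p G D, blk_image_le h hA hX hnc pc S.p_two (mem_map_of_mem _ hDblk)⟩ : ↥(d.symOf X₀)) =
        ⁅(⟨prj p G b, haS⟩ : ↥(d.symOf X₀)), (⟨prj p G g, hgS⟩ : ↥(d.symOf X₀))⁆ :=
      Subtype.ext (map_commutatorElement (prj p G) b g)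
    rw [S.perm_apply h hA hX hnc pc, show (⟨prj p G (Dh : G), _⟩ : ↥(d.symOf X₀)) = _ from e,
      map_commutatorElement S.ρ, hρa, show S.ρ ⟨prj p G g, hgS⟩ = σ from hgσ, commutatorElement_def,
      Equiv.swap_inv, mul_assoc, mul_assoc, ← mul_assoc σ, hσconj]
  have h4 := C.sq_double (by simp [hpq, hpr, hps, hqr, hqs, hrs]) hDρ
  rw [← map_mul] at h4
  exact C.hz (h4.symm.trans ((QuotientGroup.eq_one_iff _).2 (mem_subgroupOf.2 hDD)))

end Env

end Cfsg.Lib.PushMin
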