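import Cfsg.Agent.PushUpBlocks.SymSetup

/-!
Pushing up in a minimal parabolic group: a class as an alternating group on its natural module.
-/

set_option autoImplicit false
set_option linter.unusedSectionVars false
set_option linter.style.haveILetI false

namespace Cfsg.Lib.PushMin

open Subgroup Cfsg.Lib.FFSLTwo Cfsg.Lib.FFModule
open scoped commutatorElement

universe u

/-- a permutation of square one interchanging two transpositions through a common letter -/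
theorem eq_swap_of_conj {α : Type*} [DecidableEq α] {o a b : α} {σ : Equiv.Perm α} (hao : a ≠ o) (hbo : b ≠ o)
    (hab : a ≠ b) (hσ : σ * σ = 1) (hfix : ∀ i, i ≠ o → i ≠ a → i ≠ b → σ i = i)
    (hconj : σ * Equiv.swap o a * σ⁻¹ = Equiv.swap o b) : σ = Equiv.swap a b := by
  have hinv : ∀ i, σ (σ i) = i := fun i => by rw [← Equiv.Perm.mul_apply, hσ]; rfl
  rw [← Equiv.swap_apply_apply] at hconj
  have hso : σ o = o := by
    by_contra hne
    have h1 : Equiv.swap (σ o) (σ a) o = b := by rw [hconj, Equiv.swap_apply_left]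
    by_cases h2 : σ a = o
    · rw [h2, Equiv.swap_apply_right] at h1
      exact hab (by rw [← hinv a, h2]; exact h1)
    · rw [Equiv.swap_apply_of_ne_of_ne (Ne.symm hne) (Ne.symm h2)] at h1
      exact hbo h1.symm
  have hsa : σ a = b := by
    have h1 : Equiv.swap (σ o) (σ a) o = b := by rw [hconj, Equiv.swap_apply_left]
    rwa [hso, Equiv.swap_apply_left] at h1
  refine Equiv.ext fun i => ?_
  by_cases h1 : i = a
  · rw [h1, hsa, Equiv.swap_apply_left]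
  by_cases h2 : i = b
  · rw [h2, ← hsa, hinv, Equiv.swap_apply_right]
  rw [Equiv.swap_apply_of_ne_of_ne h1 h2]
  by_cases h3 : i = o
  · rw [h3, hso]
  · exact hfix i h3 h1 h2

variable {G : Type u} [Group G] {p : ℕ} [Finite G] [hp : Fact p.Prime]

namespace Env

variable {T : Sylow p G} {W : Type u} [AddCommGroup W] [Finite W] {d : Env T W}
variable {A₀ X₀ : Subgroup (G ⧸ cS p G)}

/-- a class as a symmetric group -/
structure SymData (d : Env T W) (X₀ : Subgroup (G ⧸ cS p G)) where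
  n : ℕ
  two_le : 2 ≤ n
  q_two : d.q = 2
  p_two : p = 2
  ρ : ↥(d.symOf X₀) ≃* Equiv.Perm (Fin (2 ^ n + 1))
  Ψ : W →+ (Fin (2 ^ n + 1) → ZMod 2)
  o : Fin (2 ^ n + 1)
  ι : d.glob.cls X₀ → Fin (2 ^ n + 1)
  sum0 : ∀ v, ∑ i, Ψ v i = 0
  surj : ∀ z : Fin (2 ^ n + 1) → ZMod 2, ∑ i, z i = 0 → ∃ u ∈ img d.φ (d.symOf X₀), Ψ u = z
  ker : ∀ v, Ψ v = 0 ↔ v ∈ fixA d.φ (d.symOf X₀)
  act : ∀ (g : ↥(d.symOf X₀)) v i, Ψ (d.φ (g : G ⧸ cS p G) v) i = Ψ v ((ρ g)⁻¹ i)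
  inj0 : ∀ v ∈ img d.φ (d.symOf X₀), Ψ v = 0 → v = 0
  ι_inj : Function.Injective ι
  ι_ne : ∀ x, ι x ≠ o
  swap : ∀ (x : d.glob.cls X₀) (a : G ⧸ cS p G) (ha : a ∈ (x : Subgroup (G ⧸ cS p G))), a ≠ 1 →
    ρ ⟨a, le_sSup x.2 ha⟩ = Equiv.swap o (ι x)
  ι_all : ∀ i, i = o ∨ ∃ x, ι x = i
  second : ∃ y ∈ d.glob.cls X₀, ∃ A ∈ d.glob.inSyl, Comm A X₀ ∧ ¬ Comm A y

theorem exists_second (d : Env T W) (hA : A₀ ∈ d.glob.inSyl) (hX : X₀ ∈ d.glob.outer) (hnc : ¬ Comm A₀ X₀)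
    (hmany : ¬ d.OneInner) :
    ∃ y ∈ d.glob.cls X₀, ∃ A ∈ d.glob.inSyl, A ≠ A₀ ∧ ¬ Comm A y := by
  rw [OneInner] at hmany
  push Not at hmany
  obtain ⟨A, A', x, y, hA1, hA2, hx, hy, h1, h2, h3, hne⟩ := hmany
  obtain ⟨t, ht, htx⟩ := d.glob.outer_transitive hx hX
  have htM := d.glob.hTM ht
  refine ⟨FFSLTwo.cj t y, htx ▸ d.glob.cj_cls htM ⟨hy, Or.inr h3⟩, _, d.glob.cj_inSyl ht hA2, ?_,
    fun hc => h2 ((comm_cj_iff t).1 hc)⟩
  have h4 : FFSLTwo.cj t A = A₀ :=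
    d.glob.single (d.glob.cj_inSyl ht hA1) hA hX (by rw [← htx]; exact fun hc => h1 ((comm_cj_iff t).1 hc)) hnc
  exact fun he => hne (cj_inj (h4.trans he.symm))

theorem exists_symData (d : Env T W) (hA : A₀ ∈ d.glob.inSyl) (hX : X₀ ∈ d.glob.outer) (hnc : ¬ Comm A₀ X₀)
    (hq : d.q = 2) (hmany : ¬ d.OneInner) : Nonempty (d.SymData X₀) := by
  classical
  obtain ⟨y, hy, A, hA1, hne, hAy⟩ := exists_second d hA hX hnc hmany
  obtain ⟨n, hn1, hn⟩ := d.glob.card_cls hq hX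
  have h2 := d.glob.two_le_exp hq hX hy hA hA1 hnc hAy hne.symm hn
  obtain ⟨ρ, Ψ, o, ι, h3, h4, h5, h6, h7, h8, h9, h10⟩ := d.ff.perm_swap hq (D := d.glob.cls X₀)
    (fun x hx => hx.1.1) (fun x hx z hz hxz => d.glob.cls_nc hX hx hz hxz) hn1 hn
  refine ⟨⟨n, h2, hq, d.ff.char_two hA.1 hq, ρ, Ψ, o, ι, h3, h4, h5, h6, h7, h8, h9, h10, fun i => ?_,
    y, hy, A, hA1, d.glob.other_comm hA hA1 hX hnc hne, hAy⟩⟩
  haveI : Fintype (d.glob.cls X₀) := Fintype.ofFinite _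
  have hsurj : Finset.univ.image ι = Finset.univ.erase o := by
    refine Finset.eq_of_subset_of_card_le (fun i hi => ?_) ?_
    · obtain ⟨x, -, rfl⟩ := Finset.mem_image.1 hi
      exact Finset.mem_erase.2 ⟨h9 x, Finset.mem_univ _⟩
    · rw [Finset.card_image_of_injective _ h8, Finset.card_erase_of_mem (Finset.mem_univ _), Finset.card_univ,
        Finset.card_univ, Fintype.card_fin, ← Nat.card_eq_fintype_card, hn]
      omega
  by_cases hi : i = o
  · exact Or.inl hi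
  · obtain ⟨x, -, hx⟩ := Finset.mem_image.1 (hsurj.ge (Finset.mem_erase.2 ⟨hi, Finset.mem_univ i⟩))
    exact Or.inr ⟨x, hx⟩

namespace SymData

variable (S : d.SymData X₀)

theorem five_le : 5 ≤ Nat.card (Fin (2 ^ S.n + 1)) := by
  rw [Nat.card_fin]
  have := Nat.pow_le_pow_right two_pos S.two_le
  omega

theorem exists_third (i k : Fin (2 ^ S.n + 1)) : ∃ j, j ≠ i ∧ j ≠ k := by
  by_contra hcon
  push Not at hcon
  have h1 : (Finset.univ : Finset (Fin (2 ^ S.n + 1))) ⊆ {i, k} := fun j _ => by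
    by_cases hj : j = i
    · simp [hj]
    · simp [hcon j hj]
  have h2 := (Finset.card_le_card h1).trans Finset.card_le_two
  have := S.five_le
  rw [Nat.card_fin] at this
  rw [Finset.card_univ, Fintype.card_fin] at h2
  omega

/-- an inner member acts as the transposition of the two outer members it interchanges -/
theorem inner_swap (hX : X₀ ∈ d.glob.outer) {A x : Subgroup (G ⧸ cS p G)} (hA1 : A ∈ d.glob.inSyl)
    (hx : x ∈ d.glob.cls X₀) (hAx : ¬ Comm A x) {a : G ⧸ cS p G} (ha : a ∈ A) (ha1 : a ≠ 1) :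
    ∃ (haS : a ∈ d.symOf X₀) (hx' : FFSLTwo.cj a x ∈ d.glob.cls X₀), (⟨x, hx⟩ : d.glob.cls X₀) ≠ ⟨_, hx'⟩ ∧
      S.ρ ⟨a, haS⟩ = Equiv.swap (S.ι ⟨x, hx⟩) (S.ι ⟨_, hx'⟩) := by
  obtain ⟨h1, h2, -, h4⟩ := d.glob.inner_conj hA1 hx.1 hAx ha ha1
  have hcls := d.glob.cls_eq hX hx
  rw [hcls] at h1
  have haL : a ∈ x ⊔ FFSLTwo.cj a x := h4 ▸ mem_sup_left ha
  have haS : a ∈ d.symOf X₀ := _root_.sup_le (le_sSup hx) (le_sSup h1) haL
  refine ⟨haS, h1, fun he => h2 (congrArg Subtype.val he), ?_⟩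
  obtain ⟨b, hb, hb1⟩ := d.ff.exists_ne_one hx.1.1
  have hb' : a * b * a⁻¹ ∈ FFSLTwo.cj a x := conj_mem_cj hb
  have hb'1 : a * b * a⁻¹ ≠ 1 := fun he => hb1 (by simpa using he)
  refine eq_swap_of_conj (S.ι_ne _) (S.ι_ne _) (fun he => h2 (congrArg Subtype.val (S.ι_inj he))) ?_
    (fun i hio hia hib => ?_) ?_
  · rw [← map_mul, show (⟨a, haS⟩ * ⟨a, haS⟩ : ↥(d.symOf X₀)) = 1 from Subtype.ext ?_, map_one]
    have := (d.ff.el hA1.1).2 a ha
    have e : a ^ p = a ^ 2 := congrArg (a ^ ·) S.p_two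
    rw [e, pow_two] at this
    exact this
  · set K := ((MulAction.stabilizer (Equiv.Perm (Fin (2 ^ S.n + 1))) i).comap S.ρ.toMonoidHom).map
      (d.symOf X₀).subtype
    have hle : ∀ z : d.glob.cls X₀, S.ι z ≠ i → (z : Subgroup (G ⧸ cS p G)) ≤ K := by
      intro z hz c hc
      refine ⟨⟨c, le_sSup z.2 hc⟩, ?_, rfl⟩
      show S.ρ ⟨c, le_sSup z.2 hc⟩ • i = i
      by_cases hc1 : c = 1
      · subst hc1
        rw [show (⟨1, le_sSup z.2 hc⟩ : ↥(d.symOf X₀)) = 1 from rfl, map_one, one_smul]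
      · rw [S.swap z c hc hc1, Equiv.Perm.smul_def, Equiv.swap_apply_of_ne_of_ne hio hz.symm]
    obtain ⟨⟨c, hcS⟩, hc, hca⟩ := _root_.sup_le (hle ⟨x, hx⟩ hia.symm) (hle ⟨_, h1⟩ hib.symm) haL
    obtain rfl : c = a := hca
    exact hc
  · rw [← S.swap ⟨x, hx⟩ b hb hb1, ← S.swap ⟨_, h1⟩ _ hb' hb'1, ← map_inv, ← map_mul, ← map_mul]
    rfl

section

variable (h : Hyps T) (hA : A₀ ∈ d.glob.inSyl) (hX : X₀ ∈ d.glob.outer) (hnc : ¬ Comm A₀ X₀)
variable (pc : d.Piece A₀ X₀)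

/-- restriction to the subgroup of the class -/
noncomputable def restr : ↥pc.blk →* ↥(d.symOf X₀) :=
  ((prj p G).comp pc.blk.subtype).codRestrict _ fun x =>
    blk_image_le h hA hX hnc pc S.p_two (mem_map_of_mem _ x.2)

/-- the permutations -/
noncomputable def perm : ↥pc.blk →* Equiv.Perm (Fin (2 ^ S.n + 1)) :=
  S.ρ.toMonoidHom.comp (S.restr h hA hX hnc pc)

theorem perm_apply (g : ↥pc.blk) :
    S.perm h hA hX hnc pc g = S.ρ ⟨prj p G g, blk_image_le h hA hX hnc pc S.p_two (mem_map_of_mem _ g.2)⟩ := rfl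

theorem perm_eq_one (g : ↥pc.blk) : S.perm h hA hX hnc pc g = 1 ↔ (g : G) ∈ cS p G := by
  rw [perm_apply, map_eq_one_iff _ S.ρ.injective, ← d.prj_eq_one, Subtype.ext_iff]
  rfl

theorem perm_range : (S.perm h hA hX hnc pc).range = alternatingGroup (Fin (2 ^ S.n + 1)) := by
  classical
  set ρB := S.perm h hA hX hnc pc
  apply le_antisymm
  · rw [MonoidHom.range_eq_map, map_le_iff_le_comap]
    have htop : Cfsg.pResidual p ↥pc.blk = ⊤ := by
      refine map_injective pc.blk.subtype_injective ?_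
      rw [← MonoidHom.range_eq_map, range_subtype]
      exact blk_residual h hA hX hnc pc S.p_two
    rw [← htop]
    refine (closure_le _).2 fun g hg => ?_
    show ρB g ∈ alternatingGroup _
    rw [Equiv.Perm.mem_alternatingGroup, ← orderOf_eq_one_iff]
    refine Nat.eq_one_of_dvd_coprimes hg
      (orderOf_map_dvd ((Equiv.Perm.sign).comp ρB) g) ?_
    exact (orderOf_dvd_of_pow_eq_one (Int.units_sq _)).trans (dvd_of_eq S.p_two.symm)
  · have hne := blk_image_ne_bot h hA hX hnc pc S.p_two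
    have hle := blk_image_le h hA hX hnc pc S.p_two
    set R := (pc.blk.map (prj p G)).subgroupOf (d.symOf X₀) with hR
    haveI : R.Normal := normal_subgroupOf_of_le_normalizer (symOf_le h hA hX hnc pc S.p_two)
    have hrange : R.map S.ρ.toMonoidHom = ρB.range := by
      ext σ
      constructor
      · rintro ⟨r, hr, rfl⟩
        obtain ⟨g, hg, hgr⟩ := (mem_subgroupOf.1 hr : (r : G ⧸ cS p G) ∈ pc.blk.map (prj p G))
        exact ⟨⟨g, hg⟩, congrArg S.ρ (Subtype.ext hgr)⟩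
      · rintro ⟨g, rfl⟩
        exact ⟨_, mem_subgroupOf.2 (mem_map_of_mem _ g.2), rfl⟩
    rw [← hrange]
    haveI : (R.map S.ρ.toMonoidHom).Normal := Normal.map inferInstance _ S.ρ.surjective
    refine Equiv.Perm.alternatingGroup_le_of_normal S.five_le ((Subgroup.nontrivial_iff_ne_bot _).2 fun hb => ?_)
    rw [map_eq_bot_iff_of_injective _ S.ρ.injective] at hb
    refine hne ?_
    rw [← map_subgroupOf_eq_of_le hle, ← hR, hb, Subgroup.map_bot]

theorem exists_elt {σ : Equiv.Perm (Fin (2 ^ S.n + 1))} (hσ : σ ∈ alternatingGroup (Fin (2 ^ S.n + 1))) :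
    ∃ g : ↥pc.blk, S.perm h hA hX hnc pc g = σ := by
  rwa [← S.perm_range h hA hX hnc pc] at hσ

include S h hA hX hnc

theorem rad_vec {u : G} (hu : u ∈ pc.rad) : ∃ hV : u ∈ vS p G, d.vec ⟨u, hV⟩ ∈ img d.φ (d.symOf X₀) :=
  commutator_le_imgG d (blk_image_le h hA hX hnc pc S.p_two) hu

theorem vec_conj (g : ↥pc.blk) {v : G} (hv : v ∈ vS p G) (hv' : (g : G) * v * (g : G)⁻¹ ∈ vS p G)
    (i : Fin (2 ^ S.n + 1)) :
    S.Ψ (d.vec ⟨_, hv'⟩) i = S.Ψ (d.vec ⟨v, hv⟩) ((S.perm h hA hX hnc pc g)⁻¹ i) := by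
  rw [perm_apply, ← S.act]
  exact congrArg (fun w => S.Ψ w i) (d.act_eq (g : G) ⟨v, hv⟩ hv').symm

/-- the block centralises nothing in its module part -/
theorem rad_fixed {u : G} (hu : u ∈ pc.rad) (hc : ∀ e ∈ pc.blk, e * u = u * e) : u = 1 := by
  classical
  obtain ⟨hV, himg⟩ := rad_vec S h hA hX hnc pc hu
  have hconst : ∀ i k, S.Ψ (d.vec ⟨u, hV⟩) i = S.Ψ (d.vec ⟨u, hV⟩) k := by
    intro i k
    by_cases hik : i = k
    · rw [hik]
    obtain ⟨j, hji, hjk⟩ := S.exists_third i k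
    obtain ⟨g, hg⟩ := S.exists_elt h hA hX hnc pc
      (Cfsg.Lib.BlockBasic.sign_two_swaps (i := i) (j := j) (k := k) hji.symm hik)
    have hm : (g : G) * u * (g : G)⁻¹ = u := by rw [hc _ g.2, mul_inv_cancel_right]
    have hv' : (g : G) * u * (g : G)⁻¹ ∈ vS p G := by rw [hm]; exact hV
    have h1 := S.vec_conj h hA hX hnc pc g hV hv' i
    rw [show (⟨_, hv'⟩ : vS p G) = ⟨u, hV⟩ from Subtype.ext hm, hg] at h1
    rw [h1]
    congr 1
    rw [mul_inv_rev, Equiv.swap_inv, Equiv.swap_inv, Equiv.Perm.mul_apply, Equiv.swap_apply_left,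
      Equiv.swap_apply_of_ne_of_ne (Ne.symm hik) (Ne.symm hjk)]
  have hzero : S.Ψ (d.vec ⟨u, hV⟩) = 0 := by
    funext i
    have hs := S.sum0 (d.vec ⟨u, hV⟩)
    rw [Finset.sum_congr rfl (fun k _ => hconst k i), Finset.sum_const, Finset.card_univ, Fintype.card_fin,
      nsmul_eq_mul] at hs
    have h2 : ((2 ^ S.n + 1 : ℕ) : ZMod 2) = 1 := by
      have hn0 : S.n ≠ 0 := by have := S.two_le; omega
      push_cast
      rw [show (2 : ZMod 2) = 0 from rfl, zero_pow hn0, zero_add]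
    rw [h2, one_mul] at hs
    exact hs
  have h3 : d.vec ⟨u, hV⟩ = 0 := S.inj0 _ himg hzero
  exact congrArg Subtype.val (Additive.ofMul.injective
    (d.e.injective (h3.trans (map_zero d.e).symm)) : (⟨u, hV⟩ : vS p G) = 1)

end

end SymData

end Env

end Cfsg.Lib.PushMin
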